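/-
General lemmas on group actions: transport along group elements, maximality, simplicity.
-/
import Mathlib

set_option autoImplicit false

namespace Cfsg.Agent.Gol

open scoped Pointwise
open MulAction

section
variable {G : Type*} [Group G] {X : Type*} [MulAction G X]

theorem ncard_smul_eq (g : G) (S : Set X) : S.ncard = {b | g • b ∈ S}.ncard := by
  have : S = (fun b => g • b) '' {b | g • b ∈ S} := by
    ext y
    exact ⟨fun h => ⟨g⁻¹ • y, by simpa using h, by simp⟩, fun ⟨b, hb, e⟩ => e ▸ hb⟩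
  conv_lhs => rw [this]
  exact Set.ncard_image_of_injective _ (MulAction.injective g)

theorem cj (g : G) {h : G} {a b : X} (e : h • a = b) : (g * h * g⁻¹) • g • a = g • b := by
  rw [mul_smul, inv_smul_smul, mul_smul, e]

theorem cj_iff (g h : G) (a b : X) : (g * h * g⁻¹) • g • a = g • b ↔ h • a = b := by
  rw [mul_smul, inv_smul_smul, mul_smul, smul_left_cancel_iff]

theorem tr2 {g h : G} {a : X} : (h * g⁻¹) • g • a = h • a := by rw [mul_smul, inv_smul_smul]

/-- conjugate subgroups are isomorphic -/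
def conjEquiv (g : G) {K K' : Subgroup G} (h : ∀ x, g * x * g⁻¹ ∈ K' ↔ x ∈ K) : K ≃* K' where
  toFun x := ⟨g * x * g⁻¹, (h x).2 x.2⟩
  invFun y := ⟨g⁻¹ * y * g, (h _).1 (by simpa [mul_assoc] using y.2)⟩
  left_inv x := by ext; simp [mul_assoc]
  right_inv x := by ext; simp [mul_assoc]
  map_mul' x y := by ext; simp [mul_assoc]

/-- the same for a subgroup of the ambient group -/
def conjEquiv' {M : Subgroup G} (g : M) {K : Subgroup M} {K' : Subgroup G} (hle : K' ≤ M)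
    (h : ∀ x : M, ((g * x * g⁻¹ : M) : G) ∈ K' ↔ x ∈ K) : K ≃* K' :=
  (conjEquiv g (K' := K'.subgroupOf M) h).trans (Subgroup.subgroupOfEquivOfLe hle)

theorem isCoatom_stab_smul (g : G) {x : X} (h : IsCoatom (stabilizer G x)) :
    IsCoatom (stabilizer G (g • x)) := by
  rw [stabilizer_smul_eq_stabilizer_map_conj]
  exact ((MulAut.conj g).mapSubgroup.isCoatom_iff _).2 h

theorem isCoatom_of_reps {x : X} (hne : ∃ g : G, g • x ≠ x) (reps : List G)
    (h1 : ∀ g : G, g • x = x ∨ ∃ r ∈ reps, ∃ h : G, h • x = x ∧ h • r • x = g • x)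
    (h2 : ∀ r ∈ reps, ∀ K : Subgroup G, stabilizer G x ≤ K → r ∈ K → K = ⊤) :
    IsCoatom (stabilizer G x) := by
  refine ⟨fun e => ?_, fun K hK => ?_⟩
  · obtain ⟨g, hg⟩ := hne
    exact hg (mem_stabilizer_iff.1 (e ▸ Subgroup.mem_top g))
  · obtain ⟨a, ha, ha'⟩ := SetLike.exists_of_lt hK
    rcases h1 a with h | ⟨r, hr, h, e1, e2⟩
    · exact absurd h ha'
    · refine h2 r hr K hK.le ?_
      have h3 : a⁻¹ * h * r ∈ K := hK.le (by
        rw [mem_stabilizer_iff, mul_smul, mul_smul, e2, inv_smul_smul])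
      have h4 := mul_mem (inv_mem (hK.le (mem_stabilizer_iff.2 e1))) (mul_mem ha h3)
      simpa [mul_assoc] using h4

/-- restriction of the action to an invariant finite set -/
def resHom (H : Subgroup G) (S : Finset X) (h : ∀ g ∈ H, ∀ x ∈ S, g • x ∈ S) :
    H →* Equiv.Perm S where
  toFun g := ⟨fun x => ⟨(g : G) • (x : X), h _ g.2 _ x.2⟩,
    fun x => ⟨(g : G)⁻¹ • (x : X), h _ (inv_mem g.2) _ x.2⟩, fun x => by simp, fun x => by simp⟩
  map_one' := by ext; simp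
  map_mul' a b := by ext; simp [mul_smul]

theorem resHom_apply {H : Subgroup G} {S : Finset X} {h : ∀ g ∈ H, ∀ x ∈ S, g • x ∈ S} (g : H)
    (x : S) : (resHom H S h g x : X) = (g : G) • (x : X) := rfl

theorem mem_ker_resHom {H : Subgroup G} {S : Finset X} {h : ∀ g ∈ H, ∀ x ∈ S, g • x ∈ S} {g : H} :
    g ∈ (resHom H S h).ker ↔ ∀ x ∈ S, (g : G) • x = x := by
  rw [MonoidHom.mem_ker, Equiv.ext_iff]
  exact ⟨fun e x hx => congrArg Subtype.val (e ⟨x, hx⟩), fun e x => Subtype.ext (e x x.2)⟩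

theorem card_range_mul_ker {A B : Type*} [Group A] [Group B] (φ : A →* B) :
    Nat.card φ.range * Nat.card φ.ker = Nat.card A := by
  rw [← Subgroup.index_ker, mul_comm, Subgroup.card_mul_index]

theorem orbit_eq_of {H : Subgroup G} {x : X} {S : Set X} (h1 : ∀ g ∈ H, g • x ∈ S)
    (h2 : ∀ y ∈ S, ∃ g ∈ H, g • x = y) : orbit H x = S := by
  ext y
  exact ⟨fun ⟨g, hg⟩ => hg ▸ h1 g g.2, fun hy => by
    obtain ⟨g, hg, e⟩ := h2 y hy
    exact ⟨⟨g, hg⟩, e⟩⟩

theorem orbit_conj (g : G) {H H' : Subgroup G} (h : ∀ x, g * x * g⁻¹ ∈ H' ↔ x ∈ H) (y : X) :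
    orbit H' (g • y) = g • orbit H y := by
  ext z
  constructor
  · rintro ⟨k, rfl⟩
    refine ⟨_, ⟨⟨g⁻¹ * k * g, (h _).1 (by simpa [mul_assoc] using k.2)⟩, rfl⟩, ?_⟩
    simp [Subgroup.smul_def, mul_smul]
  · rintro ⟨_, ⟨k, rfl⟩, rfl⟩
    exact ⟨⟨g * k * g⁻¹, (h _).2 k.2⟩, by simp [Subgroup.smul_def, mul_smul]⟩

theorem card_stab_of_orbit [Finite G] {x : X} {S : Set X} (h1 : ∀ g : G, g • x ∈ S)
    (h2 : ∀ y ∈ S, ∃ g : G, g • x = y) : S.ncard * Nat.card (stabilizer G x) = Nat.card G := by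
  have e : orbit G x = S := by
    ext y
    exact ⟨fun ⟨g, hg⟩ => hg ▸ h1 g, fun hy => h2 y hy⟩
  rw [← e, ← index_stabilizer, mul_comm, Subgroup.card_mul_index]

/-- a triply transitive group with simple point stabiliser is simple unless the degree is `3` or a
power of two -/
theorem simple_of_three_trans [Finite G] (D : Finset X) (hD : ∀ g : G, ∀ x ∈ D, g • x ∈ D)
    (hf : ∀ g : G, (∀ x ∈ D, g • x = x) → g = 1) {a b c : X} (ha : a ∈ D) (hb : b ∈ D)
    (hab : a ≠ b) (h3 : ∀ x ∈ D, ∀ y ∈ D, ∀ z ∈ D, x ≠ y → x ≠ z → y ≠ z →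
      ∃ g : G, g • a = x ∧ g • b = y ∧ g • c = z) (hc4 : 4 ≤ D.card)
    (hc : ∀ k, D.card ≠ 2 ^ k) (hs : IsSimpleGroup (stabilizer G a)) : IsSimpleGroup G := by
  classical
  have third : ∀ x y w : X, ∃ z ∈ D, z ≠ x ∧ z ≠ y ∧ z ≠ w := fun x y w => by
    by_contra hh
    push Not at hh
    have : D ⊆ {x, y, w} := fun z hz => by
      by_cases h1 : z = x
      · simp [h1]
      by_cases h2 : z = y
      · simp [h2]
      simp [hh z hz h1 h2]
    have h1 := (Finset.card_le_card this).trans Finset.card_le_three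
    omega
  have h3' : ∀ x ∈ D, ∀ y ∈ D, ∀ z ∈ D, ∀ w ∈ D, x ≠ y → x ≠ z → y ≠ z → x ≠ w → y ≠ w →
      ∃ g : G, g • x = x ∧ g • y = y ∧ g • z = w := fun x hx y hy z hz w hw h1 h2 h4 h5 h6 => by
    obtain ⟨g, rfl, rfl, rfl⟩ := h3 x hx y hy z hz h1 h2 h4
    obtain ⟨g', e1, e2, e3⟩ := h3 _ hx _ hy w hw h1 h5 h6
    exact ⟨g' * g⁻¹, by rw [tr2, e1], by rw [tr2, e2], by rw [tr2, e3]⟩
  have h2' : ∀ x ∈ D, ∀ y ∈ D, ∀ w ∈ D, x ≠ y → x ≠ w → ∃ g : G, g • x = x ∧ g • y = w :=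
    fun x hx y hy w hw h1 h2 => by
      obtain ⟨z, hz, e1, e2, e3⟩ := third x y w
      obtain ⟨g, e4, _, e5⟩ := h3' x hx z hz y hy w hw e1.symm h1 e2 h2 e3
      exact ⟨g, e4, e5⟩
  have : Nontrivial G := by
    obtain ⟨z, hz, e1, e2, _⟩ := third a b b
    obtain ⟨g, _, e⟩ := h2' z hz a ha b hb e1 e2
    exact ⟨g, 1, fun e' => hab (by rw [← e, e', one_smul])⟩
  refine ⟨fun N hN => ?_⟩
  by_cases hb0 : N = ⊥
  · exact Or.inl hb0
  right
  have htr : ∀ y ∈ D, ∃ n ∈ N, n • a = y := by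
    obtain ⟨⟨n, hn⟩, hn1⟩ := (Subgroup.ne_bot_iff_exists_ne_one).1 hb0
    have : ∃ x ∈ D, n • x ≠ x := by
      by_contra hh
      push Not at hh
      exact hn1 (Subtype.ext (hf n hh))
    obtain ⟨x, hx, hx'⟩ := this
    have key : ∀ y ∈ D, ∃ m ∈ N, m • x = y := fun y hy => by
      by_cases e : x = y
      · exact ⟨1, one_mem _, by simpa using e⟩
      obtain ⟨g, e1, e2⟩ := h2' x hx _ (hD n x hx) y hy hx'.symm e
      refine ⟨g * n * g⁻¹, hN.conj_mem n hn g, ?_⟩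
      conv_lhs => rw [← e1]
      rw [cj g rfl, e2]
    intro y hy
    obtain ⟨m, hm, e1⟩ := key a ha
    obtain ⟨m', hm', e2⟩ := key y hy
    exact ⟨m' * m⁻¹, mul_mem hm' (inv_mem hm), by rw [← e1, tr2, e2]⟩
  rcases hs.eq_bot_or_eq_top_of_normal (N.subgroupOf (stabilizer G a)) inferInstance with h | h
  · exfalso
    have hreg : ∀ n ∈ N, n • a = a → n = 1 := fun n hn e => by
      have : (⟨n, e⟩ : stabilizer G a) ∈ N.subgroupOf (stabilizer G a) := hn
      rw [h, Subgroup.mem_bot] at this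
      exact congrArg Subtype.val this
    have hreg' : ∀ n ∈ N, ∀ m ∈ N, n • a = m • a → n = m := fun n hn m hm e => by
      have := hreg (m⁻¹ * n) (mul_mem (inv_mem hm) hn) (by rw [mul_smul, e, inv_smul_smul])
      rw [inv_mul_eq_one] at this
      exact this.symm
    have hsq : ∀ n ∈ N, n * n = 1 := fun n hn => by
      by_contra hh
      have e1 : n • a ≠ a := fun e => hh (by rw [hreg n hn e, mul_one])
      have e2 : n⁻¹ • a ≠ a := fun e => e1 (by rw [inv_smul_eq_iff] at e; exact e.symm)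
      have e3 : n • a ≠ n⁻¹ • a := fun e => hh (by
        have := hreg' n hn _ (inv_mem hn) e
        nth_rewrite 1 [this]; exact inv_mul_cancel n)
      obtain ⟨w, hw, f1, f2, f3⟩ := third a (n • a) (n⁻¹ • a)
      obtain ⟨g, g1, g2, g3⟩ := h3' a ha _ (hD n a ha) _ (hD n⁻¹ a ha) w hw e1.symm e2.symm e3
        f1.symm f2.symm
      have e4 : g * n * g⁻¹ = n := hreg' _ (hN.conj_mem n hn g) n hn (by
        conv_lhs => rw [← g1]
        rw [cj g rfl, g2])
      apply f3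
      have e5 : g * n⁻¹ * g⁻¹ = n⁻¹ := by
        conv_rhs => rw [← e4]
        simp [mul_assoc]
      rw [← g3, ← cj g (rfl : n⁻¹ • a = n⁻¹ • a), e5, g1]
    have hp : IsPGroup 2 N := fun n => ⟨1, by
      ext; simpa [pow_two] using hsq n n.2⟩
    obtain ⟨k, hk⟩ := hp.exists_card_eq
    apply hc k
    rw [← hk, ← Nat.card_eq_finsetCard]
    symm
    refine Nat.card_eq_of_bijective (fun n => ⟨(n : G) • a, hD _ _ ha⟩) ⟨fun n m e => ?_, fun y => ?_⟩
    · exact Subtype.ext (hreg' _ n.2 _ m.2 (congrArg Subtype.val e))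
    · obtain ⟨n, hn, e⟩ := htr y y.2
      exact ⟨⟨n, hn⟩, Subtype.ext e⟩
  · rw [eq_top_iff]
    intro g _
    obtain ⟨n, hn, e⟩ := htr _ (hD g a ha)
    have h1 : n⁻¹ * g ∈ stabilizer G a := by
      rw [mem_stabilizer_iff, mul_smul, ← e, inv_smul_smul]
    have h2 : (⟨_, h1⟩ : stabilizer G a) ∈ N.subgroupOf (stabilizer G a) := h ▸ Subgroup.mem_top _
    simpa using mul_mem hn (Subgroup.mem_subgroupOf.1 h2)

end

theorem sq_eq_one_of_closure {G : Type*} [Group G] {s : Set G} (h1 : ∀ a ∈ s, a * a = 1)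
    (h2 : ∀ a ∈ s, ∀ b ∈ s, a * b = b * a) : ∀ g ∈ Subgroup.closure s, g * g = 1 := by
  have hc : ∀ x ∈ Subgroup.closure s, ∀ y ∈ Subgroup.closure s, Commute x y := fun x hx y hy =>
    Subgroup.closure_induction₂ (p := fun x y _ _ => Commute x y) (fun a b ha hb => h2 a ha b hb)
      (fun _ _ => Commute.one_left _) (fun _ _ => Commute.one_right _)
      (fun _ _ _ _ _ _ a b => a.mul_left b) (fun _ _ _ _ _ _ a b => a.mul_right b)
      (fun _ _ _ _ a => a.inv_left) (fun _ _ _ _ a => a.inv_right) hx hy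
  intro g hg
  induction hg using Subgroup.closure_induction with
  | mem x hx => exact h1 x hx
  | one => simp
  | mul x y hx hy e1 e2 =>
    rw [mul_assoc, ← mul_assoc y, (hc y hy x hx).eq, mul_assoc, e2, mul_one, e1]
  | inv x _ e => rw [← mul_inv_rev, e, inv_one]

end Cfsg.Agent.Gol
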