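/-
Kernel-friendly computations on natural-number codes: search trees, orbit enumeration,
bit counting.
-/
import Mathlib

set_option autoImplicit false

namespace Cfsg.Agent.Gol

noncomputable section

/-- evaluate `n` before passing it on -/
def force {β : Type} (n : ℕ) (f : ℕ → β) : β := Nat.rec (f 0) (fun m _ => f (Nat.succ m)) n

theorem force_eq {β : Type} (n : ℕ) (f : ℕ → β) : force n f = f n := by cases n <;> rfl

/-- `if b then x else y` with the recursor -/
def bif' {β : Type} (b : Bool) (x y : β) : β := Bool.rec y x b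

@[simp] theorem bif'_true {β : Type} (x y : β) : bif' true x y = x := rfl
@[simp] theorem bif'_false {β : Type} (x y : β) : bif' false x y = y := rfl

theorem bif'_eq {β : Type} (b : Bool) (x y : β) : bif' b x y = if b = true then x else y := by
  cases b <;> rfl

def lall {α : Type} (p : α → Bool) (l : List α) : Bool :=
  List.rec true (fun a _ ih => bif' (p a) ih false) l

theorem lall_iff {α : Type} {p : α → Bool} {l : List α} : lall p l = true ↔ ∀ a ∈ l, p a = true := by
  induction l with
  | nil => simp [lall]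
  | cons a l ih =>
    have : lall p (a :: l) = bif' (p a) (lall p l) false := rfl
    rw [this, List.forall_mem_cons, ← ih]
    cases p a <;> simp

def lany {α : Type} (p : α → Bool) (l : List α) : Bool :=
  List.rec false (fun a _ ih => bif' (p a) true ih) l

theorem lany_iff {α : Type} {p : α → Bool} {l : List α} : lany p l = true ↔ ∃ a ∈ l, p a = true := by
  induction l with
  | nil => simp [lany]
  | cons a l ih =>
    have : lany p (a :: l) = bif' (p a) true (lany p l) := rfl
    rw [this]
    simp only [List.mem_cons, exists_eq_or_imp, ← ih]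
    cases p a <;> simp

/-- count with an accumulator -/
def lcntA {α : Type} (p : α → Bool) (l : List α) : ℕ → ℕ :=
  List.rec (fun c => c) (fun a _ ih c => bif' (p a) (force (Nat.succ c) ih) (ih c)) l

def lcnt {α : Type} (p : α → Bool) (l : List α) : ℕ := lcntA p l 0

theorem lcntA_eq {α : Type} (p : α → Bool) (l : List α) (c : ℕ) :
    lcntA p l c = c + l.countP p := by
  induction l generalizing c with
  | nil => simp [lcntA]
  | cons a l ih =>
    have : lcntA p (a :: l) c = bif' (p a) (force (Nat.succ c) (lcntA p l)) (lcntA p l c) := rfl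
    rw [this, force_eq, List.countP_cons]
    cases p a <;> simp [ih]
    omega

theorem lcnt_eq {α : Type} (p : α → Bool) (l : List α) : lcnt p l = l.countP p := by
  simp [lcnt, lcntA_eq]

/-- all `i < n` -/
def nall (p : ℕ → Bool) (n : ℕ) : Bool := Nat.rec true (fun i ih => bif' (p i) ih false) n

theorem nall_iff {p : ℕ → Bool} {n : ℕ} : nall p n = true ↔ ∀ i < n, p i = true := by
  induction n with
  | zero => simp [nall]
  | succ n ih =>
    have : nall p (n + 1) = bif' (p n) (nall p n) false := rfl
    rw [this, Nat.forall_lt_succ_right, ← ih]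
    cases p n <;> simp

def nany (p : ℕ → Bool) (n : ℕ) : Bool := Nat.rec false (fun i ih => bif' (p i) true ih) n

theorem nany_iff {p : ℕ → Bool} {n : ℕ} : nany p n = true ↔ ∃ i < n, p i = true := by
  induction n with
  | zero => simp [nany]
  | succ n ih =>
    have : nany p (n + 1) = bif' (p n) true (nany p n) := rfl
    rw [this, Nat.exists_lt_succ_right, ← ih]
    cases p n <;> simp

/-- binary search trees of numbers -/
inductive Tr : Type
  | nil : Tr
  | node (l : Tr) (v : ℕ) (r : Tr) : Tr

def Tr.All (P : ℕ → Prop) : Tr → Prop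
  | .nil => True
  | .node l v r => l.All P ∧ P v ∧ r.All P

def Tr.mem (x : ℕ) (t : Tr) : Bool :=
  Tr.rec false (fun _ v _ il ir => bif' (Nat.ble x v) (bif' (Nat.beq x v) true il) ir) t

theorem Tr.mem_sound {P : ℕ → Prop} {x : ℕ} {t : Tr} (h : t.All P) (hm : t.mem x = true) : P x := by
  induction t with
  | nil => exact absurd hm (by simp [Tr.mem])
  | node l v r il ir =>
    have e : Tr.mem x (.node l v r) =
      bif' (Nat.ble x v) (bif' (Nat.beq x v) true (l.mem x)) (r.mem x) := rfl
    rw [e] at hm
    obtain ⟨h1, h2, h3⟩ := h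
    cases h4 : Nat.ble x v
    · rw [h4] at hm; exact ir h3 hm
    · rw [h4] at hm
      cases h5 : Nat.beq x v
      · rw [h5] at hm; exact il h1 hm
      · rw [Nat.eq_of_beq_eq_true h5]; exact h2

/-- insertion in continuation style; `found` is returned if `x` is already there -/
def Tr.insK (x : ℕ) (found : Bool) (t : Tr) : (Tr → Bool) → Bool :=
  Tr.rec (fun k => k (.node .nil x .nil))
    (fun l v r il ir k => bif' (Nat.ble x v)
      (bif' (Nat.beq x v) found (il fun l' => k (.node l' v r)))
      (ir fun r' => k (.node l v r'))) t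

theorem Tr.insK_sound {P : ℕ → Prop} {x : ℕ} (hx : P x) {found : Bool} {t : Tr} (h : t.All P)
    {k : Tr → Bool} (hk : t.insK x found k = true) :
    found = true ∨ ∃ t' : Tr, t'.All P ∧ k t' = true := by
  induction t generalizing k with
  | nil => exact Or.inr ⟨.node .nil x .nil, ⟨trivial, hx, trivial⟩, hk⟩
  | node l v r il ir =>
    have e : Tr.insK x found (.node l v r) k = bif' (Nat.ble x v)
      (bif' (Nat.beq x v) found (l.insK x found fun l' => k (.node l' v r)))
      (r.insK x found fun r' => k (.node l v r')) := rfl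
    rw [e] at hk
    obtain ⟨h1, h2, h3⟩ := h
    cases h4 : Nat.ble x v
    · rw [h4] at hk
      rcases ir h3 hk with h | ⟨t', h, h'⟩
      · exact Or.inl h
      · exact Or.inr ⟨.node l v t', ⟨h1, h2, h⟩, h'⟩
    · rw [h4] at hk
      cases h5 : Nat.beq x v
      · rw [h5] at hk
        rcases il h1 hk with h | ⟨t', h, h'⟩
        · exact Or.inl h
        · exact Or.inr ⟨.node t' v r, ⟨h, h2, h3⟩, h'⟩
      · rw [h5] at hk; exact Or.inl hk

def stepK (gens : List (ℕ → ℕ)) (x : ℕ) : List ℕ → Tr → (List ℕ → Tr → Bool) → Bool :=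
  List.rec (fun st t k => k st t)
    (fun g _ ih st t k => force (g x) fun y => t.insK y (ih st t k) fun t' => ih (y :: st) t' k) gens

theorem stepK_sound {P : ℕ → Prop} {gens : List (ℕ → ℕ)} {x : ℕ}
    (hg : ∀ g ∈ gens, P (g x)) {st : List ℕ} (hs : ∀ y ∈ st, P y) {t : Tr} (ht : t.All P)
    {k : List ℕ → Tr → Bool} (h : stepK gens x st t k = true) :
    ∃ st' t', (∀ y ∈ st', P y) ∧ t'.All P ∧ k st' t' = true := by
  induction gens generalizing st t with
  | nil => exact ⟨st, t, hs, ht, h⟩
  | cons g gens ih =>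
    have e : stepK (g :: gens) x st t k = force (g x) fun y => t.insK y (stepK gens x st t k)
      fun t' => stepK gens x (y :: st) t' k := rfl
    rw [e, force_eq] at h
    have hx := hg g List.mem_cons_self
    have hg' : ∀ g' ∈ gens, P (g' x) := fun g' h => hg g' (List.mem_cons_of_mem _ h)
    rcases Tr.insK_sound hx ht h with h | ⟨t', h1, h2⟩
    · exact ih hg' hs ht h
    · exact ih hg' (List.forall_mem_cons.2 ⟨hx, hs⟩) h1 h2

def orbK (gens : List (ℕ → ℕ)) (k : Tr → Bool) (fuel : ℕ) : List ℕ → Tr → Bool :=
  Nat.rec (fun _ t => k t)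
    (fun _ ih st t => List.rec (k t) (fun x st' _ => stepK gens x st' t ih) st) fuel

theorem orbK_sound {P : ℕ → Prop} {gens : List (ℕ → ℕ)} (hg : ∀ g ∈ gens, ∀ x, P x → P (g x))
    {k : Tr → Bool} {fuel : ℕ} {st : List ℕ} (hs : ∀ y ∈ st, P y) {t : Tr} (ht : t.All P)
    (h : orbK gens k fuel st t = true) : ∃ t', t'.All P ∧ k t' = true := by
  induction fuel generalizing st t with
  | zero => exact ⟨t, ht, h⟩
  | succ n ih =>
    cases st with
    | nil => exact ⟨t, ht, h⟩
    | cons x st =>
      have e : orbK gens k (n + 1) (x :: st) t = stepK gens x st t (orbK gens k n) := rfl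
      rw [e] at h
      obtain ⟨hx, hs'⟩ := List.forall_mem_cons.1 hs
      obtain ⟨st', t', h1, h2, h3⟩ := stepK_sound (fun g hg' => hg g hg' x hx) hs' ht h
      exact ih h1 h2 h3

/-- every member of `L` that passes the test `q` is reached from `x0` -/
def covers (gens : List (ℕ → ℕ)) (x0 fuel : ℕ) (q : ℕ → Bool) (L : List ℕ) : Bool :=
  orbK gens (fun t => lall (fun y => bif' (q y) (t.mem y) true) L) fuel [x0] (.node .nil x0 .nil)

theorem covers_sound {P : ℕ → Prop} {gens : List (ℕ → ℕ)} (hg : ∀ g ∈ gens, ∀ x, P x → P (g x))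
    {x0 fuel : ℕ} (h0 : P x0) {q : ℕ → Bool} {L : List ℕ} (h : covers gens x0 fuel q L = true) :
    ∀ y ∈ L, q y = true → P y := by
  obtain ⟨t, h1, h2⟩ := orbK_sound hg (by simpa using h0) (t := .node .nil x0 .nil)
    ⟨trivial, h0, trivial⟩ h
  intro y hy hq
  have := lall_iff.1 h2 y hy
  rw [hq] at this
  exact Tr.mem_sound h1 this

/-- build a tree from a list -/
def treeK (k : Tr → Bool) (l : List ℕ) : Tr → Bool :=
  List.rec k (fun x _ ih t => force x fun y => t.insK y (ih t) ih) l

theorem treeK_sound {P : ℕ → Prop} {k : Tr → Bool} {l : List ℕ} (hl : ∀ y ∈ l, P y) {t : Tr}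
    (ht : t.All P) (h : treeK k l t = true) : ∃ t', t'.All P ∧ k t' = true := by
  induction l generalizing t with
  | nil => exact ⟨t, ht, h⟩
  | cons x l ih =>
    have e : treeK k (x :: l) t = force x fun y => t.insK y (treeK k l t) (treeK k l) := rfl
    rw [e, force_eq] at h
    obtain ⟨hx, hl'⟩ := List.forall_mem_cons.1 hl
    rcases Tr.insK_sound hx ht h with h | ⟨t', h1, h2⟩
    · exact ih hl' ht h
    · exact ih hl' h1 h2

/-- `L ⊆ M` -/
def subL (L M : List ℕ) : Bool := treeK (fun t => lall (fun y => t.mem y) L) M .nil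

theorem subL_sound {L M : List ℕ} (h : subL L M = true) : ∀ y ∈ L, y ∈ M := by
  obtain ⟨t, h1, h2⟩ := treeK_sound (P := (· ∈ M)) (fun _ h => h) (t := .nil) trivial h
  exact fun y hy => Tr.mem_sound h1 (lall_iff.1 h2 y hy)

/-- strictly increasing list -/
def incr (l : List ℕ) : ℕ → Bool :=
  List.rec (fun _ => true) (fun a _ ih b => bif' (Nat.ble b a) (ih (Nat.succ a)) false) l

theorem incr_sound {l : List ℕ} {b : ℕ} (h : incr l b = true) :
    l.Pairwise (· < ·) ∧ ∀ a ∈ l, b ≤ a := by
  induction l generalizing b with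
  | nil => simp
  | cons a l ih =>
    have e : incr (a :: l) b = bif' (Nat.ble b a) (incr l (Nat.succ a)) false := rfl
    rw [e] at h
    cases h1 : Nat.ble b a
    · rw [h1] at h; simp at h
    · rw [h1] at h
      obtain ⟨h2, h3⟩ := ih h
      have h4 := Nat.le_of_ble_eq_true h1
      refine ⟨List.pairwise_cons.2 ⟨fun c hc => h3 c hc, h2⟩, ?_⟩
      intro c hc
      rcases List.mem_cons.1 hc with rfl | hc
      · exact h4
      · have := h3 c hc
        omega

theorem incr_nodup {l : List ℕ} (h : incr l 0 = true) : l.Nodup :=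
  (incr_sound h).1.imp fun h => ne_of_lt h

/-- number of set bits among the lowest `k` -/
def pcS (k n : ℕ) : ℕ := ((Finset.range k).filter fun i => n.testBit i).card

def pc12 (x : ℕ) : ℕ := Nat.mod (Nat.land (Nat.mul x 0x1001001001001) 0x84210842108421) 31

/-- fast bit count of a 24-bit number -/
def pc (n : ℕ) : ℕ := Nat.add (pc12 (Nat.land n 4095)) (pc12 (Nat.land (Nat.shiftRight n 12) 4095))

def pcR (k : ℕ) (n : ℕ) : ℕ :=
  Nat.rec 0 (fun i ih => Nat.add (Nat.land (Nat.shiftRight n i) 1) ih) k

theorem pcR_eq (k n : ℕ) : pcR k n = pcS k n := by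
  induction k with
  | zero => simp [pcR, pcS]
  | succ k ih =>
    have e : pcR (k + 1) n = (n >>> k &&& 1) + pcR k n := rfl
    rw [e, ih]
    unfold pcS
    rw [Finset.range_add_one, Finset.filter_insert]
    have h1 : n >>> k &&& 1 = if n.testBit k then 1 else 0 := by
      rw [Nat.testBit, Nat.and_comm, Nat.one_and_eq_mod_two]
      rcases Nat.mod_two_eq_zero_or_one (n >>> k) with h | h <;> simp [h]
    rw [h1]
    split_ifs with h
    · rw [Finset.card_insert_of_notMem (by simp)]; omega
    · simp

theorem pc12_chk : nall (fun x => Nat.beq (pc12 x) (pcR 12 x)) 4096 = true := by decide +kernel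

theorem pc12_eq {x : ℕ} (h : x < 4096) : pc12 x = pcS 12 x := by
  rw [← pcR_eq]
  exact Nat.eq_of_beq_eq_true (nall_iff.1 pc12_chk x h)

theorem pc_eq (n : ℕ) : pc n = pcS 24 n := by
  have h1 : ∀ m : ℕ, m &&& 4095 < 4096 := fun m => Nat.lt_succ_of_le Nat.and_le_right
  have e : pc n = pc12 (n &&& 4095) + pc12 (n >>> 12 &&& 4095) := rfl
  rw [e, pc12_eq (h1 _), pc12_eq (h1 _)]
  have t : ∀ i < 12, Nat.testBit 4095 i = true := by decide
  unfold pcS
  have e1 : (Finset.range 12).filter (fun i => (n &&& 4095).testBit i) =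
      (Finset.range 12).filter (fun i => n.testBit i) := by
    refine Finset.filter_congr fun i hi => ?_
    rw [Nat.testBit_and, t i (Finset.mem_range.1 hi), Bool.and_true]
  have e2 : (Finset.range 12).filter (fun i => (n >>> 12 &&& 4095).testBit i) =
      (Finset.range 12).filter (fun i => n.testBit (12 + i)) := by
    refine Finset.filter_congr fun i hi => ?_
    rw [Nat.testBit_and, t i (Finset.mem_range.1 hi), Bool.and_true, Nat.testBit_shiftRight]
  rw [e1, e2, Finset.card_filter, Finset.card_filter, Finset.card_filter,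
    show 24 = 12 + 12 from rfl, Finset.sum_range_add]

attribute [irreducible] pc pc12 force lall lany lcnt lcntA nall nany Tr.mem Tr.insK stepK orbK
  covers treeK subL incr

end

end Cfsg.Agent.Gol
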