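/-
Closed orbit enumeration, homomorphisms from certified graphs, and labelled actions.
-/
import Cfsg.Agent.Gol.Comp

set_option autoImplicit false

namespace Cfsg.Agent.Gol

noncomputable section

def Tr.toLA (t : Tr) : List ℕ → List ℕ :=
  Tr.rec (fun acc => acc) (fun _ v _ il ir acc => il (v :: ir acc)) t

def Tr.toL (t : Tr) : List ℕ := t.toLA []

def Tr.In (y : ℕ) : Tr → Prop
  | .nil => False
  | .node l v r => l.In y ∨ y = v ∨ r.In y

theorem Tr.mem_toLA {y : ℕ} {t : Tr} {acc : List ℕ} : y ∈ t.toLA acc ↔ t.In y ∨ y ∈ acc := by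
  induction t generalizing acc with
  | nil => simp [Tr.toLA, Tr.In]
  | node l v r il ir =>
    have e : (Tr.node l v r).toLA acc = l.toLA (v :: r.toLA acc) := rfl
    rw [e, il, List.mem_cons, ir]
    simp only [Tr.In, or_assoc]

theorem Tr.mem_toL {y : ℕ} {t : Tr} : y ∈ t.toL ↔ t.In y := by simp [Tr.toL, Tr.mem_toLA]

theorem Tr.all_iff {P : ℕ → Prop} {t : Tr} : t.All P ↔ ∀ y, t.In y → P y := by
  induction t with
  | nil => simp [Tr.All, Tr.In]
  | node l v r il ir => simp only [Tr.All, Tr.In, il, ir, or_imp, forall_and, forall_eq]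

theorem Tr.mem_in {y : ℕ} {t : Tr} (h : t.mem y = true) : t.In y :=
  Tr.mem_sound (Tr.all_iff.2 fun _ h => h) h

theorem Tr.insK_spec {x : ℕ} {found : Bool} {t : Tr} {k : Tr → Bool} (hk : t.insK x found k = true) :
    (found = true ∧ t.In x) ∨ ∃ t' : Tr, (∀ y, t'.In y ↔ y = x ∨ t.In y) ∧ k t' = true := by
  induction t generalizing k with
  | nil => exact Or.inr ⟨.node .nil x .nil, by simp [Tr.In], by unfold Tr.insK at hk; exact hk⟩
  | node l v r il ir =>
    have e : Tr.insK x found (.node l v r) k = bif' (Nat.ble x v)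
      (bif' (Nat.beq x v) found (l.insK x found fun l' => k (.node l' v r)))
      (r.insK x found fun r' => k (.node l v r')) := by unfold Tr.insK; rfl
    rw [e] at hk
    cases h4 : Nat.ble x v
    · rw [h4] at hk
      rcases ir hk with h | ⟨t', h, h'⟩
      · exact Or.inl ⟨h.1, Or.inr (Or.inr h.2)⟩
      · exact Or.inr ⟨.node l v t', fun y => by simp only [Tr.In, h]; tauto, h'⟩
    · rw [h4] at hk
      cases h5 : Nat.beq x v
      · rw [h5] at hk
        rcases il hk with h | ⟨t', h, h'⟩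
        · exact Or.inl ⟨h.1, Or.inl h.2⟩
        · exact Or.inr ⟨.node t' v r, fun y => by simp only [Tr.In, h]; tauto, h'⟩
      · rw [h5] at hk
        exact Or.inl ⟨hk, Or.inr (Or.inl (Nat.eq_of_beq_eq_true h5))⟩

theorem stepK_spec {gens : List (ℕ → ℕ)} {x : ℕ} {st : List ℕ} {t : Tr}
    {k : List ℕ → Tr → Bool} (h : stepK gens x st t k = true) :
    ∃ st' t', k st' t' = true ∧ (∀ y, t.In y → t'.In y) ∧ (∀ g ∈ gens, t'.In (g x)) ∧
      (∀ y ∈ st, y ∈ st') ∧ (∀ y, t'.In y → t.In y ∨ y ∈ st') ∧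
      (∀ y ∈ st', y ∈ st ∨ ∃ g ∈ gens, g x = y) ∧ ∀ y, t'.In y → t.In y ∨ ∃ g ∈ gens, g x = y := by
  induction gens generalizing st t with
  | nil =>
    exact ⟨st, t, by unfold stepK at h; exact h, fun _ h => h, by simp, fun _ h => h,
      fun _ h => Or.inl h, fun _ h => Or.inl h, fun _ h => Or.inl h⟩
  | cons g gens ih =>
    have e : stepK (g :: gens) x st t k = force (g x) fun y => t.insK y (stepK gens x st t k)
      fun t' => stepK gens x (y :: st) t' k := by unfold stepK; rfl
    rw [e, force_eq] at h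
    rcases Tr.insK_spec h with ⟨h, h0⟩ | ⟨t1, h1, h2⟩
    · obtain ⟨st', t', a1, a2, a3, a4, a5, a6, a7⟩ := ih h
      refine ⟨st', t', a1, a2, List.forall_mem_cons.2 ⟨a2 _ h0, a3⟩, a4, a5, fun y hy => ?_,
        fun y hy => ?_⟩
      · exact (a6 y hy).imp id fun ⟨g', hg', e⟩ => ⟨g', List.mem_cons_of_mem _ hg', e⟩
      · exact (a7 y hy).imp id fun ⟨g', hg', e⟩ => ⟨g', List.mem_cons_of_mem _ hg', e⟩
    · obtain ⟨st', t', a1, a2, a3, a4, a5, a6, a7⟩ := ih h2
      refine ⟨st', t', a1, fun y hy => a2 y ((h1 y).2 (Or.inr hy)),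
        List.forall_mem_cons.2 ⟨a2 _ ((h1 _).2 (Or.inl rfl)), a3⟩,
        fun y hy => a4 y (List.mem_cons_of_mem _ hy), fun y hy => ?_, fun y hy => ?_,
        fun y hy => ?_⟩
      · rcases a5 y hy with h | h
        · rcases (h1 y).1 h with rfl | h
          · exact Or.inr (a4 _ List.mem_cons_self)
          · exact Or.inl h
        · exact Or.inr h
      · rcases a6 y hy with h | ⟨g', hg', e⟩
        · rcases List.mem_cons.1 h with rfl | h
          · exact Or.inr ⟨g, List.mem_cons_self, rfl⟩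
          · exact Or.inl h
        · exact Or.inr ⟨g', List.mem_cons_of_mem _ hg', e⟩
      · rcases a7 y hy with h | ⟨g', hg', e⟩
        · rcases (h1 y).1 h with rfl | h
          · exact Or.inr ⟨g, List.mem_cons_self, rfl⟩
          · exact Or.inl h
        · exact Or.inr ⟨g', List.mem_cons_of_mem _ hg', e⟩

def closK (gens : List (ℕ → ℕ)) (k : Tr → Bool) (fuel : ℕ) : List ℕ → Tr → Bool :=
  Nat.rec (fun _ _ => false)
    (fun _ ih st t => List.rec (k t) (fun x st' _ => stepK gens x st' t ih) st) fuel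

theorem closK_sound {P : ℕ → Prop} {gens : List (ℕ → ℕ)} (hg : ∀ g ∈ gens, ∀ x, P x → P (g x))
    {k : Tr → Bool} {fuel : ℕ} {st : List ℕ} {t : Tr} (hs : ∀ y ∈ st, P y) (ht : ∀ y, t.In y → P y)
    (hc : ∀ y, t.In y → y ∈ st ∨ ∀ g ∈ gens, t.In (g y)) (h : closK gens k fuel st t = true) :
    ∃ t' : Tr, (∀ y, t.In y → t'.In y) ∧ (∀ y, t'.In y → P y) ∧
      (∀ y, t'.In y → ∀ g ∈ gens, t'.In (g y)) ∧ k t' = true := by
  induction fuel generalizing st t with
  | zero => exact absurd h (by simp [closK])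
  | succ n ih =>
    cases st with
    | nil => exact ⟨t, fun _ h => h, ht, fun y hy => (hc y hy).resolve_left (by simp), h⟩
    | cons x st =>
      have e : closK gens k (n + 1) (x :: st) t = stepK gens x st t (closK gens k n) := rfl
      rw [e] at h
      obtain ⟨hx, hs'⟩ := List.forall_mem_cons.1 hs
      obtain ⟨st', t', a1, a2, a3, a4, a5, a6, a7⟩ := stepK_spec h
      obtain ⟨t2, b1, b2, b3, b4⟩ := ih (st := st') (t := t') (fun y hy => by
          rcases a6 y hy with h | ⟨g, hg', rfl⟩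
          · exact hs' y h
          · exact hg g hg' x hx) (fun y hy => by
          rcases a7 y hy with h | ⟨g, hg', rfl⟩
          · exact ht y h
          · exact hg g hg' x hx) (fun y hy => by
          rcases a5 y hy with h | h
          · rcases hc y h with h' | h'
            · rcases List.mem_cons.1 h' with rfl | h'
              · exact Or.inr a3
              · exact Or.inl (a4 y h')
            · exact Or.inr fun g hg' => a2 _ (h' g hg')
          · exact Or.inl h) a1
      exact ⟨t2, fun y hy => b1 y (a2 y hy), b2, b3, b4⟩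

/-- the closure of `x0` under the generators passes the test `k` -/
def clos (gens : List (ℕ → ℕ)) (x0 fuel : ℕ) (k : Tr → Bool) : Bool :=
  closK gens k fuel [x0] (.node .nil x0 .nil)

theorem clos_sound {P : ℕ → Prop} {gens : List (ℕ → ℕ)} (hg : ∀ g ∈ gens, ∀ x, P x → P (g x))
    {x0 fuel : ℕ} (h0 : P x0) {k : Tr → Bool} (h : clos gens x0 fuel k = true) :
    ∃ t : Tr, t.In x0 ∧ (∀ y, t.In y → P y) ∧ (∀ y, t.In y → ∀ g ∈ gens, t.In (g y)) ∧
      k t = true := by
  obtain ⟨t, h1, h2, h3, h4⟩ := closK_sound hg (by simpa using h0) (by simpa [Tr.In] using h0)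
    (by simp [Tr.In]) h
  exact ⟨t, h1 _ (by simp [Tr.In]), h2, h3, h4⟩

/-- the graph test: keys strictly increasing and `N` members -/
def graphK (W N : ℕ) (t : Tr) : Bool :=
  bif' (incr (t.toL.map fun n => Nat.div n W) 0) (Nat.beq (lcnt (fun _ => true) t.toL) N) false

theorem exists_hom_of_graph {A B : Type*} [Group A] [Group B] [Finite A] [Finite B]
    (RA : ℕ → A → Prop) (RB : ℕ → B → Prop) (hA : ∀ a a' s, RA a s → RA a' s → a = a')
    (hB : ∀ b h h', RB b h → RB b h' → h = h') (W N : ℕ) (hN : Nat.card A = N)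
    (gens : List (ℕ → ℕ)) (γ : (ℕ → ℕ) → A × B → Prop) (hγ : ∀ g ∈ gens, ∃ x, γ g x)
    (hg : ∀ g x, γ g x → ∀ n s h, RA (n / W) s → RB (n % W) h →
      RA (g n / W) (x.1 * s) ∧ RB (g n % W) (x.2 * h))
    {n0 fuel : ℕ} (h0 : RA (n0 / W) 1) (h0' : RB (n0 % W) 1)
    (h : clos gens n0 fuel (graphK W N) = true) :
    ∃ φ : A →* B, ∀ g ∈ gens, ∀ x, γ g x → φ x.1 = x.2 := by
  set Γ : Subgroup (A × B) := Subgroup.closure {x | ∃ g ∈ gens, γ g x} with hΓ
  obtain ⟨t, t0, t1, t2, t3⟩ := clos_sound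
    (P := fun n => ∃ x ∈ Γ, RA (n / W) x.1 ∧ RB (n % W) x.2) (fun g hg' n ⟨x, hx, e1, e2⟩ => by
      obtain ⟨y, hy⟩ := hγ g hg'
      exact ⟨y * x, mul_mem (Subgroup.subset_closure ⟨g, hg', hy⟩) hx, hg g y hy n _ _ e1 e2⟩)
    ⟨1, one_mem _, h0, h0'⟩ h
  rw [graphK, bif'_eq] at t3
  split_ifs at t3 with t4
  have hnd := incr_nodup t4
  have hinj : ∀ a, t.In a → ∀ b, t.In b → a / W = b / W → a = b := fun a ha b hb e =>
    List.inj_on_of_nodup_map hnd (Tr.mem_toL.2 ha) (Tr.mem_toL.2 hb) e
  have hall : ∀ x ∈ Γ, ∃ n, t.In n ∧ RA (n / W) x.1 ∧ RB (n % W) x.2 := by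
    intro x hx
    rw [hΓ, ← Subgroup.mem_toSubmonoid, Subgroup.closure_toSubmonoid_of_finite] at hx
    induction hx using Submonoid.closure_induction_left with
    | one => exact ⟨n0, t0, h0, h0'⟩
    | mul_left y hy x _ ih =>
      obtain ⟨g, hg', hy⟩ := hy
      obtain ⟨n, e1, e2, e3⟩ := ih
      exact ⟨g n, t2 n e1 g hg', hg g y hy n _ _ e2 e3⟩
  have hbij : Function.Bijective (Prod.fst ∘ Γ.subtype) := by
    have hi : Function.Injective (Prod.fst ∘ Γ.subtype) := by
      rintro ⟨x, hx⟩ ⟨y, hy⟩ e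
      obtain ⟨n, e1, e2, e3⟩ := hall x hx
      obtain ⟨m, f1, f2, f3⟩ := hall y hy
      have e' : x.1 = y.1 := e
      have := hinj n e1 m f1 (hA _ _ _ e2 (e' ▸ f2))
      subst this
      exact Subtype.ext (Prod.ext e' (hB _ _ _ e3 f3))
    refine ⟨hi, ?_⟩
    classical
    choose! f hf using t1
    have hc : (t.toL.toFinset.image fun n => (f n).1).card = N := by
      rw [Finset.card_image_of_injOn, List.toFinset_card_of_nodup (hnd.of_map _),
        ← Nat.eq_of_beq_eq_true t3, lcnt_eq, List.countP_true]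
      intro a ha b hb e
      have ha' := Tr.mem_toL.1 (List.mem_toFinset.1 ha)
      have hb' := Tr.mem_toL.1 (List.mem_toFinset.1 hb)
      have e' : (f a).1 = (f b).1 := e
      exact hinj a ha' b hb' (hA _ _ _ (hf a ha').2.1 (e' ▸ (hf b hb').2.1))
    have := Fintype.ofFinite A
    have hu := Finset.eq_univ_of_card _ (hc.trans (hN.symm.trans Nat.card_eq_fintype_card))
    intro s
    obtain ⟨n, hn, e⟩ := Finset.mem_image.1 (hu ▸ Finset.mem_univ s)
    exact ⟨⟨f n, (hf n (Tr.mem_toL.1 (List.mem_toFinset.1 hn))).1⟩, e⟩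
  obtain ⟨φ, hφ⟩ := Subgroup.exists_eq_graph hbij
  refine ⟨φ, fun g hg' x hx => ?_⟩
  have : x ∈ φ.graph := hφ ▸ Subgroup.subset_closure ⟨g, hg', hx⟩
  exact this

attribute [irreducible] closK clos graphK Tr.toL Tr.toLA

end

/-- a group acting on labelled vectors acts on the labels -/
def labHom {A V X : Type*} [Group A] [MulAction A V] (lab : V → X) (rep : X → V) (D : X → Prop)
    [DecidablePred D] (good : V → Prop) (h1 : ∀ (a : A) v, good v → good (a • v))
    (h2 : ∀ (a : A) v w, good v → good w → lab v = lab w → lab (a • v) = lab (a • w))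
    (h3 : ∀ p, D p → good (rep p) ∧ lab (rep p) = p) (h4 : ∀ v, good v → D (lab v)) :
    A →* Equiv.Perm X :=
  MonoidHom.toHomPerm
    { toFun := fun a p => if D p then lab (a • rep p) else p
      map_one' := by
        funext p
        show (if D p then lab ((1 : A) • rep p) else p) = p
        split_ifs with h
        · rw [one_smul, (h3 p h).2]
        · rfl
      map_mul' := fun a b => by
        funext p
        show (if D p then lab ((a * b) • rep p) else p) =
          if D (if D p then lab (b • rep p) else p) then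
            lab (a • rep (if D p then lab (b • rep p) else p)) else
              (if D p then lab (b • rep p) else p)
        by_cases h : D p
        · have g1 := h1 b _ (h3 p h).1
          simp only [h, if_true, h4 _ g1]
          rw [mul_smul]
          exact h2 a _ _ g1 (h3 _ (h4 _ g1)).1 (h3 _ (h4 _ g1)).2.symm
        · simp only [h, if_false] }

theorem labHom_apply {A V X : Type*} [Group A] [MulAction A V] {lab : V → X} {rep : X → V}
    {D : X → Prop} [DecidablePred D] {good : V → Prop} {h1 h2 h3 h4} (a : A) (p : X) :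
    labHom lab rep D good h1 h2 h3 h4 a p = if D p then lab (a • rep p) else p := rfl

/-- a homomorphism killing the centre, whose range has the order of the central quotient -/
theorem quot_center_equiv {A B : Type*} [Group A] [Group B] [Finite A] (φ : A →* B)
    (hz : Subgroup.center A ≤ φ.ker) {K : Subgroup B} (hK : K ≤ φ.range)
    (hc : Nat.card (A ⧸ Subgroup.center A) ≤ Nat.card K) :
    Nonempty (K ≃* A ⧸ Subgroup.center A) := by
  let ψ : A ⧸ Subgroup.center A →* B := QuotientGroup.lift _ φ hz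
  have hr : ψ.range = φ.range := by
    ext b
    exact ⟨fun ⟨x, hx⟩ => by
      obtain ⟨a, rfl⟩ := QuotientGroup.mk_surjective x
      exact ⟨a, hx⟩, fun ⟨a, ha⟩ => ⟨a, ha⟩⟩
  have : Finite ψ.range := Finite.of_surjective _ ψ.rangeRestrict_surjective
  have h1 : Nat.card ψ.range ≤ Nat.card (A ⧸ Subgroup.center A) :=
    Nat.card_le_card_of_surjective _ ψ.rangeRestrict_surjective
  have h2 : K = ψ.range := Subgroup.eq_of_le_of_card_ge (hr ▸ hK) (h1.trans hc)
  have h3 : Function.Bijective ψ.rangeRestrict :=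
    (Nat.bijective_iff_surjective_and_card _).2 ⟨ψ.rangeRestrict_surjective,
      le_antisymm (h2 ▸ hc) h1⟩
  exact ⟨(MulEquiv.subgroupCongr h2).trans (MulEquiv.ofBijective _ h3).symm⟩

theorem equiv_of_surj {A B : Type*} [Group A] [Group B] [Finite A] (φ : A →* B)
    {K : Subgroup B} (hK : K ≤ φ.range) (hc : Nat.card A ≤ Nat.card K) : Nonempty (K ≃* A) := by
  have : Finite φ.range := Finite.of_surjective _ φ.rangeRestrict_surjective
  have h1 : Nat.card φ.range ≤ Nat.card A :=
    Nat.card_le_card_of_surjective _ φ.rangeRestrict_surjective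
  have h2 : K = φ.range := Subgroup.eq_of_le_of_card_ge hK (h1.trans hc)
  have h3 : Function.Bijective φ.rangeRestrict :=
    (Nat.bijective_iff_surjective_and_card _).2 ⟨φ.rangeRestrict_surjective,
      le_antisymm (h2 ▸ hc) h1⟩
  exact ⟨(MulEquiv.subgroupCongr h2).trans (MulEquiv.ofBijective _ h3).symm⟩

/-- a complement gives the quotient -/
theorem quot_equiv_of_compl {A H : Type*} [Group A] [Group H] [Finite A] [Finite H] (φ : A →* H)
    (N : Subgroup H) [N.Normal] (h : N ⊔ φ.range = ⊤) (hc : Nat.card A * Nat.card N ≤ Nat.card H) :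
    Nonempty (H ⧸ N ≃* A) := by
  have hs : Function.Surjective ((QuotientGroup.mk' N).comp φ) := by
    intro q
    obtain ⟨x, rfl⟩ := QuotientGroup.mk_surjective q
    have hx : x ∈ ((φ.range ⊔ N : Subgroup H) : Set H) := by rw [sup_comm, h]; trivial
    rw [Subgroup.mul_normal] at hx
    obtain ⟨_, ⟨a, rfl⟩, n, hn, rfl⟩ := hx
    exact ⟨a, by simpa using hn⟩
  have h1 := N.card_mul_index
  have h2 : Nat.card A ≤ Nat.card (H ⧸ N) := by
    rw [← h1, mul_comm] at hc
    exact Nat.le_of_mul_le_mul_left hc Nat.card_pos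
  exact ⟨(MulEquiv.ofBijective _ ((Nat.bijective_iff_surjective_and_card _).2
    ⟨hs, le_antisymm h2 (Nat.card_le_card_of_surjective _ hs)⟩)).symm⟩

end Cfsg.Agent.Gol
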