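/-
The binary code of length 24 in terms of 24-bit numbers.
-/
import Cfsg.Prelude.Def_SporadicCombinatorics
import Cfsg.Agent.Gol.Comp
import Cfsg.Agent.Gol.Data

set_option autoImplicit false

namespace Cfsg.Agent.Gol

open scoped Pointwise symmDiff
open Finset

def idx : GolayPt → ℕ
  | none => 23
  | some x => x.val

def pt (i : ℕ) : GolayPt := if i < 23 then some (i : ZMod 23) else none

theorem idx_lt (p : GolayPt) : idx p < 24 := by revert p; decide

@[simp] theorem pt_idx (p : GolayPt) : pt (idx p) = p := by revert p; decide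

theorem idx_pt {i : ℕ} (h : i < 24) : idx (pt i) = i := by revert i; decide

theorem idx_inj {p q : GolayPt} (h : idx p = idx q) : p = q := by rw [← pt_idx p, h, pt_idx]

theorem pt_inj {i j : ℕ} (hi : i < 24) (hj : j < 24) (h : pt i = pt j) : i = j := by
  rw [← idx_pt hi, h, idx_pt hj]

theorem exists_pt (p : GolayPt) : ∃ i < 24, pt i = p := ⟨idx p, idx_lt p, pt_idx p⟩

theorem card_pt : Fintype.card GolayPt = 24 := by decide

def toF (n : ℕ) : Finset GolayPt := univ.filter fun p => n.testBit (idx p)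

theorem mem_toF {n : ℕ} {p : GolayPt} : p ∈ toF n ↔ n.testBit (idx p) = true := by simp [toF]

theorem pt_mem_toF {n i : ℕ} (h : i < 24) : pt i ∈ toF n ↔ n.testBit i = true := by
  rw [mem_toF, idx_pt h]

theorem toF_and (a b : ℕ) : toF (a &&& b) = toF a ∩ toF b := by
  ext p; simp [mem_toF, Nat.testBit_and]

theorem toF_or (a b : ℕ) : toF (a ||| b) = toF a ∪ toF b := by
  ext p; simp [mem_toF, Nat.testBit_or]

theorem toF_xor (a b : ℕ) : toF (a ^^^ b) = toF a ∆ toF b := by
  ext p
  simp only [mem_toF, Nat.testBit_xor, mem_symmDiff]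
  cases a.testBit (idx p) <;> cases b.testBit (idx p) <;> simp

@[simp] theorem toF_zero : toF 0 = ∅ := by ext p; simp [mem_toF]

theorem toF_ones : toF 16777215 = univ := by decide

theorem symmDiff_univ' (s : Finset GolayPt) : s ∆ univ = sᶜ := by
  ext p; simp [mem_symmDiff]

theorem toF_compl (a : ℕ) : toF (a ^^^ 16777215) = (toF a)ᶜ := by
  rw [toF_xor, toF_ones, symmDiff_univ']

theorem toF_two_pow {i : ℕ} (h : i < 24) : toF (2 ^ i) = {pt i} := by
  ext p
  simp only [mem_toF, Nat.testBit_two_pow, decide_eq_true_eq, mem_singleton]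
  exact ⟨fun e => by rw [e, pt_idx], fun e => by rw [e, idx_pt h]⟩

theorem card_toF (n : ℕ) : (toF n).card = pc n := by
  rw [pc_eq, pcS]
  refine card_bij (fun p _ => idx p) (fun p hp => ?_) (fun p _ q _ h => idx_inj h) fun i hi => ?_
  · simpa [idx_lt, mem_toF] using hp
  · rw [mem_filter, mem_range] at hi
    exact ⟨pt i, (pt_mem_toF hi.1).2 hi.2, idx_pt hi.1⟩

theorem testBit_of_lt24 {n i : ℕ} (hn : n < 16777216) (hi : 24 ≤ i) : n.testBit i = false :=
  Nat.testBit_lt_two_pow (lt_of_lt_of_le hn (by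
    calc 16777216 = 2 ^ 24 := rfl
      _ ≤ 2 ^ i := Nat.pow_le_pow_right (by norm_num) hi))

theorem toF_inj {a b : ℕ} (ha : a < 16777216) (hb : b < 16777216) (h : toF a = toF b) : a = b := by
  refine Nat.eq_of_testBit_eq fun i => ?_
  by_cases hi : i < 24
  · have := @pt_mem_toF a i hi
    rw [h, pt_mem_toF hi] at this
    cases h1 : a.testBit i <;> cases h2 : b.testBit i <;> simp_all
  · rw [testBit_of_lt24 ha (by omega), testBit_of_lt24 hb (by omega)]

theorem exists_toF (s : Finset GolayPt) : ∃ n < 16777216, toF n = s := by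
  induction s using Finset.induction_on with
  | empty => exact ⟨0, by norm_num, toF_zero⟩
  | insert p s _ ih =>
    obtain ⟨n, h1, h2⟩ := ih
    refine ⟨2 ^ idx p ||| n, Nat.or_lt_two_pow (n := 24) ?_ h1, ?_⟩
    · exact Nat.pow_lt_pow_right (by norm_num) (idx_lt p)
    · rw [toF_or, toF_two_pow (idx_lt p), pt_idx, h2, insert_eq]

theorem toF_subset {a b : ℕ} (ha : a < 16777216) : toF a ⊆ toF b ↔ a &&& b = a := by
  rw [← inter_eq_left, ← toF_and]
  exact ⟨toF_inj (lt_of_le_of_lt Nat.and_le_left ha) ha, fun h => by rw [h]⟩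

theorem toF_disjoint {a b : ℕ} (ha : a < 16777216) : Disjoint (toF a) (toF b) ↔ a &&& b = 0 := by
  rw [disjoint_iff_inter_eq_empty, ← toF_and, ← toF_zero]
  exact ⟨toF_inj (lt_of_le_of_lt Nat.and_le_left ha) (by norm_num), fun h => by rw [h]⟩

/-- the word with a given support -/
def wd (s : Finset GolayPt) : GolayPt → ZMod 2 := fun p => if p ∈ s then 1 else 0

theorem support_wd (s : Finset GolayPt) : support₂ (wd s) = s := by
  ext p; simp [support₂, wd]

theorem wd_support (w : GolayPt → ZMod 2) : wd (support₂ w) = w := by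
  funext p
  simp only [wd, support₂, mem_filter, mem_univ, true_and]
  generalize w p = x
  revert x; decide

theorem wd_symmDiff (s t : Finset GolayPt) : wd (s ∆ t) = wd s + wd t := by
  funext p
  simp only [wd, mem_symmDiff, Pi.add_apply]
  by_cases h1 : p ∈ s <;> by_cases h2 : p ∈ t <;> simp [h1, h2]
  rfl

@[simp] theorem wd_empty : wd ∅ = 0 := by funext p; simp [wd]

theorem wd_univ : wd univ = 1 := by funext p; simp [wd]

theorem wd_inj {s t : Finset GolayPt} (h : wd s = wd t) : s = t := by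
  rw [← support_wd s, h, support_wd]

theorem hammingNorm_eq (w : GolayPt → ZMod 2) : hammingNorm w = (support₂ w).card := by
  simp [hammingNorm, support₂]

theorem hammingNorm_wd (s : Finset GolayPt) : hammingNorm (wd s) = s.card := by
  rw [hammingNorm_eq, support_wd]

theorem support_add (v w : GolayPt → ZMod 2) : support₂ (v + w) = support₂ v ∆ support₂ w := by
  apply wd_inj
  rw [wd_symmDiff, wd_support, wd_support, wd_support]

/-- supports of code words -/
def CW (s : Finset GolayPt) : Prop := s ∈ supports (golayCode : Set (GolayPt → ZMod 2))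

theorem cw_def {s : Finset GolayPt} :
    s ∈ supports (golayCode : Set (GolayPt → ZMod 2)) ↔ CW s := Iff.rfl

theorem cw_iff {s : Finset GolayPt} : CW s ↔ wd s ∈ golayCode :=
  ⟨fun ⟨w, hw, e⟩ => by rw [← e, wd_support]; exact hw, fun h => ⟨_, h, support_wd s⟩⟩

theorem mem_code_iff {w : GolayPt → ZMod 2} : w ∈ golayCode ↔ CW (support₂ w) := by
  rw [cw_iff, wd_support]

theorem CW.empty : CW ∅ := by rw [cw_iff, wd_empty]; exact zero_mem _

theorem CW.univ : CW univ := by
  rw [cw_iff, wd_univ]; exact Submodule.subset_span (Set.mem_union_right _ rfl)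

theorem CW.symmDiff {s t : Finset GolayPt} (hs : CW s) (ht : CW t) : CW (s ∆ t) := by
  rw [cw_iff] at *
  rw [wd_symmDiff]; exact add_mem hs ht

theorem CW.compl {s : Finset GolayPt} (hs : CW s) : CW sᶜ := by
  rw [← symmDiff_univ']; exact hs.symmDiff CW.univ

theorem cw_compl_iff {s : Finset GolayPt} : CW sᶜ ↔ CW s :=
  ⟨fun h => by simpa using h.compl, CW.compl⟩

noncomputable section

/-- linear combination over the two-element field -/
def lin (l : List ℕ) : ℕ → ℕ :=
  List.rec (fun _ => 0) (fun b _ ih k => Nat.xor (Nat.mul (Nat.mod k 2) b) (ih (Nat.div k 2))) l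

theorem lin_cons (b : ℕ) (l : List ℕ) (k : ℕ) : lin (b :: l) k = (k % 2 * b) ^^^ lin l (k / 2) := rfl

theorem lin_ind {P : ℕ → Prop} (h0 : P 0) (hx : ∀ a b, P a → P b → P (a ^^^ b)) {l : List ℕ}
    (hl : ∀ b ∈ l, P b) (k : ℕ) : P (lin l k) := by
  induction l generalizing k with
  | nil => exact h0
  | cons b l ih =>
    rw [lin_cons]
    refine hx _ _ ?_ (ih (fun c hc => hl c (List.mem_cons_of_mem _ hc)) _)
    rcases Nat.mod_two_eq_zero_or_one k with h | h <;> rw [h]
    · simpa using h0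
    · simpa using hl b List.mem_cons_self

theorem lin_xor (l : List ℕ) (a b : ℕ) : lin l (a ^^^ b) = lin l a ^^^ lin l b := by
  induction l generalizing a b with
  | nil => show 0 = 0 ^^^ 0; rfl
  | cons c l ih =>
    rw [lin_cons, lin_cons, lin_cons, Nat.xor_div_two, ih, Nat.xor_mod_two_eq]
    have : (a + b) % 2 * c = (a % 2 * c) ^^^ (b % 2 * c) := by
      rcases Nat.mod_two_eq_zero_or_one a with h | h <;>
      rcases Nat.mod_two_eq_zero_or_one b with h' | h' <;> simp [Nat.add_mod, h, h']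
    rw [this]
    ac_rfl

def tab (k : ℕ) : ℕ := Nat.land (Nat.shiftRight tabLit (Nat.mul 12 k)) 4095

/-- the code word with the given lowest twelve bits -/
def cw (k : ℕ) : ℕ := Nat.add k (Nat.mul 4096 (tab k))

/-- membership test for numbers below `2 ^ 24` -/
def isCW (n : ℕ) : Bool := Nat.beq (cw (Nat.land n 4095)) n

theorem cw_chk : nall (fun k => Nat.beq (cw k) (lin basL k)) 4096 = true := by decide +kernel

theorem cw_eq_lin {k : ℕ} (h : k < 4096) : cw k = lin basL k :=
  Nat.eq_of_beq_eq_true (nall_iff.1 cw_chk k h)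

theorem tab_lt (k : ℕ) : tab k < 4096 := Nat.lt_succ_of_le Nat.and_le_right

theorem cw_lt {k : ℕ} (h : k < 4096) : cw k < 16777216 := by
  have := tab_lt k
  show k + 4096 * tab k < _
  omega

theorem land_4095 (n : ℕ) : Nat.land n 4095 = n % 4096 := Nat.and_two_pow_sub_one_eq_mod n 12

theorem cw_mod {k : ℕ} (h : k < 4096) : cw k % 4096 = k := by
  show (k + 4096 * tab k) % 4096 = k
  omega

theorem isCW_iff {n : ℕ} : isCW n = true ↔ ∃ k < 4096, cw k = n := by
  rw [isCW, land_4095, Nat.beq_eq]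
  refine ⟨fun h => ⟨_, Nat.mod_lt _ (by norm_num), h⟩, ?_⟩
  rintro ⟨k, hk, rfl⟩
  rw [cw_mod hk]

attribute [irreducible] isCW cw tab lin

theorem isCW_lt {n : ℕ} (h : isCW n = true) : n < 16777216 := by
  obtain ⟨k, hk, rfl⟩ := isCW_iff.1 h
  exact cw_lt hk

theorem isCW_xor {a b : ℕ} (ha : isCW a = true) (hb : isCW b = true) : isCW (a ^^^ b) = true := by
  obtain ⟨k, hk, rfl⟩ := isCW_iff.1 ha
  obtain ⟨j, hj, rfl⟩ := isCW_iff.1 hb
  have h : k ^^^ j < 4096 := Nat.xor_lt_two_pow (n := 12) hk hj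
  exact isCW_iff.2 ⟨_, h, by rw [cw_eq_lin hk, cw_eq_lin hj, cw_eq_lin h, lin_xor]⟩

theorem qr_eq : ∀ t : ZMod 23, support₂ (qrWord t) = toF (genL.getD t.val 0) := by
  decide +kernel

theorem gen_cw : ∀ b ∈ genL, CW (toF b) := by
  have h : ∀ b ∈ genL, b = 16777215 ∨ ∃ t : ZMod 23, genL.getD t.val 0 = b := by decide +kernel
  intro b hb
  rcases h b hb with rfl | ⟨t, rfl⟩
  · rw [toF_ones]; exact CW.univ
  · rw [← qr_eq]
    exact mem_code_iff.1 (Submodule.subset_span (Set.mem_union_left _ ⟨t, rfl⟩))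

theorem bas_chk : lall (fun b => lany (fun m => Nat.beq (lin genL m) b) combL) basL = true := by
  decide +kernel

theorem lin_cw {l : List ℕ} (hl : ∀ b ∈ l, CW (toF b)) (k : ℕ) : CW (toF (lin l k)) :=
  lin_ind (P := fun n => CW (toF n)) (by rw [toF_zero]; exact CW.empty)
    (fun a b ha hb => by rw [toF_xor]; exact ha.symmDiff hb) hl k

theorem bas_cw : ∀ b ∈ basL, CW (toF b) := by
  intro b hb
  obtain ⟨m, _, h⟩ := lany_iff.1 (lall_iff.1 bas_chk b hb)
  rw [← Nat.eq_of_beq_eq_true h]
  exact lin_cw gen_cw m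

theorem cw_cw {k : ℕ} (h : k < 4096) : CW (toF (cw k)) := by
  rw [cw_eq_lin h]; exact lin_cw bas_cw k

theorem gen_chk : lall isCW genL = true := by decide +kernel

theorem CW.exists_isCW {s : Finset GolayPt} (hs : CW s) : ∃ n, isCW n = true ∧ toF n = s := by
  rw [cw_iff] at hs
  suffices h : ∀ w ∈ golayCode, ∃ n, isCW n = true ∧ wd (toF n) = w by
    obtain ⟨n, h1, h2⟩ := h _ hs
    exact ⟨n, h1, wd_inj h2⟩
  intro w hw
  induction hw using Submodule.span_induction with
  | mem x hx =>
    rcases hx with ⟨t, rfl⟩ | rfl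
    · refine ⟨genL.getD t.val 0, lall_iff.1 gen_chk _ ?_, by rw [← qr_eq, wd_support]⟩
      revert t; decide +kernel
    · exact ⟨16777215, by decide +kernel, by rw [toF_ones, wd_univ]⟩
  | zero => exact ⟨0, by decide +kernel, by simp⟩
  | add x y _ _ hx hy =>
    obtain ⟨a, ha, rfl⟩ := hx
    obtain ⟨b, hb, rfl⟩ := hy
    exact ⟨_, isCW_xor ha hb, by rw [toF_xor, wd_symmDiff]⟩
  | smul c x _ hx =>
    have : c = 0 ∨ c = 1 := by revert c; decide
    rcases this with rfl | rfl
    · exact ⟨0, by decide +kernel, by simp⟩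
    · simpa using hx

theorem isCW_cw {n : ℕ} (h : isCW n = true) : CW (toF n) := by
  obtain ⟨k, hk, rfl⟩ := isCW_iff.1 h
  exact cw_cw hk

theorem cw_toF_iff {n : ℕ} (hn : n < 16777216) : CW (toF n) ↔ isCW n = true := by
  refine ⟨fun h => ?_, isCW_cw⟩
  obtain ⟨m, h1, h2⟩ := h.exists_isCW
  rwa [← toF_inj (isCW_lt h1) hn h2]

theorem CW.exists_cw {s : Finset GolayPt} (hs : CW s) : ∃ k < 4096, toF (cw k) = s := by
  obtain ⟨n, h1, h2⟩ := hs.exists_isCW
  obtain ⟨k, hk, rfl⟩ := isCW_iff.1 h1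
  exact ⟨k, hk, h2⟩

theorem cw_inj {k j : ℕ} (hk : k < 4096) (hj : j < 4096) (h : toF (cw k) = toF (cw j)) : k = j := by
  rw [← cw_mod hk, toF_inj (cw_lt hk) (cw_lt hj) h, cw_mod hj]

theorem wt_chk : nall (fun k => force (pc (cw k)) fun w => (w == 0 || w == 8 || w == 12 ||
    w == 16 || w == 24)) 4096 = true := by decide +kernel

theorem CW.card {s : Finset GolayPt} (hs : CW s) :
    s.card = 0 ∨ s.card = 8 ∨ s.card = 12 ∨ s.card = 16 ∨ s.card = 24 := by
  obtain ⟨k, hk, rfl⟩ := hs.exists_cw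
  have := nall_iff.1 wt_chk k hk
  rw [force_eq, ← card_toF] at this
  simp only [Bool.or_eq_true, beq_iff_eq] at this
  omega

theorem card_symmDiff' {α : Type*} [DecidableEq α] (s t : Finset α) :
    (s ∆ t).card + 2 * (s ∩ t).card = s.card + t.card := by
  have h1 : (s ∆ t).card = (s \ t).card + (t \ s).card := by
    rw [symmDiff_def, sup_eq_union, card_union_of_disjoint disjoint_sdiff_sdiff]
  have h2 := card_sdiff_add_card_inter s t
  have h3 := card_sdiff_add_card_inter t s
  rw [inter_comm t s] at h3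
  omega

theorem CW.even_inter {s t : Finset GolayPt} (hs : CW s) (ht : CW t) : (s ∩ t).card % 2 = 0 := by
  have h1 := hs.card
  have h2 := ht.card
  have h3 := (hs.symmDiff ht).card
  have := card_symmDiff' s t
  omega

theorem CW.eq_empty {s : Finset GolayPt} (hs : CW s) (h : s.card < 8) : s = ∅ := by
  have := hs.card
  exact card_eq_zero.1 (by omega)

/-- check that `L` lists the code words passing `q`, in decreasing order of the index -/
def selChk (q : ℕ → Bool) (n : ℕ) : List ℕ → Bool :=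
  Nat.rec (fun L => List.rec true (fun _ _ _ => false) L)
    (fun i ih L => force (cw i) fun c => bif' (q c)
      (List.rec false (fun a L' _ => bif' (Nat.beq a c) (ih L') false) L) (ih L)) n

theorem selChk_sound {q : ℕ → Bool} {n : ℕ} {L : List ℕ} (h : selChk q n L = true) :
    L = ((List.range n).reverse.map cw).filter q := by
  induction n generalizing L with
  | zero =>
    cases L with
    | nil => rfl
    | cons a L => exact absurd h (by simp [selChk])
  | succ n ih =>
    have e : selChk q (n + 1) L = force (cw n) fun c => bif' (q c)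
      (List.rec false (fun a L' _ => bif' (Nat.beq a c) (selChk q n L') false) L)
        (selChk q n L) := rfl
    rw [e, force_eq] at h
    rw [List.range_succ, List.reverse_append, List.reverse_singleton, List.singleton_append,
      List.map_cons, List.filter_cons]
    cases hq : q (cw n)
    · rw [hq] at h
      simpa using ih h
    · rw [hq] at h
      cases L with
      | nil => exact absurd h (by simp)
      | cons a L =>
        have h' : bif' (Nat.beq a (cw n)) (selChk q n L) false = true := h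
        cases hb : Nat.beq a (cw n)
        · rw [hb] at h'; simp at h'
        · rw [hb] at h'
          rw [Nat.eq_of_beq_eq_true hb, ih h']
          simp

attribute [irreducible] selChk

theorem sel_mem {q : ℕ → Bool} {L : List ℕ} (h : selChk q 4096 L = true) {n : ℕ} :
    n ∈ L ↔ isCW n = true ∧ q n = true := by
  rw [selChk_sound h, List.mem_filter, isCW_iff]
  simp

theorem sel_nodup {q : ℕ → Bool} {L : List ℕ} (h : selChk q 4096 L = true) : L.Nodup := by
  rw [selChk_sound h]
  refine List.Nodup.filter _ (List.Nodup.map_on ?_ (List.nodup_reverse.2 List.nodup_range))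
  intro k hk j hj e
  simp only [List.mem_reverse, List.mem_range] at hk hj
  rw [← cw_mod hk, e, cw_mod hj]

theorem oct_chk : selChk (fun c => Nat.beq (pc c) 8) 4096 octL = true := by decide +kernel

theorem dod_chk : selChk (fun c => Nat.beq (pc c) 12) 4096 dodL = true := by decide +kernel

theorem mem_octL {n : ℕ} : n ∈ octL ↔ isCW n = true ∧ pc n = 8 := by
  rw [sel_mem oct_chk, Nat.beq_eq]

theorem mem_dodL {n : ℕ} : n ∈ dodL ↔ isCW n = true ∧ pc n = 12 := by
  rw [sel_mem dod_chk, Nat.beq_eq]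

theorem mem_octads {s : Finset GolayPt} : s ∈ octads ↔ CW s ∧ s.card = 8 := Iff.rfl

theorem mem_dodecads {s : Finset GolayPt} : s ∈ dodecads ↔ CW s ∧ s.card = 12 := Iff.rfl

theorem oct_cw {s : Finset GolayPt} (h : s ∈ octads) : CW s := h.1

theorem dod_cw {s : Finset GolayPt} (h : s ∈ dodecads) : CW s := h.1

theorem octL_lt {n : ℕ} (h : n ∈ octL) : n < 16777216 := isCW_lt (mem_octL.1 h).1

theorem dodL_lt {n : ℕ} (h : n ∈ dodL) : n < 16777216 := isCW_lt (mem_dodL.1 h).1

theorem octads_iff {s : Finset GolayPt} : s ∈ octads ↔ ∃ n ∈ octL, toF n = s := by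
  constructor
  · rintro ⟨h1, h2⟩
    obtain ⟨n, h3, rfl⟩ := CW.exists_isCW h1
    exact ⟨n, mem_octL.2 ⟨h3, by rwa [← card_toF]⟩, rfl⟩
  · rintro ⟨n, h, rfl⟩
    rw [mem_octL] at h
    exact ⟨isCW_cw h.1, by rw [card_toF, h.2]⟩

theorem dodecads_iff {s : Finset GolayPt} : s ∈ dodecads ↔ ∃ n ∈ dodL, toF n = s := by
  constructor
  · rintro ⟨h1, h2⟩
    obtain ⟨n, h3, rfl⟩ := CW.exists_isCW h1
    exact ⟨n, mem_dodL.2 ⟨h3, by rwa [← card_toF]⟩, rfl⟩
  · rintro ⟨n, h, rfl⟩
    rw [mem_dodL] at h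
    exact ⟨isCW_cw h.1, by rw [card_toF, h.2]⟩

theorem toF_mem_octads {n : ℕ} (h : bif' (isCW n) (Nat.beq (pc n) 8) false = true) :
    toF n ∈ octads := by
  cases h1 : isCW n
  · rw [h1] at h; simp at h
  · rw [h1, bif'_true] at h
    exact ⟨isCW_cw h1, by rw [card_toF]; exact Nat.eq_of_beq_eq_true h⟩

theorem toF_mem_dodecads {n : ℕ} (h : bif' (isCW n) (Nat.beq (pc n) 12) false = true) :
    toF n ∈ dodecads := by
  cases h1 : isCW n
  · rw [h1] at h; simp at h
  · rw [h1, bif'_true] at h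
    exact ⟨isCW_cw h1, by rw [card_toF]; exact Nat.eq_of_beq_eq_true h⟩

end

/-- counting through a list of codes -/
theorem ncard_eq_countP {X : Type*} {f : ℕ → X} {L : List ℕ} (hL : L.Nodup)
    (hinj : ∀ a ∈ L, ∀ b ∈ L, f a = f b → a = b) {S : Set X} {q : ℕ → Bool}
    (h1 : ∀ x ∈ S, ∃ n ∈ L, f n = x) (h2 : ∀ n ∈ L, (f n ∈ S ↔ q n = true)) :
    S.ncard = lcnt q L := by
  classical
  rw [lcnt_eq, List.countP_eq_length_filter, ← List.toFinset_card_of_nodup (hL.filter _),
    ← Set.ncard_coe_finset, ← Set.InjOn.ncard_image (f := f)]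
  · congr 1
    ext x
    simp only [List.coe_toFinset, List.mem_filter, Set.mem_image, Set.mem_ofPred_eq]
    constructor
    · intro hx
      obtain ⟨n, hn, rfl⟩ := h1 x hx
      exact ⟨n, ⟨hn, (h2 n hn).1 hx⟩, rfl⟩
    · rintro ⟨n, ⟨hn, hq⟩, rfl⟩
      exact (h2 n hn).2 hq
  · intro a ha b hb e
    simp only [List.coe_toFinset, List.mem_filter, Set.mem_ofPred_eq] at ha hb
    exact hinj a ha.1 b hb.1 e

theorem ncard_oct {P : Finset GolayPt → Prop} {q : ℕ → Bool}
    (h : ∀ n ∈ octL, (P (toF n) ↔ q n = true)) :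
    {o | o ∈ octads ∧ P o}.ncard = lcnt q octL :=
  ncard_eq_countP (sel_nodup oct_chk) (fun _ ha _ hb => toF_inj (octL_lt ha) (octL_lt hb))
    (fun _ hx => octads_iff.1 hx.1) fun n hn => by
      rw [← h n hn]; exact and_iff_right (octads_iff.2 ⟨n, hn, rfl⟩)

theorem ncard_dod {P : Finset GolayPt → Prop} {q : ℕ → Bool}
    (h : ∀ n ∈ dodL, (P (toF n) ↔ q n = true)) :
    {o | o ∈ dodecads ∧ P o}.ncard = lcnt q dodL :=
  ncard_eq_countP (sel_nodup dod_chk) (fun _ ha _ hb => toF_inj (dodL_lt ha) (dodL_lt hb))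
    (fun _ hx => dodecads_iff.1 hx.1) fun n hn => by
      rw [← h n hn]; exact and_iff_right (dodecads_iff.2 ⟨n, hn, rfl⟩)

theorem ncard_octads : octads.ncard = 759 := by
  have := ncard_oct (P := fun _ => True) (q := fun _ => true) (by simp)
  simp only [and_true, Set.ofPred_mem_eq] at this
  rw [this]; decide +kernel

theorem ncard_dodecads : dodecads.ncard = 2576 := by
  have := ncard_dod (P := fun _ => True) (q := fun _ => true) (by simp)
  simp only [and_true, Set.ofPred_mem_eq] at this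
  rw [this]; decide +kernel

theorem octad_eq {o o' : Finset GolayPt} (ho : o ∈ octads) (ho' : o' ∈ octads)
    (h : 5 ≤ (o ∩ o').card) : o = o' := by
  have h1 := card_symmDiff' o o'
  have h2 := (CW.symmDiff ho.1 ho'.1).eq_empty (by rw [ho.2, ho'.2] at h1; omega)
  exact symmDiff_eq_bot.1 h2

theorem steiner_octads : IsSteinerSystem 5 8 octads := by
  refine ⟨fun b hb => hb.2, fun s hs => ?_⟩
  have huniq : ∀ s : Finset GolayPt, s.card = 5 → ∀ o ∈ octads, ∀ o' ∈ octads, s ⊆ o → s ⊆ o' →
      o = o' := fun s hs o ho o' ho' h1 h2 =>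
    octad_eq ho ho' (hs ▸ card_le_card (subset_inter h1 h2))
  classical
  have hfin : octads.Finite := Set.toFinite _
  have hc : (hfin.toFinset.biUnion (powersetCard 5)).card = 42504 := by
    rw [card_biUnion, sum_congr rfl (g := fun _ => 56)]
    · rw [sum_const, ← Set.ncard_eq_toFinset_card _ hfin, ncard_octads]; rfl
    · intro o ho
      rw [card_powersetCard, (hfin.mem_toFinset.1 ho).2]; rfl
    · intro o ho o' ho' hne
      refine disjoint_left.2 fun t h1 h2 => hne ?_
      rw [mem_powersetCard] at h1 h2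
      exact huniq t h1.2 o (by simpa using ho) o' (by simpa using ho') h1.1 h2.1
  have he : hfin.toFinset.biUnion (powersetCard 5) = powersetCard 5 univ := by
    refine eq_of_subset_of_card_le (fun t ht => ?_) ?_
    · obtain ⟨o, _, h⟩ := mem_biUnion.1 ht
      exact mem_powersetCard.2 ⟨subset_univ _, (mem_powersetCard.1 h).2⟩
    · rw [hc, card_powersetCard, card_univ, card_pt]; decide +kernel
  have : s ∈ hfin.toFinset.biUnion (powersetCard 5) := by
    rw [he]; exact mem_powersetCard.2 ⟨subset_univ _, hs⟩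
  obtain ⟨o, ho, h⟩ := mem_biUnion.1 this
  have ho' := hfin.mem_toFinset.1 ho
  have h' := (mem_powersetCard.1 h).1
  exact ⟨o, ⟨ho', h'⟩, fun o' h2 => huniq s hs o' h2.1 o ho' h2.2 h'⟩

attribute [irreducible] pt idx toF

end Cfsg.Agent.Gol
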