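/-
Coded permutations of the 24 points, membership in M24, orbit certificates.
-/
import Cfsg.Agent.Gol.Code

set_option autoImplicit false

namespace Cfsg.Agent.Gol

open scoped Pointwise symmDiff
open Finset Equiv

theorem smul_symmDiff' {G α : Type*} [Group G] [MulAction G α] [DecidableEq α] (g : G)
    (s t : Finset α) : g • (s ∆ t) = (g • s) ∆ (g • t) := by
  ext p
  simp only [← inv_smul_mem_iff, mem_symmDiff]

theorem smul_compl' {G α : Type*} [Group G] [MulAction G α] [DecidableEq α] [Fintype α] (g : G)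
    (s : Finset α) : g • sᶜ = (g • s)ᶜ := by
  ext p
  simp only [← inv_smul_mem_iff, mem_compl]

theorem mem_M24_iff {g : Perm GolayPt} : g ∈ M24 ↔ ∀ s, CW s → CW (g • s) :=
  MulAction.mem_stabilizer_set' (Set.toFinite _)

theorem CW.smul {s : Finset GolayPt} (hs : CW s) (g : M24) : CW (g • s) :=
  mem_M24_iff.1 g.2 s hs

@[simp] theorem cw_smul_iff {s : Finset GolayPt} (g : M24) : CW (g • s) ↔ CW s :=
  ⟨fun h => by simpa using h.smul g⁻¹, fun h => h.smul g⟩

@[simp] theorem oct_smul_iff {s : Finset GolayPt} (g : M24) : g • s ∈ octads ↔ s ∈ octads := by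
  rw [mem_octads, mem_octads, cw_smul_iff, card_smul_finset]

@[simp] theorem dod_smul_iff {s : Finset GolayPt} (g : M24) : g • s ∈ dodecads ↔ s ∈ dodecads := by
  rw [mem_dodecads, mem_dodecads, cw_smul_iff, card_smul_finset]

theorem mem_M24_of_bas {g : Perm GolayPt} (h : ∀ b ∈ basL, CW (g • toF b)) : g ∈ M24 := by
  rw [mem_M24_iff]
  intro s hs
  obtain ⟨k, hk, rfl⟩ := hs.exists_cw
  rw [cw_eq_lin hk]
  exact lin_ind (P := fun n => CW (g • toF n)) (by simpa using CW.empty)
    (fun a b ha hb => by rw [toF_xor, smul_symmDiff']; exact ha.symmDiff hb) h k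

noncomputable section

def ap (c i : ℕ) : ℕ := Nat.land (Nat.shiftRight c (Nat.mul 5 i)) 31

def imgK (c n k : ℕ) : ℕ :=
  Nat.rec 0 (fun i ih => Nat.lor (Nat.shiftLeft (Nat.land (Nat.shiftRight n i) 1) (ap c i)) ih) k

/-- image of the set coded by `n` under the permutation coded by `c` -/
def img (c n : ℕ) : ℕ := imgK c n 24

theorem testBit_imgK (c n k j : ℕ) :
    (imgK c n k).testBit j = true ↔ ∃ i < k, n.testBit i = true ∧ ap c i = j := by
  induction k with
  | zero => simp [imgK]
  | succ k ih =>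
    have e : imgK c n (k + 1) = ((n >>> k &&& 1) <<< ap c k) ||| imgK c n k := rfl
    rw [e, Nat.testBit_or, Bool.or_eq_true, ih, Nat.exists_lt_succ_right, or_comm]
    refine or_congr Iff.rfl ?_
    have h1 : n >>> k &&& 1 = if n.testBit k then 1 else 0 := by
      rw [Nat.testBit, Nat.and_comm, Nat.one_and_eq_mod_two]
      rcases Nat.mod_two_eq_zero_or_one (n >>> k) with h | h <;> simp [h]
    rw [h1]
    cases n.testBit k
    · simp
    · simp only [if_true, true_and, Nat.one_shiftLeft, Nat.testBit_two_pow, decide_eq_true_eq]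

theorem testBit_img (c n j : ℕ) :
    (img c n).testBit j = true ↔ ∃ i < 24, n.testBit i = true ∧ ap c i = j := testBit_imgK c n 24 j

def okP (c : ℕ) : Bool :=
  bif' (nall (fun i => Nat.blt (ap c i) 24) 24) (Nat.beq (img c 16777215) 16777215) false

attribute [irreducible] ap imgK img

theorem okP_lt {c : ℕ} (h : okP c = true) {i : ℕ} (hi : i < 24) : ap c i < 24 := by
  rw [okP, bif'_eq] at h
  split_ifs at h with h1
  simpa using nall_iff.1 h1 i hi

theorem okP_bij {c : ℕ} (h : okP c = true) : Function.Bijective fun p => pt (ap c (idx p)) := by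
  refine Finite.surjective_iff_bijective.1 fun q => ?_
  have h' := h
  rw [okP, bif'_eq] at h'
  split_ifs at h' with h1
  have h2 : (img c 16777215).testBit (idx q) = true := by
    rw [Nat.eq_of_beq_eq_true h', ← mem_toF, toF_ones]; exact mem_univ _
  obtain ⟨i, hi, _, e⟩ := (testBit_img _ _ _).1 h2
  exact ⟨pt i, by simp only [idx_pt hi, e, pt_idx]⟩

theorem img_lt {c : ℕ} (h : okP c = true) (n : ℕ) : img c n < 16777216 := by
  refine Nat.lt_pow_two_of_testBit (n := 24) _ fun j hj => ?_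
  by_contra hc
  obtain ⟨i, hi, _, e⟩ := (testBit_img c n j).1 (by simpa using hc)
  have := okP_lt h hi
  omega

open Classical in
def permOf (c : ℕ) : Perm GolayPt :=
  if h : Function.Bijective fun p => pt (ap c (idx p)) then Equiv.ofBijective _ h else 1

theorem permOf_apply {c : ℕ} (h : okP c = true) (p : GolayPt) :
    permOf c p = pt (ap c (idx p)) := by
  rw [permOf, dif_pos (okP_bij h)]; rfl

theorem permOf_smul {c : ℕ} (h : okP c = true) (n : ℕ) : permOf c • toF n = toF (img c n) := by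
  ext q
  rw [mem_smul_finset, mem_toF, testBit_img]
  constructor
  · rintro ⟨p, hp, rfl⟩
    exact ⟨idx p, idx_lt p, mem_toF.1 hp, by
      rw [Perm.smul_def, permOf_apply h, idx_pt (okP_lt h (idx_lt p))]⟩
  · rintro ⟨i, hi, h1, h2⟩
    exact ⟨pt i, (pt_mem_toF hi).2 h1, by rw [Perm.smul_def, permOf_apply h, idx_pt hi, h2, pt_idx]⟩

def inM (c : ℕ) : Bool := bif' (okP c) (lall (fun b => isCW (img c b)) basL) false

theorem inM_ok {c : ℕ} (h : inM c = true) : okP c = true := by
  rw [inM, bif'_eq] at h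
  split_ifs at h with h1
  exact h1

theorem permOf_mem {c : ℕ} (h : inM c = true) : permOf c ∈ M24 := by
  have h1 := inM_ok h
  rw [inM, h1, bif'_true] at h
  refine mem_M24_of_bas fun b hb => ?_
  rw [permOf_smul h1]
  exact isCW_cw (lall_iff.1 h b hb)

/-- the element of `M24` coded by `c` -/
def pm (c : ℕ) : M24 := if h : inM c = true then ⟨permOf c, permOf_mem h⟩ else 1

theorem pm_coe {c : ℕ} (h : inM c = true) : (pm c : Perm GolayPt) = permOf c := by
  rw [pm, dif_pos h]

theorem pm_smul {c : ℕ} (h : inM c = true) (n : ℕ) : pm c • toF n = toF (img c n) := by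
  rw [Subgroup.smul_def, pm_coe h, permOf_smul (inM_ok h)]

theorem pm_smul_pt {c : ℕ} (h : inM c = true) (p : GolayPt) : pm c • p = pt (ap c (idx p)) := by
  rw [Subgroup.smul_def, pm_coe h, Perm.smul_def, permOf_apply (inM_ok h)]

theorem pm_pt {c : ℕ} (h : inM c = true) {i : ℕ} (hi : i < 24) : pm c • pt i = pt (ap c i) := by
  rw [pm_smul_pt h, idx_pt hi]

attribute [irreducible] okP inM permOf pm

/-- the elements of `M24` fixing the points of `f` and the sets of `E` -/
def St (f : ℕ) (E : List ℕ) : Subgroup M24 where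
  carrier := {g | (∀ p ∈ toF f, g • p = p) ∧ ∀ s ∈ E, g • toF s = toF s}
  one_mem' := by simp
  mul_mem' := fun {a b} ha hb => ⟨fun p hp => by rw [mul_smul, hb.1 p hp, ha.1 p hp],
    fun s hs => by rw [mul_smul, hb.2 s hs, ha.2 s hs]⟩
  inv_mem' := fun {a} ha => ⟨fun p hp => by rw [inv_smul_eq_iff, ha.1 p hp],
    fun s hs => by rw [inv_smul_eq_iff, ha.2 s hs]⟩

theorem mem_St {f : ℕ} {E : List ℕ} {g : M24} :
    g ∈ St f E ↔ (∀ p ∈ toF f, g • p = p) ∧ ∀ s ∈ E, g • toF s = toF s := Iff.rfl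

theorem St_zero : St 0 [] = ⊤ := by
  ext g; simp [mem_St]

def bit (n i : ℕ) : Bool := Nat.beq (Nat.land (Nat.shiftRight n i) 1) 1

theorem bit_eq (n i : ℕ) : bit n i = n.testBit i := by
  have e : bit n i = Nat.beq (n >>> i &&& 1) 1 := rfl
  rw [e, Nat.testBit, Nat.and_comm, Nat.one_and_eq_mod_two]
  rcases Nat.mod_two_eq_zero_or_one (n >>> i) with h | h <;> simp [h]; rfl

attribute [irreducible] bit

def inSt (f : ℕ) (E : List ℕ) (c : ℕ) : Bool :=
  bif' (inM c) (bif' (nall (fun i => bif' (bit f i) (Nat.beq (ap c i) i) true) 24)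
    (lall (fun s => Nat.beq (img c s) s) E) false) false

theorem inSt_inM {f : ℕ} {E : List ℕ} {c : ℕ} (h : inSt f E c = true) : inM c = true := by
  rw [inSt, bif'_eq] at h
  split_ifs at h with h1
  exact h1

theorem pm_mem_St {f : ℕ} {E : List ℕ} {c : ℕ} (h : inSt f E c = true) : pm c ∈ St f E := by
  have h1 := inSt_inM h
  rw [inSt, h1, bif'_true, bif'_eq] at h
  split_ifs at h with h2
  refine ⟨fun p hp => ?_, fun s hs => ?_⟩
  · have := nall_iff.1 h2 _ (idx_lt p)
    rw [bit_eq, mem_toF.1 hp, bif'_true] at this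
    rw [pm_smul_pt h1, Nat.eq_of_beq_eq_true this, pt_idx]
  · rw [pm_smul h1, Nat.eq_of_beq_eq_true (lall_iff.1 h s hs)]

attribute [irreducible] inSt

/-- orbit certificate for sets -/
def covS (f : ℕ) (E gens : List ℕ) (x0 : ℕ) (q : ℕ → Bool) (L : List ℕ) : Bool :=
  bif' (lall (inSt f E) gens) (covers (gens.map img) x0 100000 q L) false

theorem covS_sound {f : ℕ} {E gens : List ℕ} {x0 : ℕ} {q : ℕ → Bool} {L : List ℕ}
    (h : covS f E gens x0 q L = true) :
    ∀ y ∈ L, q y = true → ∃ g ∈ St f E, g • toF x0 = toF y := by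
  rw [covS, bif'_eq] at h
  split_ifs at h with h1
  refine covers_sound (P := fun y => ∃ g ∈ St f E, g • toF x0 = toF y) ?_ ⟨1, one_mem _, one_smul _ _⟩ h
  intro φ hφ x ⟨g, hg, e⟩
  obtain ⟨c, hc, rfl⟩ := List.mem_map.1 hφ
  have h2 := lall_iff.1 h1 c hc
  exact ⟨pm c * g, mul_mem (pm_mem_St h2) hg, by rw [mul_smul, e, pm_smul (inSt_inM h2)]⟩

/-- orbit certificate for points: all points of the mask `m` are reached from `b` -/
def covP (f : ℕ) (E gens : List ℕ) (b m : ℕ) : Bool :=
  bif' (lall (inSt f E) gens) (bif' (Nat.blt b 24)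
    (covers (gens.map ap) b 100 (bit m) (List.range 24)) false) false

theorem covP_sound {f : ℕ} {E gens : List ℕ} {b m : ℕ} (h : covP f E gens b m = true) :
    ∀ p ∈ toF m, ∃ g ∈ St f E, g • pt b = p := by
  rw [covP, bif'_eq, bif'_eq] at h
  split_ifs at h with h1 h2
  have := covers_sound (P := fun y => y < 24 ∧ ∃ g ∈ St f E, g • pt b = pt y) ?_
    ⟨by simpa using h2, 1, one_mem _, one_smul _ _⟩ h
  · intro p hp
    obtain ⟨_, g, hg, e⟩ := this (idx p) (List.mem_range.2 (idx_lt p))
      (by rw [bit_eq]; exact mem_toF.1 hp)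
    exact ⟨g, hg, by rw [e, pt_idx]⟩
  · intro φ hφ x ⟨hx, g, hg, e⟩
    obtain ⟨c, hc, rfl⟩ := List.mem_map.1 hφ
    have h3 := lall_iff.1 h1 c hc
    exact ⟨okP_lt (inM_ok (inSt_inM h3)) hx, pm c * g, mul_mem (pm_mem_St h3) hg, by
      rw [mul_smul, e, pm_pt (inSt_inM h3) hx]⟩

/-- sets known to be invariant under `St f E` -/
def okS (f : ℕ) (E : List ℕ) (s : ℕ) : Bool :=
  bif' (lany (Nat.beq s) E) true
    (bif' (isCW s) (bif' (Nat.beq (pc s) 8) (Nat.ble 5 (pc (Nat.land s f))) false) false)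

theorem St_smul_sub {f : ℕ} {E : List ℕ} {g : M24} (hg : g ∈ St f E) {s : Finset GolayPt}
    (hs : s ⊆ toF f) : g • s = s := by
  ext p
  rw [mem_smul_finset]
  exact ⟨fun ⟨q, hq, e⟩ => by rw [← e, hg.1 q (hs hq)]; exact hq, fun hp => ⟨p, hp, hg.1 p (hs hp)⟩⟩

theorem oct_fix {g : M24} {o s : Finset GolayPt} (ho : o ∈ octads) (hs : s ⊆ o) (h5 : 5 ≤ s.card)
    (hg : g • s = s) : g • o = o :=
  octad_eq ((oct_smul_iff g).2 ho) ho (h5.trans (card_le_card (subset_inter
    (by rw [← hg]; exact smul_finset_subset_smul_finset hs) hs)))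

theorem okS_sound {f : ℕ} {E : List ℕ} {s : ℕ} (h : okS f E s = true) {g : M24} (hg : g ∈ St f E) :
    g • toF s = toF s := by
  rw [okS, bif'_eq, bif'_eq, bif'_eq] at h
  split_ifs at h with h1 h2 h3
  · obtain ⟨a, ha, e⟩ := lany_iff.1 h1
    rw [Nat.eq_of_beq_eq_true e]; exact hg.2 a ha
  · refine oct_fix ⟨isCW_cw h2, by rw [card_toF]; exact Nat.eq_of_beq_eq_true h3⟩
      (s := toF s ∩ toF f) inter_subset_left ?_ (St_smul_sub hg inter_subset_right)
    rw [← toF_and, card_toF]
    exact Nat.le_of_ble_eq_true h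

/-- the intersection of the sets in `P` and of the complements of those in `N` and of `f` -/
def cut (f : ℕ) (P N : List ℕ) : ℕ :=
  P.foldr Nat.land (Nat.xor (N.foldr Nat.lor f) 16777215)

def okC (f : ℕ) (E P N : List ℕ) : Bool := bif' (lall (okS f E) P) (lall (okS f E) N) false

theorem cut_fix {f : ℕ} {E P N : List ℕ} (h : okC f E P N = true) {g : M24} (hg : g ∈ St f E) :
    g • toF (cut f P N) = toF (cut f P N) := by
  rw [okC, bif'_eq] at h
  split_ifs at h with h1
  rw [lall_iff] at h h1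
  have hN : g • toF (N.foldr Nat.lor f) = toF (N.foldr Nat.lor f) := by
    induction N with
    | nil => exact St_smul_sub hg subset_rfl
    | cons a N ih =>
      have e : (a :: N).foldr Nat.lor f = a ||| N.foldr Nat.lor f := rfl
      rw [e, toF_or, smul_finset_union, okS_sound (h a List.mem_cons_self) hg,
        ih fun b hb => h b (List.mem_cons_of_mem _ hb)]
  induction P with
  | nil =>
    have e : cut f [] N = N.foldr Nat.lor f ^^^ 16777215 := rfl
    rw [e, toF_compl, smul_compl', hN]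
  | cons a P ih =>
    have e : cut f (a :: P) N = a &&& cut f P N := rfl
    rw [e, toF_and, smul_finset_inter, okS_sound (h1 a List.mem_cons_self) hg,
      ih fun b hb => h1 b (List.mem_cons_of_mem _ hb)]

/-- refinement: the steps show that all points are fixed -/
def refn (E : List ℕ) (steps : List (List ℕ × List ℕ)) : ℕ → Bool :=
  List.rec (fun f => Nat.beq f 16777215)
    (fun s _ ih f => force (cut f s.1 s.2) fun a =>
      bif' (okC f E s.1 s.2) (bif' (Nat.beq (pc a) 1) (force (Nat.lor a f) ih) false) false) steps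

theorem refn_sound {E : List ℕ} {steps : List (List ℕ × List ℕ)} {f : ℕ}
    (h : refn E steps f = true) : St f E = ⊥ := by
  induction steps generalizing f with
  | nil =>
    have h1 : f = 16777215 := Nat.eq_of_beq_eq_true h
    rw [eq_bot_iff]
    intro g hg
    rw [Subgroup.mem_bot]
    ext p : 2
    exact hg.1 p (by rw [h1, toF_ones]; exact mem_univ _)
  | cons s steps ih =>
    have e : refn E (s :: steps) f = force (cut f s.1 s.2) fun a =>
      bif' (okC f E s.1 s.2) (bif' (Nat.beq (pc a) 1) (force (Nat.lor a f) (refn E steps)) false)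
        false := rfl
    rw [e, force_eq, force_eq, bif'_eq, bif'_eq] at h
    split_ifs at h with h1 h2
    rw [eq_bot_iff, ← ih h]
    intro g hg
    refine ⟨fun p hp => ?_, hg.2⟩
    have e2 : Nat.lor (cut f s.1 s.2) f = cut f s.1 s.2 ||| f := rfl
    rw [e2, toF_or, mem_union] at hp
    rcases hp with hp | hp
    · have h3 := cut_fix h1 hg
      have h4 : (toF (cut f s.1 s.2)).card = 1 := by rw [card_toF]; exact Nat.eq_of_beq_eq_true h2
      obtain ⟨q, hq⟩ := card_eq_one.1 h4
      rw [hq] at h3 hp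
      rw [mem_singleton.1 hp]
      simpa using h3
    · exact hg.1 p hp

end

/-- orbit-stabiliser inside a subgroup -/
theorem card_eq_orbit_mul {G X : Type*} [Group G] [MulAction G X] {H K : Subgroup G} {x : X}
    {S : Set X} (hK : ∀ g, g ∈ K ↔ g ∈ H ∧ g • x = x) (h1 : ∀ g ∈ H, g • x ∈ S)
    (h2 : ∀ y ∈ S, ∃ g ∈ H, g • x = y) : Nat.card H = S.ncard * Nat.card K := by
  have e : MulAction.orbit H x = S := by
    ext y
    exact ⟨fun ⟨g, hg⟩ => hg ▸ h1 g g.2, fun hy => by
      obtain ⟨g, hg, e⟩ := h2 y hy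
      exact ⟨⟨g, hg⟩, e⟩⟩
  have e2 : K.subgroupOf H = MulAction.stabilizer H x := by
    ext g
    rw [Subgroup.mem_subgroupOf, hK, MulAction.mem_stabilizer_iff]
    exact and_iff_right g.2
  rw [← Nat.card_congr (Subgroup.subgroupOfEquivOfLe (fun g hg => ((hK g).1 hg).1)).toEquiv, e2,
    ← e, ← MulAction.index_stabilizer, mul_comm, Subgroup.card_mul_index]

/-- one step of a base: the orbit of `b` is the cut -/
noncomputable def baseOk (f : ℕ) (E gens P N : List ℕ) (b n : ℕ) : Bool :=
  force (cut f P N) fun m => bif' (okC f E P N) (bif' (bit m b) (bif' (Nat.beq (pc m) n)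
    (covP f E gens b m) false) false) false

theorem baseOk_sound {f : ℕ} {E gens P N : List ℕ} {b n : ℕ} (hb : b < 24)
    (h : baseOk f E gens P N b n = true) :
    Nat.card (St f E) = n * Nat.card (St (2 ^ b ||| f) E) := by
  rw [baseOk, force_eq, bif'_eq, bif'_eq, bif'_eq] at h
  split_ifs at h with h1 h2 h3
  rw [← Nat.eq_of_beq_eq_true h3, ← card_toF, ← Set.ncard_coe_finset]
  refine card_eq_orbit_mul (x := pt b) (fun g => ?_) (fun g hg => ?_) (covP_sound h)
  · simp only [mem_St, toF_or, toF_two_pow hb, mem_union, mem_singleton, or_imp, forall_and,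
      forall_eq]
    tauto
  · rw [mem_coe, ← cut_fix h1 hg]
    exact smul_mem_smul_finset ((pt_mem_toF hb).2 (by rwa [bit_eq] at h2))

theorem card_St_cons {f : ℕ} {E : List ℕ} {s : ℕ} {S : Set (Finset GolayPt)}
    (h1 : ∀ g ∈ St f E, g • toF s ∈ S) (h2 : ∀ y ∈ S, ∃ g ∈ St f E, g • toF s = y) :
    Nat.card (St f E) = S.ncard * Nat.card (St f (s :: E)) := by
  refine card_eq_orbit_mul (fun g => ?_) h1 h2
  simp only [mem_St, List.mem_cons, or_imp, forall_and, forall_eq]
  tauto

/-- transitivity on tuples from a chain of stabilisers -/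
theorem trans_chain {G α : Type*} [Group G] [MulAction G α] (H : Subgroup G) (D : Set α)
    (hD : ∀ g ∈ H, ∀ y ∈ D, g • y ∈ D) (b : ℕ → α) (k : ℕ)
    (h : ∀ i < k, ∀ y ∈ D, (∀ j < i, y ≠ b j) → ∃ g ∈ H, (∀ j < i, g • b j = b j) ∧ g • b i = y)
    (x : ℕ → α) (hx : ∀ i < k, x i ∈ D) (hne : ∀ i < k, ∀ j < i, x i ≠ x j) :
    ∃ g ∈ H, ∀ i < k, g • b i = x i := by
  induction k with
  | zero => exact ⟨1, one_mem _, by simp⟩
  | succ k ih =>
    obtain ⟨g, hg, e⟩ := ih (fun i hi => h i (by omega)) (fun i hi => hx i (by omega))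
      (fun i hi => hne i (by omega))
    obtain ⟨g', hg', e1, e2⟩ := h k (by omega) (g⁻¹ • x k) (hD _ (inv_mem hg) _ (hx k (by omega)))
      (fun j hj e' => hne k (by omega) j hj (by rw [← e j hj, ← e', smul_inv_smul]))
    refine ⟨g * g', mul_mem hg hg', fun i hi => ?_⟩
    rcases Nat.lt_succ_iff_lt_or_eq.1 hi with hi | rfl
    · rw [mul_smul, e1 i hi, e i hi]
    · rw [mul_smul, e2, smul_inv_smul]

end Cfsg.Agent.Gol
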