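/-
Words in coded permutations, generated subgroups, families of sets.
-/
import Cfsg.Agent.Gol.Perm

set_option autoImplicit false

namespace Cfsg.Agent.Gol

open scoped Pointwise symmDiff
open Finset Equiv

noncomputable section

/-- pack `f 0, …, f (k-1)` in fields of width `w` -/
def pack (w : ℕ) (f : ℕ → ℕ) (k : ℕ) : ℕ :=
  Nat.rec 0 (fun i ih => Nat.add (Nat.shiftLeft (f i) (Nat.mul w i)) ih) k

theorem pack_succ (w : ℕ) (f : ℕ → ℕ) (k : ℕ) :
    pack w f (k + 1) = f k * 2 ^ (w * k) + pack w f k := by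
  rw [← Nat.shiftLeft_eq]; rfl

theorem pack_lt {w : ℕ} {f : ℕ → ℕ} {k : ℕ} (h : ∀ i < k, f i < 2 ^ w) : pack w f k < 2 ^ (w * k) := by
  induction k with
  | zero => simp [pack]
  | succ k ih =>
    have h1 := ih fun i hi => h i (by omega)
    have h2 := h k (by omega)
    rw [pack_succ, Nat.mul_succ, pow_add]
    nlinarith

theorem dig_pack {w : ℕ} {f : ℕ → ℕ} {k : ℕ} (h : ∀ i < k, f i < 2 ^ w) {i : ℕ} (hi : i < k) :
    pack w f k / 2 ^ (w * i) % 2 ^ w = f i := by
  induction k with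
  | zero => omega
  | succ k ih =>
    have h1 := pack_lt (w := w) (f := f) (k := k) fun i hi => h i (by omega)
    rw [pack_succ]
    rcases Nat.lt_succ_iff_lt_or_eq.1 hi with hi' | rfl
    · obtain ⟨d, rfl⟩ := Nat.exists_eq_add_of_lt hi'
      have e : f (i + d + 1) * 2 ^ (w * (i + d + 1)) =
          2 ^ (w * i) * (2 ^ w * (f (i + d + 1) * 2 ^ (w * d))) := by ring
      rw [e, Nat.mul_add_div (by positivity), Nat.mul_add_mod, ih (fun i hi => h i (by omega)) hi']
    · rw [mul_comm (f i), Nat.mul_add_div (by positivity), Nat.div_eq_of_lt h1, add_zero,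
        Nat.mod_eq_of_lt (h i hi)]

theorem ap_eq (c i : ℕ) : ap c i = c / 2 ^ (5 * i) % 2 ^ 5 := by
  unfold ap
  rw [← Nat.shiftRight_eq_div_pow, ← Nat.and_two_pow_sub_one_eq_mod]; rfl

theorem ap_lt (c i : ℕ) : ap c i < 2 ^ 5 := by rw [ap_eq]; exact Nat.mod_lt _ (by norm_num)

def comp (c d : ℕ) : ℕ := pack 5 (fun i => ap c (ap d i)) 24

theorem ap_comp (c d : ℕ) {i : ℕ} (hi : i < 24) : ap (comp c d) i = ap c (ap d i) := by
  rw [ap_eq, comp, dig_pack (fun _ _ => ap_lt _ _) hi]

def idc : ℕ := 984818244535754528103549039458486304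

theorem ap_idc : ∀ i < 24, ap idc i = i := by decide +kernel

attribute [irreducible] pack comp idc

/-- `c` codes `g` -/
def Rep (c : ℕ) (g : M24) : Prop := ∀ i < 24, ap c i < 24 ∧ g • pt i = pt (ap c i)

theorem rep_pm {c : ℕ} (h : inM c = true) : Rep c (pm c) :=
  fun _ hi => ⟨okP_lt (inM_ok h) hi, pm_pt h hi⟩

theorem rep_one : Rep idc 1 := fun i hi => by rw [ap_idc i hi]; exact ⟨hi, rfl⟩

theorem Rep.mul {c d : ℕ} {g h : M24} (h1 : Rep c g) (h2 : Rep d h) : Rep (comp c d) (g * h) :=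
  fun i hi => by
    rw [ap_comp _ _ hi, mul_smul, (h2 i hi).2]
    exact h1 _ (h2 i hi).1

theorem M24_ext {g h : M24} (e : ∀ i < 24, g • pt i = h • pt i) : g = h := by
  ext p : 2
  obtain ⟨i, hi, rfl⟩ := exists_pt p
  exact e i hi

theorem Rep.eq {c : ℕ} {g h : M24} (h1 : Rep c g) (h2 : Rep c h) : g = h :=
  M24_ext fun i hi => by rw [(h1 i hi).2, (h2 i hi).2]

theorem Rep.smul {c : ℕ} {g : M24} (h : Rep c g) (n : ℕ) : g • toF n = toF (img c n) := by
  ext q
  rw [mem_smul_finset, mem_toF, testBit_img]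
  constructor
  · rintro ⟨p, hp, rfl⟩
    obtain ⟨i, hi, rfl⟩ := exists_pt p
    exact ⟨i, hi, (pt_mem_toF hi).1 hp, by rw [(h i hi).2, idx_pt (h i hi).1]⟩
  · rintro ⟨i, hi, h1, h2⟩
    exact ⟨pt i, (pt_mem_toF hi).2 h1, by rw [(h i hi).2, h2, pt_idx]⟩

theorem Rep.ne_one {c : ℕ} {g : M24} (h : Rep c g) {i : ℕ} (hi : i < 24) (e : ap c i ≠ i) :
    g ≠ 1 := by
  rintro rfl
  exact e (pt_inj (h i hi).1 hi (h i hi).2.symm)

/-- the subgroup generated by the coded elements -/
def gsub (gens : List ℕ) : Subgroup M24 := Subgroup.closure {g | ∃ c ∈ gens, pm c = g}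

theorem pm_mem_gsub {gens : List ℕ} {c : ℕ} (h : c ∈ gens) : pm c ∈ gsub gens :=
  Subgroup.subset_closure ⟨c, h, rfl⟩

theorem gsub_le {gens : List ℕ} {K : Subgroup M24} (h : ∀ c ∈ gens, pm c ∈ K) : gsub gens ≤ K :=
  (Subgroup.closure_le _).2 fun _ ⟨c, hc, e⟩ => e ▸ h c hc

theorem gsub_le_St {f : ℕ} {E gens : List ℕ} (h : lall (inSt f E) gens = true) :
    gsub gens ≤ St f E := gsub_le fun c hc => pm_mem_St (lall_iff.1 h c hc)

def nthD (l : List ℕ) : ℕ → ℕ :=
  List.rec (fun _ => idc) (fun a _ ih i => Nat.rec a (fun j _ => ih j) i) l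

theorem nthD_mem (l : List ℕ) (i : ℕ) : nthD l i = idc ∨ nthD l i ∈ l := by
  induction l generalizing i with
  | nil => exact Or.inl rfl
  | cons a l ih =>
    cases i with
    | zero => exact Or.inr List.mem_cons_self
    | succ i => exact (ih i).imp id (List.mem_cons_of_mem _)

/-- value of a word; the accumulator is multiplied from the left -/
def evW (gens w : List ℕ) : ℕ → ℕ :=
  List.rec (fun a => a) (fun i _ ih a => force (comp (nthD gens i) a) ih) w

theorem evW_rep {gens : List ℕ} (h : ∀ c ∈ gens, inM c = true) (w : List ℕ) {a : ℕ}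
    (ha : ∃ g ∈ gsub gens, Rep a g) : ∃ g ∈ gsub gens, Rep (evW gens w a) g := by
  induction w generalizing a with
  | nil => exact ha
  | cons i w ih =>
    have e : evW gens (i :: w) a = force (comp (nthD gens i) a) (evW gens w) := rfl
    rw [e, force_eq]
    obtain ⟨g, hg, hr⟩ := ha
    rcases nthD_mem gens i with h1 | h1
    · exact ih ⟨1 * g, by simpa using hg, h1 ▸ rep_one.mul hr⟩
    · exact ih ⟨_, mul_mem (pm_mem_gsub h1) hg, (rep_pm (h _ h1)).mul hr⟩

/-- the members of `gens'` are values of words in `gens` -/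
def wordsOk (gens gens' : List ℕ) (W : List (List ℕ)) : Bool :=
  bif' (lall inM gens) (bif' (lall inM gens')
    (subL gens' (W.map fun w => evW gens w idc)) false) false

theorem wordsOk_sound {gens gens' : List ℕ} {W : List (List ℕ)} (h : wordsOk gens gens' W = true) :
    gsub gens' ≤ gsub gens := by
  rw [wordsOk, bif'_eq, bif'_eq] at h
  split_ifs at h with h1 h2
  refine gsub_le fun c hc => ?_
  obtain ⟨w, _, e⟩ := List.mem_map.1 (subL_sound h c hc)
  obtain ⟨g, hg, hr⟩ := evW_rep (lall_iff.1 h1) w ⟨1, one_mem _, rep_one⟩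
  rw [e] at hr
  rwa [(rep_pm (lall_iff.1 h2 c hc)).eq hr]

theorem covP_gsub {f : ℕ} {E gens : List ℕ} {b m : ℕ} (h : covP f E gens b m = true) :
    gsub gens ≤ St f E ∧ ∀ p ∈ toF m, ∃ g ∈ gsub gens, g • pt b = p := by
  rw [covP, bif'_eq, bif'_eq] at h
  split_ifs at h with h1 h2
  refine ⟨gsub_le_St h1, ?_⟩
  have := covers_sound (P := fun y => y < 24 ∧ ∃ g ∈ gsub gens, g • pt b = pt y) ?_
    ⟨by simpa using h2, 1, one_mem _, one_smul _ _⟩ h
  · intro p hp
    obtain ⟨_, g, hg, e⟩ := this (idx p) (List.mem_range.2 (idx_lt p))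
      (by rw [bit_eq]; exact mem_toF.1 hp)
    exact ⟨g, hg, by rw [e, pt_idx]⟩
  · intro φ hφ x ⟨hx, g, hg, e⟩
    obtain ⟨c, hc, rfl⟩ := List.mem_map.1 hφ
    have h3 := lall_iff.1 h1 c hc
    exact ⟨okP_lt (inM_ok (inSt_inM h3)) hx, pm c * g, mul_mem (pm_mem_gsub hc) hg, by
      rw [mul_smul, e, pm_pt (inSt_inM h3) hx]⟩

theorem baseOk_cov {f : ℕ} {E gens P N : List ℕ} {b n : ℕ} (h : baseOk f E gens P N b n = true) :
    ∀ p ∈ toF (cut f P N), ∃ g ∈ St f E, g • pt b = p := by
  rw [baseOk, force_eq, bif'_eq, bif'_eq, bif'_eq] at h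
  split_ifs at h with h1 h2 h3
  exact covP_sound h

theorem baseOk_le {f : ℕ} {E gens P N : List ℕ} {b n : ℕ} (hb : b < 24)
    (h : baseOk f E gens P N b n = true) {K : Subgroup M24} (h1 : St (2 ^ b ||| f) E ≤ K)
    (h2 : gsub gens ≤ K) : St f E ≤ K := by
  rw [baseOk, force_eq, bif'_eq, bif'_eq, bif'_eq] at h
  split_ifs at h with h3 h4 h5
  obtain ⟨h6, h7⟩ := covP_gsub h
  intro g hg
  have hm : g • pt b ∈ toF (cut f P N) := by
    rw [← cut_fix h3 hg]
    exact smul_mem_smul_finset ((pt_mem_toF hb).2 (by rwa [bit_eq] at h4))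
  obtain ⟨x, hx, e⟩ := h7 _ hm
  have hx' := mul_mem (inv_mem (h6 hx)) hg
  have : x⁻¹ * g ∈ St (2 ^ b ||| f) E := by
    refine ⟨fun p hp => ?_, hx'.2⟩
    rw [toF_or, toF_two_pow hb, mem_union, mem_singleton] at hp
    rcases hp with rfl | hp
    · rw [mul_smul, ← e, inv_smul_smul]
    · exact hx'.1 p hp
  simpa using mul_mem (h2 hx) (h1 this)

/-- one level of a stabiliser chain: generators, cut, base point, orbit length, and words
for the generators of the next level -/
structure Lev where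
  gens : List ℕ
  P : List ℕ
  N : List ℕ
  b : ℕ
  n : ℕ
  W : List (List ℕ)

def headGens (ls : List Lev) : List ℕ := List.rec [] (fun l _ _ => l.gens) ls

def chainOk (E : List ℕ) (steps : List (List ℕ × List ℕ)) (ls : List Lev) : ℕ → Bool :=
  List.rec (fun f => refn E steps f)
    (fun l ls' ih f => bif' (Nat.blt l.b 24) (bif' (baseOk f E l.gens l.P l.N l.b l.n)
      (bif' (wordsOk l.gens (headGens ls') l.W) (force (Nat.lor (Nat.pow 2 l.b) f) ih) false)
        false) false) ls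

theorem chainOk_sound {E : List ℕ} {steps : List (List ℕ × List ℕ)} {ls : List Lev} {f : ℕ}
    (h : chainOk E steps ls f = true) :
    Nat.card (St f E) = (ls.map Lev.n).prod ∧ St f E ≤ gsub (headGens ls) := by
  induction ls generalizing f with
  | nil =>
    have := refn_sound (E := E) (steps := steps) (f := f) h
    rw [this]; simp
  | cons l ls ih =>
    have e : chainOk E steps (l :: ls) f = bif' (Nat.blt l.b 24)
      (bif' (baseOk f E l.gens l.P l.N l.b l.n) (bif' (wordsOk l.gens (headGens ls) l.W)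
        (force (Nat.lor (Nat.pow 2 l.b) f) (chainOk E steps ls)) false) false) false := rfl
    rw [e, force_eq, bif'_eq, bif'_eq, bif'_eq] at h
    split_ifs at h with h1 h2 h3
    have hb : l.b < 24 := by simpa using h1
    obtain ⟨h4, h5⟩ := ih h
    refine ⟨?_, baseOk_le hb h2 (h5.trans (wordsOk_sound h3)) le_rfl⟩
    rw [baseOk_sound hb h2, List.map_cons, List.prod_cons, ← h4]; rfl

/-! ### families of sets -/

def ch (n j : ℕ) : ℕ := Nat.land (Nat.shiftRight n (Nat.mul 24 j)) 16777215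

theorem ch_eq (n j : ℕ) : ch n j = n / 2 ^ (24 * j) % 2 ^ 24 := by
  unfold ch
  rw [← Nat.shiftRight_eq_div_pow, ← Nat.and_two_pow_sub_one_eq_mod]; rfl

theorem ch_lt (n j : ℕ) : ch n j < 16777216 := by rw [ch_eq]; exact Nat.mod_lt _ (by norm_num)

/-- image of a tuple of sets -/
def imgT (m c n : ℕ) : ℕ := pack 24 (fun j => img c (ch n j)) m

theorem ch_imgT {m c : ℕ} (h : okP c = true) (n : ℕ) {j : ℕ} (hj : j < m) :
    ch (imgT m c n) j = img c (ch n j) := by
  rw [ch_eq, imgT, dig_pack (fun _ _ => img_lt h _) hj]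

def covT (m f : ℕ) (E gens : List ℕ) (x0 : ℕ) (q : ℕ → Bool) (L : List ℕ) : Bool :=
  bif' (lall (inSt f E) gens) (covers (gens.map (imgT m)) x0 100000 q L) false

theorem covT_sound {m f : ℕ} {E gens : List ℕ} {x0 : ℕ} {q : ℕ → Bool} {L : List ℕ}
    (h : covT m f E gens x0 q L = true) :
    ∀ y ∈ L, q y = true → ∃ g ∈ St f E, ∀ j < m, g • toF (ch x0 j) = toF (ch y j) := by
  rw [covT, bif'_eq] at h
  split_ifs at h with h1
  refine covers_sound (P := fun y => ∃ g ∈ St f E, ∀ j < m, g • toF (ch x0 j) = toF (ch y j)) ?_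
    ⟨1, one_mem _, fun _ _ => one_smul _ _⟩ h
  intro φ hφ x ⟨g, hg, e⟩
  obtain ⟨c, hc, rfl⟩ := List.mem_map.1 hφ
  have h2 := lall_iff.1 h1 c hc
  exact ⟨pm c * g, mul_mem (pm_mem_St h2) hg, fun j hj => by
    rw [mul_smul, e j hj, pm_smul (inSt_inM h2), ch_imgT (inM_ok (inSt_inM h2)) _ hj]⟩

def unp (n m : ℕ) : List ℕ := Nat.rec [] (fun j ih => ch n j :: ih) m

theorem mem_unp {n m a : ℕ} : a ∈ unp n m ↔ ∃ j < m, ch n j = a := by
  induction m with
  | zero => simp [unp]
  | succ m ih =>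
    have e : unp n (m + 1) = ch n m :: unp n m := rfl
    rw [e, List.mem_cons, ih, Nat.exists_lt_succ_right, or_comm, eq_comm]

theorem length_unp (n m : ℕ) : (unp n m).length = m := by
  induction m with
  | zero => rfl
  | succ m ih =>
    have e : unp n (m + 1) = ch n m :: unp n m := rfl
    rw [e, List.length_cons, ih]

/-- sorted insertion -/
def ins (a : ℕ) (l : List ℕ) : List ℕ :=
  List.rec [a] (fun b l' ih => bif' (Nat.ble a b) (a :: b :: l') (b :: ih)) l

theorem ins_perm (a : ℕ) (l : List ℕ) : (ins a l).Perm (a :: l) := by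
  induction l with
  | nil => exact List.Perm.refl _
  | cons b l ih =>
    have e : ins a (b :: l) = bif' (Nat.ble a b) (a :: b :: l) (b :: ins a l) := rfl
    rw [e]
    cases Nat.ble a b
    · exact (ih.cons b).trans (List.Perm.swap a b l)
    · exact List.Perm.refl _

def isort (l : List ℕ) : List ℕ := List.rec [] (fun a _ ih => force a fun a' => ins a' ih) l

theorem isort_perm (l : List ℕ) : (isort l).Perm l := by
  induction l with
  | nil => exact List.Perm.refl _
  | cons a l ih =>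
    have e : isort (a :: l) = force a fun a' => ins a' (isort l) := rfl
    rw [e, force_eq]
    exact (ins_perm _ _).trans (ih.cons a)

/-- pack a list, first member highest -/
def pkL (l : List ℕ) : ℕ → ℕ :=
  List.rec (fun a => a) (fun b _ ih a => ih (Nat.add (Nat.mul a 16777216) b)) l

theorem ch_succ (n j : ℕ) : ch n (j + 1) = ch (n / 16777216) j := by
  rw [ch_eq, ch_eq, Nat.div_div_eq_div_mul, Nat.mul_succ, pow_add, mul_comm (2 ^ (24 * j))]; rfl

theorem unp_succ (n m : ℕ) : unp n (m + 1) = unp (n / 16777216) m ++ [n % 16777216] := by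
  induction m with
  | zero =>
    show [ch n 0] = [n % 16777216]
    rw [ch_eq]; simp
  | succ m ih =>
    have e : ∀ n m, unp n (m + 1) = ch n m :: unp n m := fun _ _ => rfl
    rw [e n (m + 1), ih, e (n / 16777216) m, ch_succ]; rfl

theorem unp_pkL {l : List ℕ} (h : ∀ b ∈ l, b < 16777216) (a m : ℕ) :
    unp (pkL l a) (m + l.length) = unp a m ++ l := by
  induction l generalizing a m with
  | nil => simp [pkL]
  | cons b l ih =>
    have e : pkL (b :: l) a = pkL l (a * 16777216 + b) := rfl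
    have hb := h b List.mem_cons_self
    rw [e, List.length_cons, ← add_assoc, add_right_comm,
      ih (fun c hc => h c (List.mem_cons_of_mem _ hc)), unp_succ,
      show (a * 16777216 + b) / 16777216 = a by omega,
      show (a * 16777216 + b) % 16777216 = b by omega]
    simp

/-- the family coded by a list -/
def famL (l : List ℕ) : Finset (Finset GolayPt) := (l.map toF).toFinset

theorem mem_famL {l : List ℕ} {s : Finset GolayPt} : s ∈ famL l ↔ ∃ a ∈ l, toF a = s := by
  simp [famL]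

/-- the family coded by a number -/
def fam (m n : ℕ) : Finset (Finset GolayPt) := famL (unp n m)

theorem mem_fam {m n : ℕ} {s : Finset GolayPt} : s ∈ fam m n ↔ ∃ j < m, toF (ch n j) = s := by
  simp only [fam, mem_famL, mem_unp]
  exact ⟨fun ⟨_, ⟨j, hj, e⟩, h⟩ => ⟨j, hj, e ▸ h⟩, fun ⟨j, hj, h⟩ => ⟨_, ⟨j, hj, rfl⟩, h⟩⟩

/-- canonical code of the family given by a list -/
def can (l : List ℕ) : ℕ := pkL (isort l) 0

theorem fam_can {l : List ℕ} (h : ∀ b ∈ l, b < 16777216) : fam l.length (can l) = famL l := by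
  have h1 := unp_pkL (l := isort l) (fun b hb => h b ((isort_perm l).mem_iff.1 hb)) 0 0
  rw [zero_add, (isort_perm l).length_eq] at h1
  rw [fam, can, h1]
  ext s
  simp only [mem_famL, show unp 0 0 = [] from rfl, List.nil_append, (isort_perm l).mem_iff]

def imgF (m c n : ℕ) : ℕ := can ((unp n m).map (img c))

theorem fam_imgF {m c : ℕ} (h : inM c = true) (n : ℕ) : fam m (imgF m c n) = pm c • fam m n := by
  have h1 := fam_can (l := (unp n m).map (img c)) (fun b hb => by
    obtain ⟨a, _, rfl⟩ := List.mem_map.1 hb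
    exact img_lt (inM_ok h) a)
  rw [List.length_map, length_unp] at h1
  rw [imgF, h1]
  ext s
  simp only [mem_famL, List.mem_map, fam, mem_smul_finset]
  constructor
  · rintro ⟨_, ⟨a, ha, rfl⟩, rfl⟩
    exact ⟨_, ⟨a, ha, rfl⟩, pm_smul h a⟩
  · rintro ⟨_, ⟨a, ha, rfl⟩, rfl⟩
    exact ⟨_, ⟨a, ha, rfl⟩, (pm_smul h a).symm⟩

/-- orbit certificate for families under a subgroup containing the generators -/
theorem covF_sound {m : ℕ} {gens : List ℕ} {H : Subgroup M24}
    (hg : ∀ c ∈ gens, inM c = true ∧ pm c ∈ H) {x0 : ℕ} {q : ℕ → Bool} {L : List ℕ}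
    (h : covers (gens.map (imgF m)) x0 100000 q L = true) :
    ∀ y ∈ L, q y = true → ∃ g ∈ H, g • fam m x0 = fam m y := by
  refine covers_sound (P := fun y => ∃ g ∈ H, g • fam m x0 = fam m y) ?_
    ⟨1, one_mem _, one_smul _ _⟩ h
  intro φ hφ x ⟨g, hg', e⟩
  obtain ⟨c, hc, rfl⟩ := List.mem_map.1 hφ
  exact ⟨pm c * g, mul_mem (hg c hc).2 hg', by rw [mul_smul, e, fam_imgF (hg c hc).1]⟩

theorem covS_gen {gens : List ℕ} {H : Subgroup M24}
    (hg : ∀ c ∈ gens, inM c = true ∧ pm c ∈ H) {x0 : ℕ} {q : ℕ → Bool} {L : List ℕ}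
    (h : covers (gens.map img) x0 100000 q L = true) :
    ∀ y ∈ L, q y = true → ∃ g ∈ H, g • toF x0 = toF y := by
  refine covers_sound (P := fun y => ∃ g ∈ H, g • toF x0 = toF y) ?_
    ⟨1, one_mem _, one_smul _ _⟩ h
  intro φ hφ x ⟨g, hg', e⟩
  obtain ⟨c, hc, rfl⟩ := List.mem_map.1 hφ
  exact ⟨pm c * g, mul_mem (hg c hc).2 hg', by rw [mul_smul, e, pm_smul (hg c hc).1]⟩

/-- a well-formed code of a family of `m` sets -/
def wfF (m n : ℕ) : Bool := bif' (incr (unp n m) 0) (Nat.beq (pkL (unp n m) 0) n) false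

theorem unp_lt {n m a : ℕ} (h : a ∈ unp n m) : a < 16777216 := by
  obtain ⟨j, _, rfl⟩ := mem_unp.1 h
  exact ch_lt _ _

theorem fam_inj {m a b : ℕ} (ha : wfF m a = true) (hb : wfF m b = true) (h : fam m a = fam m b) :
    a = b := by
  rw [wfF, bif'_eq] at ha hb
  split_ifs at ha hb with h1 h2
  rw [← Nat.eq_of_beq_eq_true ha, ← Nat.eq_of_beq_eq_true hb]
  congr 1
  refine List.Pairwise.eq_of_mem_iff (r := (· < ·)) (incr_sound h1).1 (incr_sound h2).1 fun x => ?_
  have key : ∀ a b : ℕ, fam m a = fam m b → x ∈ unp a m → x ∈ unp b m := fun a b h hx => by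
    have : toF x ∈ fam m b := by rw [← h]; exact mem_famL.2 ⟨x, hx, rfl⟩
    obtain ⟨y, hy, e⟩ := mem_famL.1 this
    rwa [← toF_inj (unp_lt hy) (unp_lt hx) e]
  exact ⟨key a b h, key b a h.symm⟩

theorem card_fam {m a : ℕ} (ha : wfF m a = true) : (fam m a).card = m := by
  rw [wfF, bif'_eq] at ha
  split_ifs at ha with h1
  rw [fam, famL, List.toFinset_card_of_nodup, List.length_map, length_unp]
  exact (incr_nodup h1).map_on fun x hx y hy e => toF_inj (unp_lt hx) (unp_lt hy) e

attribute [irreducible] evW wordsOk chainOk ch imgT covT unp ins isort pkL can imgF wfF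

end

end Cfsg.Agent.Gol
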