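/-
The order of M24, its generators, and its basic transitivity properties.
-/
import Cfsg.Agent.Gol.Word

set_option autoImplicit false

namespace Cfsg.Agent.Gol

open scoped Pointwise symmDiff
open Finset Equiv

noncomputable def transOk (E : List ℕ) (ls : List (List ℕ × ℕ)) : ℕ → ℕ → Bool :=
  List.rec (fun _ _ => true)
    (fun l _ ih f d => bif' (Nat.blt l.2 24) (bif' (bit d l.2) (bif' (covP f E l.1 l.2 d)
      (ih (Nat.lor (Nat.pow 2 l.2) f) (Nat.xor d (Nat.pow 2 l.2))) false) false) false) ls

theorem St_le_of_pt {f : ℕ} {E : List ℕ} {b : ℕ} : St (2 ^ b ||| f) E ≤ St f E :=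
  fun _ hg => ⟨fun p hp => hg.1 p (by rw [toF_or]; exact mem_union_right _ hp), hg.2⟩

theorem St_pt {f : ℕ} {E : List ℕ} {b : ℕ} (hb : b < 24) {g : M24} (hg : g ∈ St (2 ^ b ||| f) E) :
    g • pt b = pt b :=
  hg.1 _ (by rw [toF_or, toF_two_pow hb]; exact mem_union_left _ (mem_singleton_self _))

theorem transOk_sound {E : List ℕ} {ls : List (List ℕ × ℕ)} {f d : ℕ}
    (h : transOk E ls f d = true) (hd : ∀ g ∈ St f E, g • toF d = toF d) (xs : List GolayPt)
    (hn : xs.Nodup) (hl : xs.length = ls.length) (hx : ∀ x ∈ xs, x ∈ toF d) :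
    ∃ g ∈ St f E, List.Forall₂ (fun l x => g • pt l = x) (ls.map Prod.snd) xs := by
  induction ls generalizing f d xs with
  | nil =>
    rw [List.length_nil, List.length_eq_zero_iff] at hl
    subst hl
    exact ⟨1, one_mem _, List.Forall₂.nil⟩
  | cons l ls ih =>
    have e : transOk E (l :: ls) f d = bif' (Nat.blt l.2 24) (bif' (bit d l.2)
      (bif' (covP f E l.1 l.2 d) (transOk E ls (2 ^ l.2 ||| f) (d ^^^ 2 ^ l.2)) false) false)
        false := rfl
    rw [e, bif'_eq, bif'_eq, bif'_eq] at h
    split_ifs at h with h1 h2 h3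
    have hb : l.2 < 24 := by simpa using h1
    cases xs with
    | nil => simp at hl
    | cons x xs =>
      obtain ⟨g, hg, e1⟩ := covP_sound h3 x (hx x List.mem_cons_self)
      rw [List.nodup_cons] at hn
      have hbd : pt l.2 ∈ toF d := (pt_mem_toF hb).2 (by rwa [bit_eq] at h2)
      obtain ⟨g', hg', e2⟩ := ih h (fun a ha => by
          rw [toF_xor, toF_two_pow hb, smul_symmDiff', hd a (St_le_of_pt ha), smul_finset_singleton,
            St_pt hb ha]) (xs.map (g⁻¹ • ·))
        (hn.2.map (MulAction.injective _)) (by simpa using hl) (fun y hy => by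
          obtain ⟨z, hz, rfl⟩ := List.mem_map.1 hy
          rw [toF_xor, toF_two_pow hb, mem_symmDiff, mem_singleton]
          refine Or.inl ⟨?_, fun e => hn.1 ?_⟩
          · rw [inv_smul_mem_iff, hd g hg]; exact hx z (List.mem_cons_of_mem _ hz)
          · rw [← e1, ← e, smul_inv_smul]; exact hz)
      refine ⟨g * g', mul_mem hg (St_le_of_pt hg'), List.Forall₂.cons ?_ ?_⟩
      · rw [mul_smul, St_pt hb hg', e1]
      · rw [List.forall₂_map_right_iff] at e2
        exact e2.imp fun a b e => by rw [mul_smul, e, smul_inv_smul]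

attribute [irreducible] transOk

def m24Chain : List Lev := [⟨[956302485175575353788796878166559809, 1795248432537898728475572672376535, 974380510768821363662145534143076928], [], [], 23, 24, [[0, 0], [1, 0, 1, 2, 0, 1, 0, 0, 2, 0, 0, 1]]⟩,
  ⟨[956709441910203461498593497208492130, 961925747322006474105084226252905096], [], [], 0, 23, [[1, 0, 1, 1, 0, 0, 0, 0, 1, 1], [1, 1, 1, 0, 0, 1, 0, 0, 1, 0]]⟩,
  ⟨[983293820415891526145412145846041952, 965890822977207968023468887089067456], [], [], 1, 22, [[1, 0, 0, 0, 1, 1, 1, 1, 1, 1, 0, 0], [0, 1, 1, 0, 1, 0, 1, 1, 1, 0, 1, 1]]⟩,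
  ⟨[961028114646082071579688173212112928, 975553606472918800280472297643870240], [], [], 2, 21, [[0, 1, 0, 1, 0], [0, 1, 1, 0, 0, 0, 0, 1, 0, 0, 0, 0]]⟩,
  ⟨[973900956710407345392244001659783200, 959535741380040913870017104332621856], [], [], 3, 20, [[0, 0, 1, 0, 0, 0, 1, 1, 1, 1, 1, 0, 1, 0, 0], [0, 1, 1, 1, 1, 0, 1, 0, 0, 1, 1], [0, 1, 1, 0, 1, 0, 0, 1, 1, 1, 0, 1, 0]]⟩,
  ⟨[982125237077252311731715764534741024, 975754295934893126319599781779965984, 975346028712660580592452217730074656], [8536111], [], 5, 3, [[0, 2, 1, 1, 2, 0, 2, 0, 1, 0, 1], [2, 1, 2, 2, 1, 0, 2, 1, 0, 0, 0, 1], [0, 0, 1, 1, 2], [1, 2, 1, 2, 1]]⟩,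
  ⟨[967812279691448225500382947153381408, 965128854020860192151391391390468128, 980224387687010295957922729495201824, 975346028712660580592452217730074656], [], [8536111], 4, 16, []⟩]

theorem m24_chk : chainOk [] [([8391797, 2162811], []), ([8394986, 262637], []), ([262637, 10558], []), ([8421811], []), ([262637], []), ([525274, 9440193], []), ([8455014], []), ([525274], []), ([2687905], []), ([2101096], [9440193]), ([2101096], []), ([72588], []), ([2702848], []), ([290352], []), ([675712], []), ([], [12594948]), ([], [])] m24Chain 0 = true := by decide +kernel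

theorem card_M24 : Nat.card M24 = 244823040 := by
  have := (chainOk_sound m24_chk).1
  rw [St_zero, Subgroup.card_top] at this
  rw [this]; decide

theorem M24_gen : gsub [956302485175575353788796878166559809, 1795248432537898728475572672376535, 974380510768821363662145534143076928] = ⊤ := by
  have := (chainOk_sound m24_chk).2
  rw [St_zero] at this
  exact top_le_iff.1 this

theorem m24_trans : transOk [] [([956302485175575353788796878166559809, 1795248432537898728475572672376535, 974380510768821363662145534143076928], 23),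
  ([956709441910203461498593497208492130, 961925747322006474105084226252905096], 0),
  ([983293820415891526145412145846041952, 965890822977207968023468887089067456], 1),
  ([961028114646082071579688173212112928, 975553606472918800280472297643870240], 2),
  ([973900956710407345392244001659783200, 959535741380040913870017104332621856], 3)] 0 16777215 = true := by decide +kernel

theorem std5 {a b c d e : GolayPt} (h : [a, b, c, d, e].Nodup) :
    ∃ g : M24, g • pt 23 = a ∧ g • pt 0 = b ∧ g • pt 1 = c ∧ g • pt 2 = d ∧ g • pt 3 = e := by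
  obtain ⟨g, _, hg⟩ := transOk_sound m24_trans (fun g _ => by rw [toF_ones, smul_finset_univ]) _ h
    rfl (fun _ _ => by rw [toF_ones]; exact mem_univ _)
  exact ⟨g, by simpa using hg⟩

theorem exists_notMem_list (l : List GolayPt) (h : l.length < 24) : ∃ p, p ∉ l := by
  by_contra hc
  push Not at hc
  have : (univ : Finset GolayPt) ⊆ l.toFinset := fun p _ => List.mem_toFinset.2 (hc p)
  have h1 := (card_le_card this).trans l.toFinset_card_le
  rw [card_univ, card_pt] at h1
  omega

theorem nodup_snoc {α : Type*} {l : List α} {p : α} (h : l.Nodup) (hp : p ∉ l) : (l ++ [p]).Nodup :=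
  List.nodup_append.2 ⟨h, List.nodup_singleton _, fun a ha b hb e => by
    rw [List.mem_singleton.1 hb] at e; exact hp (e ▸ ha)⟩

theorem std4 {a b c d : GolayPt} (h : [a, b, c, d].Nodup) :
    ∃ g : M24, g • pt 23 = a ∧ g • pt 0 = b ∧ g • pt 1 = c ∧ g • pt 2 = d := by
  obtain ⟨e, he⟩ := exists_notMem_list [a, b, c, d] (by simp)
  obtain ⟨g, h1, h2, h3, h4, _⟩ := std5 (nodup_snoc h he)
  exact ⟨g, h1, h2, h3, h4⟩

theorem std3 {a b c : GolayPt} (h : [a, b, c].Nodup) :
    ∃ g : M24, g • pt 23 = a ∧ g • pt 0 = b ∧ g • pt 1 = c := by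
  obtain ⟨e, he⟩ := exists_notMem_list [a, b, c] (by simp)
  obtain ⟨g, h1, h2, h3, _⟩ := std4 (nodup_snoc h he)
  exact ⟨g, h1, h2, h3⟩

theorem std2 {a b : GolayPt} (h : a ≠ b) : ∃ g : M24, g • pt 23 = a ∧ g • pt 0 = b := by
  obtain ⟨e, he⟩ := exists_notMem_list [a, b] (by simp)
  obtain ⟨g, h1, h2, _⟩ := std3 (nodup_snoc (l := [a, b]) (by simpa using h) he)
  exact ⟨g, h1, h2⟩

theorem std1 (a : GolayPt) : ∃ g : M24, g • pt 23 = a := by
  obtain ⟨e, he⟩ := exists_notMem_list [a] (by simp)
  obtain ⟨g, h1, _⟩ := std2 (a := a) (b := e) (by simpa [eq_comm] using he)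
  exact ⟨g, h1⟩

instance multi5 : MulAction.IsMultiplyPretransitive M24 GolayPt 5 := by
  have key : ∀ x : Fin 5 ↪ GolayPt, ∃ g : M24, ∀ i : Fin 5, g • pt (![23, 0, 1, 2, 3] i) = x i := by
    intro x
    obtain ⟨g, h1, h2, h3, h4, h5⟩ := std5 (a := x 0) (b := x 1) (c := x 2) (d := x 3) (e := x 4)
      (List.nodup_ofFn_ofInjective x.injective)
    refine ⟨g, fun i => ?_⟩
    fin_cases i <;> assumption
  refine ⟨fun x y => ?_⟩
  obtain ⟨g, hg⟩ := key x
  obtain ⟨h, hh⟩ := key y
  refine ⟨h * g⁻¹, ?_⟩
  ext i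
  rw [Function.Embedding.smul_apply, ← hg, ← hh, mul_smul, inv_smul_smul]

/-- two generators -/
def g2 : List ℕ := [976451655397595160721301635599063082, 187629152637781448857219759555643979]

theorem oct_trans_chk : covS 0 [] g2 8536111 (fun _ => true) octL = true := by decide +kernel

theorem dod_trans_chk : covS 0 [] g2 340831 (fun _ => true) dodL = true := by decide +kernel

theorem std_oct {o : Finset GolayPt} (ho : o ∈ octads) : ∃ g : M24, g • toF 8536111 = o := by
  obtain ⟨n, hn, rfl⟩ := octads_iff.1 ho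
  obtain ⟨g, _, e⟩ := covS_sound oct_trans_chk n hn rfl
  exact ⟨g, e⟩

theorem std_dod {o : Finset GolayPt} (ho : o ∈ dodecads) : ∃ g : M24, g • toF 340831 = o := by
  obtain ⟨n, hn, rfl⟩ := dodecads_iff.1 ho
  obtain ⟨g, _, e⟩ := covS_sound dod_trans_chk n hn rfl
  exact ⟨g, e⟩

theorem O0_mem : toF 8536111 ∈ octads := toF_mem_octads (by decide +kernel)

theorem D0_mem : toF 340831 ∈ dodecads := toF_mem_dodecads (by decide +kernel)

theorem permOf_ext {c : ℕ} {g : Perm GolayPt} (h : okP c = true)
    (e : ∀ p, g p = pt (ap c (idx p))) : permOf c = g := by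
  ext p : 1; rw [permOf_apply h, e]

theorem pm_ext {c : ℕ} {g : Perm GolayPt} (h : inM c = true)
    (e : ∀ p, g p = pt (ap c (idx p))) : (pm c : Perm GolayPt) = g := by
  rw [pm_coe h, permOf_ext (inM_ok h) e]

theorem pm_add : (pm 956302485175575353788796878166559809 : Perm GolayPt) = Equiv.optionCongr (Equiv.addRight (1 : ZMod 23)) :=
  pm_ext (by decide +kernel) (by decide +kernel)

theorem pm_inv : (pm 1795248432537898728475572672376535 : Perm GolayPt) = projInv :=
  pm_ext (by decide +kernel) (by decide +kernel)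

theorem pm_cube : (pm 974380510768821363662145534143076928 : Perm GolayPt) = cubeTwist :=
  pm_ext (by decide +kernel) (by
    show ∀ p, cubeTwistFun p = _
    decide +kernel)

end Cfsg.Agent.Gol
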