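/-
Lists of subsets, counting, lower bounds for orders, translation lemmas.
-/
import Cfsg.Agent.Gol.M24
import Cfsg.Agent.Gol.Gen
import Cfsg.Agent.Gol.Graph

set_option autoImplicit false

namespace Cfsg.Agent.Gol

open scoped Pointwise symmDiff
open Finset Equiv

noncomputable section

def cmbL (l : List ℕ) : ℕ → ℕ → List ℕ → List ℕ :=
  List.rec (fun k b acc => Nat.rec (b :: acc) (fun _ _ => acc) k)
    (fun a _ ih k b acc => Nat.rec (b :: acc)
      (fun j _ => ih (Nat.succ j) b (force (Nat.lor (Nat.pow 2 a) b) fun b' => ih j b' acc)) k) l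

theorem cmbL_acc {l : List ℕ} {k b : ℕ} {acc : List ℕ} {y : ℕ} (h : y ∈ acc) :
    y ∈ cmbL l k b acc := by
  induction l generalizing k b acc with
  | nil => cases k with
    | zero => exact List.mem_cons_of_mem _ h
    | succ k => exact h
  | cons a l ih => cases k with
    | zero => exact List.mem_cons_of_mem _ h
    | succ k =>
      have e : cmbL (a :: l) (k + 1) b acc = cmbL l (k + 1) b
        (force (Nat.lor (Nat.pow 2 a) b) fun b' => cmbL l k b' acc) := rfl
      rw [e, force_eq]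
      exact ih (ih h)

theorem cmbL_complete {l : List ℕ} {k b : ℕ} {acc : List ℕ} {s : Finset GolayPt}
    (hs : ∀ p ∈ s, idx p ∈ l) (hk : s.card = k) : ∃ y ∈ cmbL l k b acc, toF y = toF b ∪ s := by
  induction l generalizing k b acc s with
  | nil =>
    have : s = ∅ := eq_empty_of_forall_notMem fun p hp => by simpa using hs p hp
    subst this
    subst hk
    exact ⟨b, List.mem_cons_self, by simp⟩
  | cons a l ih => cases k with
    | zero =>
      rw [card_eq_zero.1 hk]
      exact ⟨b, List.mem_cons_self, by simp⟩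
    | succ k =>
      have e : cmbL (a :: l) (k + 1) b acc = cmbL l (k + 1) b
        (force (2 ^ a ||| b) fun b' => cmbL l k b' acc) := rfl
      rw [e, force_eq]
      by_cases h : ∃ p ∈ s, idx p = a
      · obtain ⟨p, hp, rfl⟩ := h
        obtain ⟨y, hy, e⟩ := ih (k := k) (b := 2 ^ idx p ||| b) (acc := acc) (s := s.erase p)
          (fun q hq => (List.mem_cons.1 (hs q (mem_of_mem_erase hq))).resolve_left
            fun e => ne_of_mem_erase hq (idx_inj e)) (by rw [card_erase_of_mem hp, hk]; rfl)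
        refine ⟨y, cmbL_acc hy, ?_⟩
        rw [e, toF_or, toF_two_pow (idx_lt p), pt_idx]
        ext q
        by_cases hq : q = p <;> simp [hq, hp]
      · exact ih (fun q hq => (List.mem_cons.1 (hs q hq)).resolve_left fun e => h ⟨q, hq, e⟩) hk

/-- the `k`-subsets of the points listed in `l` -/
def subsL (l : List ℕ) (k : ℕ) : List ℕ := cmbL l k 0 []

theorem subsL_complete {l : List ℕ} {k : ℕ} {s : Finset GolayPt}
    (hs : ∀ p ∈ s, idx p ∈ l) (hk : s.card = k) : ∃ y ∈ subsL l k, toF y = s := by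
  simpa [subsL] using cmbL_complete (b := 0) (acc := []) hs hk

def all24 : List ℕ := [23, 22, 21, 20, 19, 18, 17, 16, 15, 14, 13, 12, 11, 10, 9, 8, 7, 6, 5, 4, 3,
  2, 1, 0]

theorem idx_mem_all24 (p : GolayPt) : idx p ∈ all24 := by revert p; decide +kernel

theorem subs24 {k : ℕ} {s : Finset GolayPt} (hk : s.card = k) : ∃ y ∈ subsL all24 k, toF y = s :=
  subsL_complete (fun p _ => idx_mem_all24 p) hk

def okL (L : List ℕ) : Bool := bif' (incr L 0) (lall (fun n => Nat.blt n 16777216) L) false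

theorem okL_nodup {L : List ℕ} (h : okL L = true) : L.Nodup := by
  rw [okL, bif'_eq] at h
  split_ifs at h with h1
  exact incr_nodup h1

theorem okL_lt {L : List ℕ} (h : okL L = true) {n : ℕ} (hn : n ∈ L) : n < 16777216 := by
  rw [okL, bif'_eq] at h
  split_ifs at h with h1
  simpa using lall_iff.1 h n hn

theorem ncard_list {L : List ℕ} (hL : okL L = true) {S : Set (Finset GolayPt)} (Q : ℕ → Prop)
    [DecidablePred Q] (h1 : ∀ x ∈ S, ∃ n ∈ L, toF n = x) (h2 : ∀ n ∈ L, (toF n ∈ S ↔ Q n)) :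
    S.ncard = lcnt (fun n => decide (Q n)) L :=
  ncard_eq_countP (okL_nodup hL) (fun _ ha _ hb => toF_inj (okL_lt hL ha) (okL_lt hL hb)) h1
    fun n hn => by rw [h2 n hn, decide_eq_true_eq]

theorem ok2 : okL (subsL all24 2) = true := by decide +kernel
theorem ok3 : okL (subsL all24 3) = true := by decide +kernel

theorem ncard_oct' {S : Set (Finset GolayPt)} (Q : ℕ → Prop) [DecidablePred Q]
    (h : ∀ n, toF n ∈ S ↔ toF n ∈ octads ∧ Q n) (h1 : ∀ x ∈ S, x ∈ octads) :
    S.ncard = lcnt (fun n => decide (Q n)) octL :=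
  ncard_eq_countP (sel_nodup oct_chk) (fun _ ha _ hb => toF_inj (octL_lt ha) (octL_lt hb))
    (fun x hx => octads_iff.1 (h1 x hx)) fun n hn => by
      rw [h, decide_eq_true_eq]; exact and_iff_right (octads_iff.2 ⟨n, hn, rfl⟩)

theorem ncard_dod' {S : Set (Finset GolayPt)} (Q : ℕ → Prop) [DecidablePred Q]
    (h : ∀ n, toF n ∈ S ↔ toF n ∈ dodecads ∧ Q n) (h1 : ∀ x ∈ S, x ∈ dodecads) :
    S.ncard = lcnt (fun n => decide (Q n)) dodL :=
  ncard_eq_countP (sel_nodup dod_chk) (fun _ ha _ hb => toF_inj (dodL_lt ha) (dodL_lt hb))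
    (fun x hx => dodecads_iff.1 (h1 x hx)) fun n hn => by
      rw [h, decide_eq_true_eq]; exact and_iff_right (dodecads_iff.2 ⟨n, hn, rfl⟩)

theorem card_inter_toF (a b : ℕ) : (toF a ∩ toF b).card = pc (a &&& b) := by
  rw [← toF_and, card_toF]

theorem disjoint_toF (a b : ℕ) : Disjoint (toF a) (toF b) ↔ pc (a &&& b) = 0 := by
  rw [← card_inter_toF, card_eq_zero, disjoint_iff_inter_eq_empty]

theorem toF_eq_iff (a b : ℕ) : toF a = toF b ↔ pc (a ^^^ b) = 0 := by
  rw [← card_toF, card_eq_zero, toF_xor]; exact symmDiff_eq_bot.symm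

theorem subset_toF (a b : ℕ) : toF a ⊆ toF b ↔ pc (a &&& b) = pc a := by
  rw [← card_inter_toF, ← card_toF]
  exact ⟨fun h => by rw [inter_eq_left.2 h], fun h =>
    inter_eq_left.1 (eq_of_subset_of_card_le inter_subset_left h.ge)⟩

theorem disjoint_smul' {G α : Type*} [Group G] [MulAction G α] [DecidableEq α] (g : G)
    (s t : Finset α) : Disjoint (g • s) (g • t) ↔ Disjoint s t := by
  rw [disjoint_iff_inter_eq_empty, disjoint_iff_inter_eq_empty, ← smul_finset_inter,
    smul_finset_eq_empty]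

theorem pt_mem_iff {i : ℕ} (hi : i < 24) (n : ℕ) : pt i ∈ toF n ↔ bit n i = true := by
  rw [pt_mem_toF hi, bit_eq]

theorem pt23_mem (n : ℕ) : pt 23 ∈ toF n ↔ bit n 23 = true := pt_mem_iff (by norm_num) n
theorem pt0_mem (n : ℕ) : pt 0 ∈ toF n ↔ bit n 0 = true := pt_mem_iff (by norm_num) n
theorem pt1_mem (n : ℕ) : pt 1 ∈ toF n ↔ bit n 1 = true := pt_mem_iff (by norm_num) n

def lfilt (p : ℕ → Bool) (l : List ℕ) : List ℕ :=
  List.rec [] (fun a _ ih => bif' (p a) (a :: ih) ih) l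

theorem mem_lfilt {p : ℕ → Bool} {l : List ℕ} {a : ℕ} : a ∈ lfilt p l ↔ a ∈ l ∧ p a = true := by
  induction l with
  | nil => simp [lfilt]
  | cons b l ih =>
    have e : lfilt p (b :: l) = bif' (p b) (b :: lfilt p l) (lfilt p l) := rfl
    rw [e]
    cases h : p b
    · simp only [bif'_false, ih, List.mem_cons]
      exact ⟨fun h => ⟨Or.inr h.1, h.2⟩, fun h' => ⟨h'.1.resolve_left
        fun e => by rw [e, h] at h'; simp at h', h'.2⟩⟩
    · simp only [bif'_true, ih, List.mem_cons]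
      exact ⟨fun h' => h'.elim (fun e => ⟨Or.inl e, e ▸ h⟩) fun h' => ⟨Or.inr h'.1, h'.2⟩,
        fun h' => h'.1.elim Or.inl fun e => Or.inr ⟨e, h'.2⟩⟩

/-- some octad contains both `a` and `b` -/
def inOct (a b : ℕ) : Bool :=
  lany (fun o => Nat.beq (pc (Nat.land b o)) (pc b))
    (lfilt (fun o => Nat.beq (pc (Nat.land a o)) (pc a)) octL)

theorem inOct_iff (a b : ℕ) : (∃ o ∈ octads, toF a ⊆ o ∧ toF b ⊆ o) ↔ inOct a b = true := by
  rw [inOct, lany_iff]
  constructor
  · rintro ⟨o, ho, h1, h2⟩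
    obtain ⟨n, hn, rfl⟩ := octads_iff.1 ho
    exact ⟨n, mem_lfilt.2 ⟨hn, Nat.beq_eq ▸ (subset_toF _ _).1 h1⟩, Nat.beq_eq ▸ (subset_toF _ _).1 h2⟩
  · rintro ⟨n, hn, h⟩
    obtain ⟨h1, h2⟩ := mem_lfilt.1 hn
    exact ⟨toF n, octads_iff.2 ⟨n, h1, rfl⟩, (subset_toF _ _).2 (Nat.eq_of_beq_eq_true h2),
      (subset_toF _ _).2 (Nat.eq_of_beq_eq_true h)⟩

theorem exists_oct_smul (g : M24) (P : Finset GolayPt → Prop) :
    (∃ o ∈ octads, P o) ↔ ∃ o ∈ octads, P (g • o) :=
  ⟨fun ⟨o, ho, h⟩ => ⟨g⁻¹ • o, (oct_smul_iff _).2 ho, by rwa [smul_inv_smul]⟩,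
    fun ⟨o, ho, h⟩ => ⟨_, (oct_smul_iff _).2 ho, h⟩⟩

/-- two sets passing the test lie in one orbit -/
theorem covS_two {f : ℕ} {E gens : List ℕ} {x0 : ℕ} {Q : ℕ → Prop} [DecidablePred Q] {L : List ℕ}
    (h : covS f E gens x0 (fun n => decide (Q n)) L = true) {a b : ℕ} (ha : a ∈ L) (hb : b ∈ L)
    (qa : Q a) (qb : Q b) : ∃ g ∈ St f E, g • toF a = toF b := by
  obtain ⟨g, hg, e⟩ := covS_sound h a ha (decide_eq_true qa)
  obtain ⟨g', hg', e'⟩ := covS_sound h b hb (decide_eq_true qb)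
  exact ⟨g' * g⁻¹, mul_mem hg' (inv_mem hg), by rw [← e, tr2, e']⟩

/-- classes with respect to a key: representatives `R` cover all members of `L` passing `q` -/
def covC (f : ℕ) (E gens R : List ℕ) (key : ℕ → ℕ) (q : ℕ → Bool) (L : List ℕ) : Bool :=
  bif' (lall (fun n => bif' (q n) (lany (fun r => Nat.beq (key r) (key n)) R) true) L)
    (lall (fun r => covS f E gens r (fun n => bif' (q n) (Nat.beq (key r) (key n)) false) L) R) false

theorem covC_sound {f : ℕ} {E gens R : List ℕ} {key : ℕ → ℕ} {q : ℕ → Bool} {L : List ℕ}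
    (h : covC f E gens R key q L = true) {a b : ℕ} (ha : a ∈ L) (hb : b ∈ L) (qa : q a = true)
    (qb : q b = true) (e : key a = key b) : ∃ g ∈ St f E, g • toF a = toF b := by
  rw [covC, bif'_eq] at h
  split_ifs at h with h1
  have h2 := lall_iff.1 h1 a ha
  rw [qa, bif'_true] at h2
  obtain ⟨r, hr, h3⟩ := lany_iff.1 h2
  have h4 := lall_iff.1 h r hr
  obtain ⟨g, hg, e1⟩ := covS_sound h4 a ha (by rw [qa, bif'_true]; exact h3)
  obtain ⟨g', hg', e2⟩ := covS_sound h4 b hb (by rw [qb, bif'_true, ← e]; exact h3)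
  exact ⟨g' * g⁻¹, mul_mem hg' (inv_mem hg), by rw [← e1, tr2, e2]⟩

/-- lower bound for the order of a generated subgroup -/
def lowOk (ls : List Lev) : ℕ → Bool :=
  List.rec (fun _ => true)
    (fun l ls' ih f => bif' (Nat.blt l.b 24) (bif' (covP f [] l.gens l.b l.n)
      (bif' (wordsOk l.gens (headGens ls') l.W) (bif' (lall (inSt (Nat.lor (Nat.pow 2 l.b) f) [])
        (headGens ls')) (force (Nat.lor (Nat.pow 2 l.b) f) ih) false) false) false) false) ls

theorem lowOk_sound {ls : List Lev} {f : ℕ} (h : lowOk ls f = true) :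
    (ls.map fun l => pc l.n).prod ≤ Nat.card (gsub (headGens ls)) := by
  induction ls generalizing f with
  | nil => exact Nat.card_pos
  | cons l ls ih =>
    have e : lowOk (l :: ls) f = bif' (Nat.blt l.b 24) (bif' (covP f [] l.gens l.b l.n)
      (bif' (wordsOk l.gens (headGens ls) l.W) (bif' (lall (inSt (2 ^ l.b ||| f) [])
        (headGens ls)) (force (Nat.lor (Nat.pow 2 l.b) f) (lowOk ls)) false) false) false)
          false := rfl
    rw [e, force_eq, bif'_eq, bif'_eq, bif'_eq, bif'_eq] at h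
    split_ifs at h with h1 h2 h3 h4
    have hb : l.b < 24 := by simpa using h1
    have h5 := card_eq_orbit_mul (H := gsub l.gens)
      (K := gsub l.gens ⊓ MulAction.stabilizer M24 (pt l.b)) (x := pt l.b)
      (S := MulAction.orbit (gsub l.gens) (pt l.b)) (fun g => Iff.rfl)
      (fun g hg => ⟨⟨g, hg⟩, rfl⟩) (fun y ⟨g, hg⟩ => ⟨g, g.2, hg⟩)
    have h6 : pc l.n ≤ (MulAction.orbit (gsub l.gens) (pt l.b)).ncard := by
      rw [← card_toF, ← Set.ncard_coe_finset]
      refine Set.ncard_le_ncard (fun p hp => ?_) (Set.toFinite _)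
      obtain ⟨g, hg, e⟩ := (covP_gsub h2).2 p hp
      exact ⟨⟨g, hg⟩, e⟩
    have h7 : Nat.card (gsub (headGens ls)) ≤
        Nat.card ↥(gsub l.gens ⊓ MulAction.stabilizer M24 (pt l.b)) :=
      Subgroup.card_le_of_le (le_inf (wordsOk_sound h3) fun g hg => St_pt hb (gsub_le_St h4 hg))
    show pc l.n * _ ≤ Nat.card (gsub l.gens)
    rw [h5]
    exact Nat.mul_le_mul h6 ((ih h).trans h7)

theorem eq_gsub_of_low {ls : List Lev} (h : lowOk ls 0 = true) {H : Subgroup M24}
    (hle : gsub (headGens ls) ≤ H) (hc : Nat.card H ≤ (ls.map fun l => pc l.n).prod) :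
    H = gsub (headGens ls) :=
  (Subgroup.eq_of_le_of_card_ge hle (hc.trans (lowOk_sound h))).symm

theorem gsub_top_of_low {ls : List Lev} (h : lowOk ls 0 = true)
    (hc : (ls.map fun l => pc l.n).prod = 244823040) : gsub (headGens ls) = ⊤ :=
  (eq_gsub_of_low h le_top (by rw [Subgroup.card_top, card_M24, hc])).symm

/-- the coded elements are commuting involutions -/
def elemAb (gens : List ℕ) : Bool :=
  lall (fun c => bif' (inM c) (bif' (Nat.beq (comp c c) idc)
    (lall (fun d => Nat.beq (comp c d) (comp d c)) gens) false) false) gens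

theorem elemAb_sound {gens : List ℕ} (h : elemAb gens = true) : ∀ g ∈ gsub gens, g * g = 1 := by
  have h1 : ∀ c ∈ gens, inM c = true ∧ comp c c = idc ∧ ∀ d ∈ gens, comp c d = comp d c := by
    intro c hc
    have := lall_iff.1 h c hc
    rw [bif'_eq, bif'_eq] at this
    split_ifs at this with h1 h2
    exact ⟨h1, Nat.eq_of_beq_eq_true h2, fun d hd => Nat.eq_of_beq_eq_true (lall_iff.1 this d hd)⟩
  refine sq_eq_one_of_closure ?_ ?_
  · rintro _ ⟨c, hc, rfl⟩
    have := (rep_pm (h1 c hc).1).mul (rep_pm (h1 c hc).1)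
    rw [(h1 c hc).2.1] at this
    exact this.eq rep_one
  · rintro _ ⟨c, hc, rfl⟩ _ ⟨d, hd, rfl⟩
    have := (rep_pm (h1 c hc).1).mul (rep_pm (h1 d hd).1)
    rw [(h1 c hc).2.2 d hd] at this
    exact this.eq ((rep_pm (h1 d hd).1).mul (rep_pm (h1 c hc).1))

def chainC (E : List ℕ) (fe : ℕ) (ls : List Lev) : ℕ → Bool :=
  List.rec (fun f => Nat.beq f fe)
    (fun l _ ih f => bif' (Nat.blt l.b 24) (bif' (baseOk f E l.gens l.P l.N l.b l.n)
      (force (Nat.lor (Nat.pow 2 l.b) f) ih) false) false) ls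

theorem chainC_sound {E : List ℕ} {fe : ℕ} {ls : List Lev} {f : ℕ} (h : chainC E fe ls f = true) :
    Nat.card (St f E) = (ls.map Lev.n).prod * Nat.card (St fe E) := by
  induction ls generalizing f with
  | nil =>
    have : f = fe := Nat.eq_of_beq_eq_true h
    simp [this]
  | cons l ls ih =>
    have e : chainC E fe (l :: ls) f = bif' (Nat.blt l.b 24)
      (bif' (baseOk f E l.gens l.P l.N l.b l.n)
        (force (Nat.lor (Nat.pow 2 l.b) f) (chainC E fe ls)) false) false := rfl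
    rw [e, force_eq, bif'_eq, bif'_eq] at h
    split_ifs at h with h1 h2
    have hb : l.b < 24 := by simpa using h1
    rw [baseOk_sound hb h2, List.map_cons, List.prod_cons, mul_assoc, ← ih h]; rfl

/-- enumeration of a generated subgroup -/
def enumG (gens : List ℕ) (k : List ℕ → Bool) : Bool :=
  bif' (lall inM gens) (clos (gens.map comp) idc 100000 fun t => k t.toL) false

theorem enumG_sound {gens : List ℕ} {k : List ℕ → Bool} (h : enumG gens k = true) :
    ∃ l, k l = true ∧ (∀ g ∈ gsub gens, ∃ c ∈ l, Rep c g) ∧ ∀ c ∈ l, ∃ g ∈ gsub gens, Rep c g := by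
  rw [enumG, bif'_eq] at h
  split_ifs at h with h1
  rw [lall_iff] at h1
  obtain ⟨t, t0, t1, t2, t3⟩ := clos_sound (P := fun c => ∃ g ∈ gsub gens, Rep c g)
    (fun φ hφ c ⟨g, hg, e⟩ => by
      obtain ⟨d, hd, rfl⟩ := List.mem_map.1 hφ
      exact ⟨_, mul_mem (pm_mem_gsub hd) hg, (rep_pm (h1 d hd)).mul e⟩) ⟨1, one_mem _, rep_one⟩ h
  refine ⟨_, t3, fun g hg => ?_, fun c hc => t1 c (Tr.mem_toL.1 hc)⟩
  rw [gsub, ← Subgroup.mem_toSubmonoid, Subgroup.closure_toSubmonoid_of_finite] at hg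
  induction hg using Submonoid.closure_induction_left with
  | one => exact ⟨idc, Tr.mem_toL.2 t0, rep_one⟩
  | mul_left y hy x _ ih =>
    obtain ⟨d, hd, rfl⟩ := hy
    obtain ⟨c, hc, e⟩ := ih
    exact ⟨comp d c, Tr.mem_toL.2 (t2 c (Tr.mem_toL.1 hc) _ (List.mem_map.2 ⟨d, hd, rfl⟩)),
      (rep_pm (h1 d hd)).mul e⟩

attribute [irreducible] chainC enumG cmbL subsL okL lfilt inOct covC lowOk elemAb

end

theorem card_St_chain {E : List ℕ} {steps : List (List ℕ × List ℕ)} {ls : List Lev} {f n : ℕ}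
    (h : chainOk E steps ls f = true) (hn : (ls.map Lev.n).prod = n) : Nat.card (St f E) = n :=
  (chainOk_sound h).1.trans hn

end Cfsg.Agent.Gol
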