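/-
Standard flags and the orders of the main subgroups of M24.
-/
import Cfsg.Agent.Gol.Sub

set_option autoImplicit false

namespace Cfsg.Agent.Gol

open scoped Pointwise symmDiff
open Finset Equiv

theorem ex_smul {G X : Type*} [Group G] [MulAction G X] (g : G) (y : X) : ∃ x, g • x = y :=
  ⟨g⁻¹ • y, smul_inv_smul _ _⟩

theorem trans_pull {E : List ℕ} {ls : List (List ℕ × ℕ)} {f d : ℕ}
    (h : transOk E ls f d = true) (hd : ∀ g ∈ St f E, g • toF d = toF d) (g : M24)
    (xs : List GolayPt) (hn : xs.Nodup) (hl : xs.length = ls.length)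
    (hx : ∀ x ∈ xs, x ∈ g • toF d) :
    ∃ g' : M24, (∀ p ∈ toF f, g' • p = g • p) ∧ (∀ s ∈ E, g' • toF s = g • toF s) ∧
      List.Forall₂ (fun l x => g' • pt l = x) (ls.map Prod.snd) xs := by
  obtain ⟨k, hk, e⟩ := transOk_sound h hd (xs.map (g⁻¹ • ·)) (hn.map (MulAction.injective _))
    (by simpa using hl) (fun y hy => by
      obtain ⟨z, hz, rfl⟩ := List.mem_map.1 hy
      exact inv_smul_mem_iff.2 (hx z hz))
  refine ⟨g * k, fun p hp => by rw [mul_smul, hk.1 p hp], fun s hs => by rw [mul_smul, hk.2 s hs], ?_⟩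
  rw [List.forall₂_map_right_iff] at e
  exact e.imp fun a b e => by rw [mul_smul, e, smul_inv_smul]

theorem cov_pull {f : ℕ} {E gens : List ℕ} {x0 : ℕ} {q : ℕ → Bool} {L : List ℕ}
    (h : covS f E gens x0 q L = true) (g : M24) {n : ℕ} (hn : n ∈ L) (hq : q n = true) :
    ∃ g' : M24, (∀ p ∈ toF f, g' • p = g • p) ∧ (∀ s ∈ E, g' • toF s = g • toF s) ∧
      g' • toF x0 = g • toF n := by
  obtain ⟨k, hk, e⟩ := covS_sound h n hn hq
  exact ⟨g * k, fun p hp => by rw [mul_smul, hk.1 p hp], fun s hs => by rw [mul_smul, hk.2 s hs],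
    by rw [mul_smul, e]⟩

theorem toF_f1 : toF 8388608 = {pt 23} := by decide +kernel
theorem toF_f2 : toF 8388609 = {pt 23, pt 0} := by decide +kernel
theorem toF_f3 : toF 8388611 = {pt 23, pt 0, pt 1} := by decide +kernel
theorem toF_f4 : toF 8388615 = {pt 23, pt 0, pt 1, pt 2} := by decide +kernel
theorem toF_1 : toF 1 = {pt 0} := by decide +kernel

def g23 : List ℕ := [965099664816078121599197180556824075, 965856449756703044505322000596940947]
def g22 : List ℕ := [983354880458004017423531405439179264, 980345737500231164916031324302680736]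

theorem c_in1 : covS 8388608 [] g23 8536111 (fun n => bit n 23) octL = true := by decide +kernel
theorem c_out1 : covS 8388608 [] g23 675712 (fun n => !bit n 23) octL = true := by decide +kernel
theorem c_in2 : covS 8388609 [] g22 8536111 (fun n => bit n 23 && bit n 0) octL = true := by
  decide +kernel
theorem c_io2 : covS 8388609 [] g22 12594948 (fun n => bit n 23 && !bit n 0) octL = true := by
  decide +kernel

theorem pt_oct_in {x : GolayPt} {o : Finset GolayPt} (ho : o ∈ octads) (hx : x ∈ o) :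
    ∃ g : M24, g • pt 23 = x ∧ g • toF 8536111 = o := by
  obtain ⟨g, rfl⟩ := std1 x
  obtain ⟨o, rfl⟩ := ex_smul g o
  obtain ⟨n, hn, rfl⟩ := octads_iff.1 ((oct_smul_iff g).1 ho)
  rw [smul_mem_smul_finset_iff, pt23_mem] at hx
  obtain ⟨k, h1, _, h3⟩ := cov_pull c_in1 g hn hx
  exact ⟨k, h1 _ (by simp [toF_f1]), h3⟩

theorem pt_oct_out {x : GolayPt} {o : Finset GolayPt} (ho : o ∈ octads) (hx : x ∉ o) :
    ∃ g : M24, g • pt 23 = x ∧ g • toF 675712 = o := by
  obtain ⟨g, rfl⟩ := std1 x
  obtain ⟨o, rfl⟩ := ex_smul g o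
  obtain ⟨n, hn, rfl⟩ := octads_iff.1 ((oct_smul_iff g).1 ho)
  rw [smul_mem_smul_finset_iff, pt23_mem] at hx
  obtain ⟨k, h1, _, h3⟩ := cov_pull c_out1 g hn (by simpa using hx)
  exact ⟨k, h1 _ (by simp [toF_f1]), h3⟩

theorem pq_oct_in {p q : GolayPt} (hpq : p ≠ q) {o : Finset GolayPt} (ho : o ∈ octads) (hp : p ∈ o)
    (hq : q ∈ o) : ∃ g : M24, g • pt 23 = p ∧ g • pt 0 = q ∧ g • toF 8536111 = o := by
  obtain ⟨g, rfl, rfl⟩ := std2 hpq
  obtain ⟨o, rfl⟩ := ex_smul g o
  obtain ⟨n, hn, rfl⟩ := octads_iff.1 ((oct_smul_iff g).1 ho)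
  rw [smul_mem_smul_finset_iff, pt23_mem] at hp
  rw [smul_mem_smul_finset_iff, pt0_mem] at hq
  obtain ⟨k, h1, _, h3⟩ := cov_pull c_in2 g hn (by simp [hp, hq])
  exact ⟨k, h1 _ (by simp [toF_f2]), h1 _ (by simp [toF_f2]), h3⟩

theorem pq_oct_io {p q : GolayPt} {o : Finset GolayPt} (ho : o ∈ octads) (hp : p ∈ o)
    (hq : q ∉ o) : ∃ g : M24, g • pt 23 = p ∧ g • pt 0 = q ∧ g • toF 12594948 = o := by
  obtain ⟨g, rfl, rfl⟩ := std2 (a := p) (b := q) (fun e => hq (e ▸ hp))
  obtain ⟨o, rfl⟩ := ex_smul g o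
  obtain ⟨n, hn, rfl⟩ := octads_iff.1 ((oct_smul_iff g).1 ho)
  rw [smul_mem_smul_finset_iff, pt23_mem] at hp
  rw [smul_mem_smul_finset_iff, pt0_mem] at hq
  obtain ⟨k, h1, _, h3⟩ := cov_pull c_io2 g hn (by simp [hp, hq])
  exact ⟨k, h1 _ (by simp [toF_f2]), h1 _ (by simp [toF_f2]), h3⟩

theorem t_oct : transOk [8536111] [([28729250887528486531516592930491950, 964812936660228002610996183620976737], 23),
  ([979280787130025618908698226447552037, 961405954181826482032494816942733489], 0),
  ([970279282509237911888416272638052800, 971513763112539478683376838552700064], 1),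
  ([966230554566044352243087794164021280, 975759180061681380847228153671825440], 2),
  ([980224387687010295957922729495201824, 979653720856132155943788869151000608, 968621477650857569167789942210922528], 3),
  ([966039336168793943308839874394687520, 976909097487365034896521273070946336, 983271302155371035984055114495264800], 5)] 0 8536111 = true := by decide +kernel

theorem oct_pts {o : Finset GolayPt} (ho : o ∈ octads) {a b c d e f : GolayPt}
    (hn : [a, b, c, d, e, f].Nodup) (hx : ∀ x ∈ [a, b, c, d, e, f], x ∈ o) :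
    ∃ g : M24, g • toF 8536111 = o ∧ g • pt 23 = a ∧ g • pt 0 = b ∧ g • pt 1 = c ∧ g • pt 2 = d ∧
      g • pt 3 = e ∧ g • pt 5 = f := by
  obtain ⟨g, rfl⟩ := std_oct ho
  obtain ⟨k, _, h1, h2⟩ := trans_pull t_oct (fun g hg => hg.2 _ (by simp)) g _ hn rfl hx
  exact ⟨k, h1 _ (by simp), by simpa using h2⟩

theorem t_dod : transOk [340831] [([844655365127603651330276459615918083, 601299540541207097017406949925848205], 0),
  ([981936972673444871357696469910493280, 902860254814604741964508735769846848], 1),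
  ([796017795621991942476776129526417440, 936749640237651056388410250241329184], 2),
  ([796025918939784314627536738561984544, 437673696385666828435562741295908896], 3),
  ([715872302521680643580706198532491296, 608405391266436187982588441666881568], 4)] 0 340831 = true := by decide +kernel

theorem dod_pts {o : Finset GolayPt} (ho : o ∈ dodecads) {a b c d e : GolayPt}
    (hn : [a, b, c, d, e].Nodup) (hx : ∀ x ∈ [a, b, c, d, e], x ∈ o) :
    ∃ g : M24, g • toF 340831 = o ∧ g • pt 0 = a ∧ g • pt 1 = b ∧ g • pt 2 = c ∧ g • pt 3 = d ∧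
      g • pt 4 = e := by
  obtain ⟨g, rfl⟩ := std_dod ho
  obtain ⟨k, _, h1, h2⟩ := trans_pull t_dod (fun g hg => hg.2 _ (by simp)) g _ hn rfl hx
  exact ⟨k, h1 _ (by simp), by simpa using h2⟩

theorem exists_mem_notMem {s : Finset GolayPt} (l : List GolayPt) (h : l.length < s.card) :
    ∃ p ∈ s, p ∉ l := by
  by_contra hc
  push Not at hc
  have : s ⊆ l.toFinset := fun p hp => List.mem_toFinset.2 (hc p hp)
  have h1 := (card_le_card this).trans l.toFinset_card_le
  omega

theorem extend_list {s : Finset GolayPt} (l : List GolayPt) (hn : l.Nodup) (hl : ∀ x ∈ l, x ∈ s)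
    (k : ℕ) (h : l.length + k ≤ s.card) :
    ∃ m : List GolayPt, m.length = k ∧ (l ++ m).Nodup ∧ ∀ x ∈ l ++ m, x ∈ s := by
  induction k with
  | zero => exact ⟨[], rfl, by simpa using hn, by simpa using hl⟩
  | succ k ih =>
    obtain ⟨m, h1, h2, h3⟩ := ih (by omega)
    obtain ⟨p, hp, hp'⟩ := exists_mem_notMem (s := s) (l ++ m) (by simp [h1]; omega)
    refine ⟨m ++ [p], by simp [h1], by rw [← List.append_assoc]; exact nodup_snoc h2 hp', ?_⟩
    rw [← List.append_assoc]
    intro x hx
    rcases List.mem_append.1 hx with hx | hx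
    · exact h3 x hx
    · rw [List.mem_singleton.1 hx]; exact hp

theorem dod_pts3 {o : Finset GolayPt} (ho : o ∈ dodecads) {a b c : GolayPt}
    (hn : [a, b, c].Nodup) (hx : ∀ x ∈ [a, b, c], x ∈ o) :
    ∃ g : M24, g • toF 340831 = o ∧ g • pt 0 = a ∧ g • pt 1 = b ∧ g • pt 2 = c := by
  obtain ⟨m, h1, h2, h3⟩ := extend_list _ hn hx 2 (by rw [ho.2]; simp)
  obtain ⟨d, e, rfl⟩ := List.length_eq_two.1 h1
  obtain ⟨g, e1, e2, e3, e4, _⟩ := dod_pts ho h2 h3
  exact ⟨g, e1, e2, e3, e4⟩

theorem dod_pt {o : Finset GolayPt} (ho : o ∈ dodecads) {a : GolayPt} (hx : a ∈ o) :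
    ∃ g : M24, g • toF 340831 = o ∧ g • pt 0 = a := by
  obtain ⟨m, h1, h2, h3⟩ := extend_list (s := o) [a] (by simp) (by simpa using hx) 2
    (by rw [ho.2]; simp)
  obtain ⟨d, e, rfl⟩ := List.length_eq_two.1 h1
  obtain ⟨g, e1, e2, _⟩ := dod_pts3 ho h2 h3
  exact ⟨g, e1, e2⟩

theorem oct_pts4 {o : Finset GolayPt} (ho : o ∈ octads) {a b c d : GolayPt}
    (hn : [a, b, c, d].Nodup) (hx : ∀ x ∈ [a, b, c, d], x ∈ o) :
    ∃ g : M24, g • toF 8536111 = o ∧ g • pt 23 = a ∧ g • pt 0 = b ∧ g • pt 1 = c ∧ g • pt 2 = d := by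
  obtain ⟨m, h1, h2, h3⟩ := extend_list _ hn hx 2 (by rw [ho.2]; simp)
  obtain ⟨d, e, rfl⟩ := List.length_eq_two.1 h1
  obtain ⟨g, e1, e2, e3, e4, e5, _⟩ := oct_pts ho h2 h3
  exact ⟨g, e1, e2, e3, e4, e5⟩

theorem toF_D0c : toF 16436384 = (toF 340831)ᶜ := by decide +kernel

theorem t_m11 : transOk [340831] [([981936972673444871357696469910493280, 902860254814604741964508735769846848], 23),
  ([984738414330551539821129199503282208, 970579902348355485904117857338788096], 5),
  ([973866686720804476622819661296280768, 965342965745788789474711026298660352], 7)] 1 16436384 = true := by decide +kernel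

theorem m11_pts {o : Finset GolayPt} (ho : o ∈ dodecads) {p : GolayPt} (hp : p ∈ o)
    {a b c : GolayPt} (hn : [a, b, c].Nodup) (hx : ∀ x ∈ [a, b, c], x ∉ o) :
    ∃ g : M24, g • toF 340831 = o ∧ g • pt 0 = p ∧ g • pt 23 = a ∧ g • pt 5 = b ∧ g • pt 7 = c := by
  obtain ⟨g, rfl, rfl⟩ := dod_pt ho hp
  obtain ⟨k, h0, h1, h2⟩ := trans_pull t_m11 (fun g hg => by
    rw [toF_D0c, smul_compl', hg.2 _ (by simp)]) g _ hn rfl (fun x h => by
      rw [toF_D0c, smul_compl', mem_compl]; exact hx x h)
  exact ⟨k, h1 _ (by simp), h0 _ (by simp [toF_1]), by simpa using h2⟩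

theorem m11_pt {o : Finset GolayPt} (ho : o ∈ dodecads) {p : GolayPt} (hp : p ∈ o)
    {a : GolayPt} (hx : a ∉ o) : ∃ g : M24, g • toF 340831 = o ∧ g • pt 0 = p ∧ g • pt 23 = a := by
  obtain ⟨m, h1, h2, h3⟩ := extend_list (s := oᶜ) [a] (by simp) (by simpa using hx) 2
    (by rw [card_compl, ho.2, card_pt]; simp)
  obtain ⟨d, e, rfl⟩ := List.length_eq_two.1 h1
  obtain ⟨g, e1, e2, e3, _⟩ := m11_pts ho hp h2 (fun x hx => mem_compl.1 (h3 x hx))
  exact ⟨g, e1, e2, e3⟩

theorem m11_pt2 {o : Finset GolayPt} (ho : o ∈ dodecads) {p : GolayPt} (hp : p ∈ o)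
    {a b : GolayPt} (hab : a ≠ b) (ha : a ∉ o) (hb : b ∉ o) :
    ∃ g : M24, g • toF 340831 = o ∧ g • pt 0 = p ∧ g • pt 23 = a ∧ g • pt 5 = b := by
  obtain ⟨m, h1, h2, h3⟩ := extend_list (s := oᶜ) [a, b] (by simpa using hab) (by simp [ha, hb]) 1
    (by rw [card_compl, ho.2, card_pt]; simp)
  obtain ⟨d, rfl⟩ := List.length_eq_one_iff.1 h1
  obtain ⟨g, e1, e2, e3, e4, _⟩ := m11_pts ho hp h2 (fun x hx => mem_compl.1 (h3 x hx))
  exact ⟨g, e1, e2, e3, e4⟩

theorem card_stab_oct {o : Finset GolayPt} (ho : o ∈ octads) :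
    Nat.card (MulAction.stabilizer M24 o) = 322560 := by
  have := card_stab_of_orbit (G := M24) (x := o) (S := octads) (fun g => (oct_smul_iff g).2 ho)
    (fun y hy => by
      obtain ⟨g, rfl⟩ := std_oct ho
      obtain ⟨h, rfl⟩ := std_oct hy
      exact ⟨h * g⁻¹, tr2⟩)
  rw [ncard_octads, card_M24] at this
  omega

theorem card_stab_dod {o : Finset GolayPt} (ho : o ∈ dodecads) :
    Nat.card (MulAction.stabilizer M24 o) = 95040 := by
  have := card_stab_of_orbit (G := M24) (x := o) (S := dodecads) (fun g => (dod_smul_iff g).2 ho)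
    (fun y hy => by
      obtain ⟨g, rfl⟩ := std_dod ho
      obtain ⟨h, rfl⟩ := std_dod hy
      exact ⟨h * g⁻¹, tr2⟩)
  rw [ncard_dodecads, card_M24] at this
  omega

theorem St_single (s : ℕ) : St 0 [s] = MulAction.stabilizer M24 (toF s) := by
  ext g; simp [mem_St]

theorem card_m12 : Nat.card (St 0 [340831]) = 95040 := by rw [St_single, card_stab_dod D0_mem]

def m12Chain : List Lev := [⟨[844655365127603651330276459615918083, 601299540541207097017406949925848205], [340831], [], 0, 12, []⟩,
  ⟨[981936972673444871357696469910493280, 902860254814604741964508735769846848], [340831], [], 1, 11, []⟩,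
  ⟨[796017795621991942476776129526417440, 936749640237651056388410250241329184], [340831], [], 2, 10, []⟩,
  ⟨[796025918939784314627536738561984544, 437673696385666828435562741295908896], [340831], [], 3, 9, []⟩,
  ⟨[715872302521680643580706198532491296, 608405391266436187982588441666881568], [340831], [], 4, 8, []⟩]

theorem card_m11 : Nat.card (St 1 [340831]) = 7920 := by
  have := chainC_sound (E := [340831]) (fe := 1) (ls := m12Chain.take 1) (f := 0) (by decide +kernel)
  rw [card_m12, show (List.map Lev.n (m12Chain.take 1)).prod = 12 by decide] at this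
  omega

theorem card_m9 : Nat.card (St 7 [340831]) = 72 := by
  have := chainC_sound (E := [340831]) (fe := 7) (ls := m12Chain.take 3) (f := 0) (by decide +kernel)
  rw [card_m12, show (List.map Lev.n (m12Chain.take 3)).prod = 1320 by decide] at this
  omega

theorem m12_sharp : St 31 [340831] = ⊥ := by
  have := chainC_sound (E := [340831]) (fe := 31) (ls := m12Chain) (f := 0) (by decide +kernel)
  rw [card_m12, show (List.map Lev.n m12Chain).prod = 95040 by decide] at this
  exact Subgroup.card_eq_one.1 (by omega)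

def m24Steps : List (List ℕ × List ℕ) := [([8391797, 2162811], []), ([8394986, 262637], []), ([262637, 10558], []), ([8421811], []), ([262637], []), ([525274, 9440193], []), ([8455014], []), ([525274], []), ([2687905], []), ([2101096], [9440193]), ([2101096], []), ([72588], []), ([2702848], []), ([290352], []), ([675712], []), ([], [12594948]), ([], [])]

theorem card_m23 : Nat.card (St 8388608 []) = 10200960 :=
  card_St_chain (steps := m24Steps) (ls := m24Chain.drop 1) (by decide +kernel) (by decide)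
theorem card_m22 : Nat.card (St 8388609 []) = 443520 :=
  card_St_chain (steps := m24Steps) (ls := m24Chain.drop 2) (by decide +kernel) (by decide)
theorem m21_chk : chainOk [] m24Steps (m24Chain.drop 3) 8388611 = true := by decide +kernel
theorem card_m21 : Nat.card (St 8388611 []) = 20160 := card_St_chain m21_chk (by decide)

def e16Chain : List Lev := [⟨[967812279691448225500382947153381408, 983548720921252936276249910206105632, 975346028712660580592452217730074656, 963721886883755259286232606933354528], [], [], 4, 16, []⟩]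

theorem e16_chk : chainOk [] [([8391797, 21116], []), ([4325622, 133817], []), ([4325622], []), ([262637, 84464], []), ([8421811], []), ([262637], []), ([5538256], []), ([9440193], [36294]), ([1050548], []), ([36294], []), ([1351424], []), ([12594948], []), ([69395], []), ([675712], []), ([], [])] e16Chain 8536111 = true := by decide +kernel

theorem card_e16 : Nat.card (St 8536111 []) = 16 := card_St_chain e16_chk (by decide)

theorem e16_sq : ∀ g ∈ St 8536111 [], g * g = 1 := fun g hg =>
  elemAb_sound (by decide +kernel) g ((chainOk_sound e16_chk).2 hg)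

theorem e16_reg : St 8536127 [] = ⊥ := refn_sound (steps := [([8391797, 21116], []), ([4325622, 133817], []), ([4325622], []), ([262637, 84464], []), ([8421811], []), ([262637], []), ([5538256], []), ([9440193], [36294]), ([1050548], []), ([36294], []), ([1351424], []), ([12594948], []), ([69395], []), ([675712], []), ([], [])]) (by decide +kernel)

theorem toF_O0c : toF 8241104 = (toF 8536111)ᶜ := by decide +kernel

theorem e16_trans : ∀ p ∉ toF 8536111, ∃ g ∈ St 8536111 [], g • pt 4 = p := fun p hp =>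
  covP_sound (gens := headGens e16Chain) (m := 8241104) (by decide +kernel) p
    (by rw [toF_O0c]; exact mem_compl.2 hp)

end Cfsg.Agent.Gol
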