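/-
Homomorphisms from small concrete groups into M24.
-/
import Cfsg.Agent.Gol.Flag

set_option autoImplicit false

namespace Cfsg.Agent.Gol

open scoped Pointwise symmDiff
open Finset Equiv

theorem proj_hom {A F V X : Type*} [Field F] [AddCommGroup V] [Module F V] [Group A]
    [MulAction A V] [SMulCommClass A F V] (lab : V → X) (rep : X → V) (D : X → Prop)
    [DecidablePred D] (good : V → Prop) (h1 : ∀ (a : A) v, good v → good (a • v))
    (hs : ∀ v (c : F), good v → c ≠ 0 → lab (c • v) = lab v)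
    (hr : ∀ v, good v → ∃ c : F, c ≠ 0 ∧ rep (lab v) = c • v)
    (h3 : ∀ p, D p → good (rep p) ∧ lab (rep p) = p) (h4 : ∀ v, good v → D (lab v)) :
    ∃ π : A →* Perm X, ∀ a p, π a p = if D p then lab (a • rep p) else p :=
  ⟨labHom lab rep D good h1 (fun a v w hv hw e => by
    obtain ⟨c, hc, e1⟩ := hr v hv
    obtain ⟨d, hd, e2⟩ := hr w hw
    rw [← hs _ c (h1 a v hv) hc, ← hs _ d (h1 a w hw) hd, ← smul_comm a c, ← smul_comm a d, ← e1, ← e2, e])
    h3 h4, fun _ _ => rfl⟩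

noncomputable section

theorem pack_congr {w : ℕ} {f g : ℕ → ℕ} {k : ℕ} (h : ∀ i < k, f i = g i) :
    pack w f k = pack w g k := by
  induction k with
  | zero => unfold pack; rfl
  | succ k ih => rw [pack_succ, pack_succ, h k (by omega), ih fun i hi => h i (by omega)]

theorem comp_lt (c d : ℕ) : comp c d < 2 ^ 120 := by
  unfold comp
  exact pack_lt (w := 5) (k := 24) fun _ _ => ap_lt _ _

def gstep (mulc : ℕ → ℕ → ℕ) (y : ℕ × ℕ) (n : ℕ) : ℕ :=
  Nat.add (Nat.shiftLeft (mulc y.1 (Nat.shiftRight n 120)) 120)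
    (comp y.2 (Nat.mod n 1329227995784915872903807060280344576))

def graphM (mulc : ℕ → ℕ → ℕ) (cs : List (ℕ × ℕ)) (e N : ℕ) : Bool :=
  bif' (lall (fun y => inM y.2) cs)
    (clos (cs.map (gstep mulc)) (e * 1329227995784915872903807060280344576 + idc) 200000
      (graphK 1329227995784915872903807060280344576 N)) false

theorem gstep_div (mulc : ℕ → ℕ → ℕ) (y : ℕ × ℕ) (n : ℕ) :
    gstep mulc y n / 1329227995784915872903807060280344576 =
      mulc y.1 (n / 1329227995784915872903807060280344576) ∧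
    gstep mulc y n % 1329227995784915872903807060280344576 =
      comp y.2 (n % 1329227995784915872903807060280344576) := by
  have e : gstep mulc y n = mulc y.1 (n >>> 120) <<< 120 +
    comp y.2 (n % 1329227995784915872903807060280344576) := rfl
  have h := comp_lt y.2 (n % 1329227995784915872903807060280344576)
  rw [e, Nat.shiftLeft_eq, Nat.shiftRight_eq_div_pow]
  norm_num at h ⊢
  omega

theorem hom_of_graphM {A : Type*} [Group A] [Finite A] (enc : A → ℕ) (mulc : ℕ → ℕ → ℕ)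
    (hm : ∀ x y, enc (x * y) = mulc (enc x) (enc y)) {e N : ℕ} (he : enc 1 = e)
    (hN : Nat.card A = N) {cs : List (ℕ × ℕ)} (hcs : ∀ y ∈ cs, ∃ x, enc x = y.1)
    (h : graphM mulc cs e N = true) :
    ∃ φ : A →* M24, (∀ y ∈ cs, ∀ x, enc x = y.1 → φ x = pm y.2) ∧
      gsub (cs.map Prod.snd) ≤ φ.range := by
  rw [graphM, bif'_eq] at h
  split_ifs at h with h1
  rw [lall_iff] at h1
  have hid : idc < 1329227995784915872903807060280344576 := by decide +kernel
  obtain ⟨φ, hφ⟩ := exists_hom_of_graph (fun a s => a = enc s) Rep (fun _ _ _ e1 e2 => e1.trans e2.symm)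
    (fun _ _ _ => Rep.eq) 1329227995784915872903807060280344576 N hN (cs.map (gstep mulc))
    (fun g x => ∃ y ∈ cs, g = gstep mulc y ∧ enc x.1 = y.1 ∧ x.2 = pm y.2)
    (fun g hg => by
      obtain ⟨y, hy, rfl⟩ := List.mem_map.1 hg
      obtain ⟨x, hx⟩ := hcs y hy
      exact ⟨(x, pm y.2), y, hy, rfl, hx, rfl⟩)
    (by
      rintro _ x ⟨y, hy, rfl, e1, e2⟩ n s k e3 e4
      rw [(gstep_div _ _ _).1, (gstep_div _ _ _).2, e3, hm, e1, e2]
      exact ⟨rfl, (rep_pm (h1 y hy)).mul e4⟩) (by rw [he]; omega)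
    (by rw [show (e * 1329227995784915872903807060280344576 + idc) %
      1329227995784915872903807060280344576 = idc by omega]; exact rep_one) h
  have key : ∀ y ∈ cs, ∀ x, enc x = y.1 → φ x = pm y.2 := fun y hy x hx =>
    hφ _ (List.mem_map.2 ⟨y, hy, rfl⟩) (x, pm y.2) ⟨y, hy, rfl, hx, rfl⟩
  refine ⟨φ, key, gsub_le fun c hc => ?_⟩
  obtain ⟨y, hy, rfl⟩ := List.mem_map.1 hc
  obtain ⟨x, hx⟩ := hcs y hy
  exact ⟨x, key y hy x hx⟩

def dg4 (c k : ℕ) : ℕ := Nat.land (Nat.shiftRight c (Nat.mul 4 k)) 15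

theorem dg4_eq (c i : ℕ) : dg4 c i = c / 2 ^ (4 * i) % 2 ^ 4 := by
  unfold dg4
  rw [← Nat.shiftRight_eq_div_pow, ← Nat.and_two_pow_sub_one_eq_mod]; rfl

def sumTo (f : ℕ → ℕ) (n : ℕ) : ℕ := Nat.rec 0 (fun i ih => Nat.add (f i) ih) n

theorem sumTo_eq (f : ℕ → ℕ) (n : ℕ) : sumTo f n = ∑ i ∈ range n, f i := by
  induction n with
  | zero => rfl
  | succ n ih => rw [sum_range_succ, ← ih, add_comm _ (f n)]; rfl

def entM {n p : ℕ} (M : Matrix (Fin n) (Fin n) (ZMod p)) (i j : ℕ) : ℕ :=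
  if h : i < n ∧ j < n then (M ⟨i, h.1⟩ ⟨j, h.2⟩).val else 0

def encM {n p : ℕ} (M : Matrix (Fin n) (Fin n) (ZMod p)) : ℕ :=
  pack 4 (fun k => entM M (k / n) (k % n)) (n * n)

def mulM (n p u v : ℕ) : ℕ :=
  pack 4 (fun k => Nat.mod (sumTo (fun l => Nat.mul (dg4 u (Nat.add (Nat.mul (Nat.div k n) n) l))
    (dg4 v (Nat.add (Nat.mul l n) (Nat.mod k n)))) n) p) (Nat.mul n n)

theorem dg4_encM {n p : ℕ} [NeZero p] (hp : p ≤ 16) (M : Matrix (Fin n) (Fin n) (ZMod p))
    {i j : ℕ} (hi : i < n) (hj : j < n) : dg4 (encM M) (i * n + j) = (M ⟨i, hi⟩ ⟨j, hj⟩).val := by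
  rw [dg4_eq, encM, dig_pack (fun k _ => ?_) (by nlinarith)]
  · have h1 : (i * n + j) / n = i := by
      rw [mul_comm, Nat.mul_add_div (by omega), Nat.div_eq_of_lt hj, add_zero]
    have h2 : (i * n + j) % n = j := by rw [mul_comm, Nat.mul_add_mod, Nat.mod_eq_of_lt hj]
    rw [h1, h2, entM, dif_pos ⟨hi, hj⟩]
  · unfold entM
    split_ifs
    · exact lt_of_lt_of_le (ZMod.val_lt _) hp
    · norm_num

theorem encM_mul {n p : ℕ} [NeZero p] (hp : p ≤ 16) (M N : Matrix (Fin n) (Fin n) (ZMod p)) :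
    encM (M * N) = mulM n p (encM M) (encM N) := by
  refine pack_congr fun k hk => ?_
  have hn : 0 < n := Nat.pos_of_ne_zero fun h => by simp [h] at hk
  have h1 : k / n < n := Nat.div_lt_of_lt_mul hk
  have h2 : k % n < n := Nat.mod_lt _ hn
  show _ = sumTo (fun l => dg4 (encM M) (k / n * n + l) * dg4 (encM N) (l * n + k % n)) n % p
  rw [entM, dif_pos ⟨h1, h2⟩, sumTo_eq, ← Fin.sum_univ_eq_sum_range
    (fun l => dg4 (encM M) (k / n * n + l) * dg4 (encM N) (l * n + k % n)), ← ZMod.val_natCast p,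
    Matrix.mul_apply]
  congr 1
  push_cast
  refine sum_congr rfl fun l _ => ?_
  rw [dg4_encM hp M h1 l.2, dg4_encM hp N l.2 h2, ZMod.natCast_zmod_val, ZMod.natCast_zmod_val]

def encP {m : ℕ} (σ : Perm (Fin m)) : ℕ :=
  pack 5 (fun i => if h : i < m then (σ ⟨i, h⟩ : ℕ) else 0) m

def mulP (m c d : ℕ) : ℕ := pack 5 (fun i => ap c (ap d i)) m

theorem ap_encP {m : ℕ} (hm : m ≤ 32) (σ : Perm (Fin m)) {i : ℕ} (hi : i < m) :
    ap (encP σ) i = σ ⟨i, hi⟩ := by
  rw [ap_eq, encP, dig_pack (fun k hk => ?_) hi, dif_pos hi]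
  rw [dif_pos hk]
  exact lt_of_lt_of_le (Fin.is_lt _) hm

theorem encP_mul {m : ℕ} (hm : m ≤ 32) (σ τ : Perm (Fin m)) :
    encP (σ * τ) = mulP m (encP σ) (encP τ) := by
  refine pack_congr fun k hk => ?_
  rw [dif_pos hk, ap_encP hm τ hk, ap_encP hm σ (Fin.is_lt _)]; rfl

attribute [irreducible] gstep graphM dg4 sumTo encM mulM encP mulP

end

end Cfsg.Agent.Gol
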