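/-
The groups L3(4) and L2(11) inside M24, and the simplicity of the Mathieu groups.
-/
import Cfsg.Agent.Gol.Hom
import Cfsg.Agent.Class.Dick3

set_option autoImplicit false

namespace Cfsg.Agent.Gol

open scoped Pointwise symmDiff MatrixGroups
open Finset Equiv Matrix

instance fact4 : Fact (∀ r : ZMod 2, r ^ 2 ≠ 1 + 1 * r) := ⟨by decide⟩

abbrev F4 : Type := QuadraticAlgebra (ZMod 2) 1 1

instance finF4 : Fintype F4 := Fintype.ofEquiv _ (QuadraticAlgebra.equivProd 1 1).symm

theorem card_F4 : Fintype.card F4 = 4 := by decide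

def c4 (x : F4) : ℕ := x.re.val + 2 * x.im.val

def d4 (k : ℕ) : F4 := ⟨(k % 2 : ℕ), (k / 2 % 2 : ℕ)⟩

def lab4 (v : Fin 3 → F4) : GolayPt := pt (List.getD [0, 4, 4, 4, 3, 11, 20, 19, 3, 19, 11, 20, 3, 20, 19, 11, 2, 13, 22, 16, 5, 8, 15, 7, 17, 6, 12, 9, 14, 10, 21, 18, 2, 16, 13, 22, 14, 18, 10, 21, 5, 7, 8, 15, 17, 9, 6, 12, 2, 22, 16, 13, 17, 12, 9, 6, 14, 21, 18, 10, 5, 15, 7, 8] (c4 (v 0) + 4 * c4 (v 1) + 16 * c4 (v 2)) 0)

def repn (k : ℕ) : Fin 3 → F4 := ![d4 k, d4 (k / 4), d4 (k / 16)]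

def rep4 (p : GolayPt) : Fin 3 → F4 := repn (List.getD [0, 0, 16, 4, 1, 20, 25, 41, 21, 45, 29, 5, 53, 17, 36, 61, 33, 52, 37, 9, 13, 57, 49, 0] (idx p) 0)

theorem vec3 {α : Type*} (v : Fin 3 → α) : ∃ a b c, v = ![a, b, c] :=
  ⟨v 0, v 1, v 2, by ext i; fin_cases i <;> rfl⟩

theorem lab4_smul (v : Fin 3 → F4) (c : F4) (hv : v ≠ 0) (hc : c ≠ 0) : lab4 (c • v) = lab4 v := by
  obtain ⟨x, y, z, rfl⟩ := vec3 v
  revert x y z c
  decide +kernel

theorem m21_iso4 : Nonempty (St 8388611 [] ≃* ProjectiveSpecialLinearGroup (Fin 3) F4) := by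
  obtain ⟨π, hπ⟩ := proj_hom (A := SL(3, F4)) (F := F4) lab4 rep4 (fun p => p ∉ toF 8388611)
    (fun v => v ≠ 0) (fun a v hv e => hv (by rw [← inv_smul_smul a v, e, smul_zero])) lab4_smul
    (fun v => by
      obtain ⟨x, y, z, rfl⟩ := vec3 v
      revert x y z
      decide +kernel) (by decide +kernel)
    (fun v => by
      obtain ⟨x, y, z, rfl⟩ := vec3 v
      revert x y z
      decide +kernel)
  have h1 : Subgroup.center SL(3, F4) ≤ π.ker := by
    intro A hA
    obtain ⟨r, hr, e⟩ := Matrix.SpecialLinearGroup.mem_center_iff.1 hA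
    have hr0 : r ≠ 0 := by
      rintro rfl
      simp at hr
    rw [MonoidHom.mem_ker]
    ext p : 1
    rw [hπ]
    split_ifs with h
    · rfl
    · have h2 : ∀ p ∉ toF 8388611, rep4 p ≠ 0 ∧ lab4 (rep4 p) = p := by decide +kernel
      have : A • rep4 p = r • rep4 p := by
        show A.1 *ᵥ rep4 p = _
        rw [← e]
        ext i : 1
        simp [Matrix.mulVec_diagonal]
      rw [this, lab4_smul _ _ (h2 p h).1 hr0, (h2 p h).2]; rfl
  have h2 : (St 8388611 []).map M24.subtype ≤ π.range := by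
    refine (Subgroup.map_mono (chainOk_sound m21_chk).2).trans ?_
    rw [Subgroup.map_le_iff_le_comap]
    refine gsub_le fun c hc => ?_
    have : c = 961028114646082071579688173212112928 ∨ c = 975553606472918800280472297643870240 := by
      revert c; decide +kernel
    rcases this with rfl | rfl
    · refine ⟨⟨!![⟨1, 0⟩, ⟨0, 1⟩, ⟨1, 0⟩; ⟨1, 0⟩, ⟨1, 1⟩, ⟨0, 1⟩; ⟨1, 1⟩, ⟨0, 0⟩, ⟨1, 0⟩], by rw [det_fin_three]; decide +kernel⟩,
        (pm_ext (by decide +kernel) fun p => ?_).symm⟩
      refine (hπ _ _).trans ?_; revert p; decide +kernel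
    · refine ⟨⟨!![⟨1, 0⟩, ⟨1, 1⟩, ⟨0, 0⟩; ⟨1, 1⟩, ⟨0, 0⟩, ⟨0, 0⟩; ⟨1, 0⟩, ⟨1, 1⟩, ⟨1, 1⟩], by rw [det_fin_three]; decide +kernel⟩,
        (pm_ext (by decide +kernel) fun p => ?_).symm⟩
      refine (hπ _ _).trans ?_; revert p; decide +kernel
  have h3 : Nat.card (ProjectiveSpecialLinearGroup (Fin 3) F4) = 20160 := by
    have a := Class.card_center_mul_card_PSL (ι := Fin 3) (F := F4)
    have b := Class.card_SL (F := F4) 3 (by norm_num)
    rw [card_F4] at a b
    rw [Fintype.card_fin, show Nat.gcd 3 (4 - 1) = 3 by norm_num] at a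
    rw [show ∏ i : Fin 3, (4 ^ 3 - 4 ^ (i : ℕ)) = 181440 by decide] at b
    omega
  obtain ⟨e⟩ := quot_center_equiv π h1 h2 (by
    rw [Subgroup.card_map_of_injective M24.subtype_injective, card_m21]; exact h3.le)
  exact ⟨((St 8388611 []).equivMapOfInjective _ M24.subtype_injective).trans e⟩

theorem m21_iso (F : Type) [Field F] [Fintype F] (hF : Fintype.card F = 4) :
    Nonempty (St 8388611 [] ≃* ProjectiveSpecialLinearGroup (Fin 3) F) := by
  obtain ⟨e⟩ := m21_iso4
  exact ⟨e.trans (Class.pslCongr (FiniteField.ringEquivOfCardEq (card_F4.trans hF.symm)))⟩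

theorem simple_m21 : IsSimpleGroup (St 8388611 []) := by
  obtain ⟨e⟩ := m21_iso4
  have := Class.PSL_isSimpleGroup (ι := Fin 3) (F := F4) (by simp)
  exact e.isSimpleGroup

/-- the point stabiliser inside `St f E` -/
def stabSt {f : ℕ} {E : List ℕ} {b : ℕ} (hb : b < 24) :
    MulAction.stabilizer (St f E) (pt b) ≃* St (2 ^ b ||| f) E :=
  (MulEquiv.subgroupCongr (by
    ext g
    rw [Subgroup.mem_subgroupOf, MulAction.mem_stabilizer_iff]
    exact ⟨fun h => ⟨fun p hp => by
      rw [toF_or, toF_two_pow hb, mem_union, mem_singleton] at hp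
      rcases hp with rfl | hp
      · exact h
      · exact g.2.1 p hp, g.2.2⟩, fun h => St_pt hb h⟩)).trans
    (Subgroup.subgroupOfEquivOfLe (St_le_of_pt (b := b)))

theorem simple_St {f d : ℕ} {E : List ℕ} {ls : List (List ℕ × ℕ)} {a b c : ℕ}
    (h : transOk E ls f d = true) (hd : ∀ g ∈ St f E, g • toF d = toF d)
    (hl : ls.map Prod.snd = [a, b, c]) (ha : a < 24) (hf : St (d ||| f) E = ⊥)
    (h1 : pt a ∈ toF d ∧ pt b ∈ toF d ∧ pt a ≠ pt b) (h4 : 4 ≤ pc d) (hc : ∀ k, pc d ≠ 2 ^ k)
    (hs : IsSimpleGroup (St (2 ^ a ||| f) E)) : IsSimpleGroup (St f E) := by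
  refine simple_of_three_trans (toF d) (fun g x hx => ?_) (fun g hg => ?_) h1.1 h1.2.1 h1.2.2
    (c := pt c) (fun x hx y hy z hz e1 e2 e3 => ?_) (by rwa [card_toF]) (by rwa [card_toF])
    (stabSt ha).isSimpleGroup
  · rw [← hd g g.2]; exact smul_mem_smul_finset hx
  · have : (g : M24) ∈ St (d ||| f) E := ⟨fun p hp => by
      rw [toF_or, mem_union] at hp
      exact hp.elim (hg p) (g.2.1 p), g.2.2⟩
    rw [hf, Subgroup.mem_bot] at this
    exact Subtype.ext this
  · obtain ⟨g, hg, e⟩ := transOk_sound h hd [x, y, z] (by simp [*])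
      (by rw [← List.length_map Prod.snd, hl]; rfl) (by simp [*])
    rw [hl] at e
    exact ⟨⟨g, hg⟩, by simpa using e⟩

theorem St_all (E : List ℕ) : St 16777215 E = ⊥ := refn_sound (steps := []) (by unfold refn; rfl)

theorem not_pow {n : ℕ} (h : 3 ∣ n ∨ 11 ∣ n ∨ 23 ∣ n ∨ 5 ∣ n) (k : ℕ) : n ≠ 2 ^ k := by
  rintro rfl
  rcases h with h | h | h | h <;>
    exact absurd (Nat.Prime.dvd_of_dvd_pow (by norm_num) h) (by norm_num)

theorem fix_compl {f : ℕ} {E : List ℕ} {d : ℕ} (h : toF d = (toF f)ᶜ) :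
    ∀ g ∈ St f E, g • toF d = toF d := fun g hg => by
  rw [h, smul_compl', St_smul_sub hg subset_rfl]

theorem t22 : transOk [] [([983354880458004017423531405439179264, 980345737500231164916031324302680736], 1),
  ([959710555097560531562360347619149856, 967859239556278177271701780983918624], 2),
  ([984369322780940249390476475697236000, 964962712522822163995993679966144544], 3)] 8388609 8388606 = true := by decide +kernel

theorem t23 : transOk [] [([965099664816078121599197180556824075, 965856449756703044505322000596940947], 0),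
  ([983354880458004017423531405439179264, 980345737500231164916031324302680736], 1),
  ([959710555097560531562360347619149856, 967859239556278177271701780983918624], 2)] 8388608 8388607 = true := by decide +kernel

theorem simple_m22 : IsSimpleGroup (St 8388609 []) :=
  simple_St t22 (fix_compl (by decide +kernel)) rfl (by norm_num) (St_all _) (by decide +kernel)
    (by decide +kernel) (not_pow (by decide +kernel)) simple_m21

theorem simple_m23 : IsSimpleGroup (St 8388608 []) :=
  simple_St t23 (fix_compl (by decide +kernel)) rfl (by norm_num) (St_all _) (by decide +kernel)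
    (by decide +kernel) (not_pow (by decide +kernel)) simple_m22

theorem simple_M24 : IsSimpleGroup M24 := by
  refine simple_of_three_trans univ (fun _ _ _ => mem_univ _) (fun g hg => ?_) (mem_univ (pt 23))
    (mem_univ (pt 0)) (by decide +kernel) (c := pt 1) (fun x _ y _ z _ e1 e2 e3 => std3 (by simp [*]))
    (by rw [card_univ, card_pt]; norm_num) (by rw [card_univ, card_pt]; exact not_pow (by norm_num)) ?_
  · exact M24_ext fun i _ => hg _ (mem_univ _)
  · have := simple_m23
    exact (MulEquiv.subgroupCongr (by ext g; simp [mem_St, toF_f1]) :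
      MulAction.stabilizer M24 (pt 23) ≃* St 8388608 []).isSimpleGroup

theorem card_l211 : Nat.card (St 8388609 [340831]) = 660 := by
  have := chainC_sound (E := [340831]) (fe := 8388609) (ls := [⟨[981936972673444871357696469910493280, 902860254814604741964508735769846848], [], [340831], 23, 12, []⟩]) (f := 1) (by decide +kernel)
  rw [card_m11] at this
  simp at this
  omega

instance fact11 : Fact (Nat.Prime 11) := ⟨by norm_num⟩

theorem l211_iso : Nonempty (St 8388609 [340831] ≃* PSL(2, ZMod 11)) := by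
  have hc : Nat.card SL(2, ZMod 11) = 1320 := by rw [Class.card_SL2, ZMod.card]; norm_num
  obtain ⟨φ, h1, h2⟩ := hom_of_graphM (A := SL(2, ZMod 11)) (fun A => encM A.1) (mulM 2 11)
    (fun x y => encM_mul (by norm_num) _ _) (e := 4097) (by decide +kernel) hc (cs := [(4113, 968669662870318350059851913020868000), (416, 964696846094572935608387675442268192)])
    (by
      simp only [List.forall_mem_cons, List.not_mem_nil, false_imp_iff, implies_true, and_true]
      exact ⟨⟨⟨!![1, 1; 0, 1], by decide +kernel⟩, by decide +kernel⟩,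
        ⟨⟨!![0, 10; 1, 0], by decide +kernel⟩, by decide +kernel⟩⟩) (by decide +kernel)
  have h3 : St 8388609 [340831] = gsub [968669662870318350059851913020868000, 964696846094572935608387675442268192] :=
    eq_gsub_of_low (ls := [⟨[968669662870318350059851913020868000, 964696846094572935608387675442268192], [], [], 1, 340830, [[1, 0, 1, 0, 1, 1, 0, 0], [0, 0, 1, 0, 0, 1, 0, 1, 0, 0, 0, 0, 0]]⟩,
  ⟨[968938422589408302186839669499048992, 965265440643394424000389797713756192], [], [], 2, 340828, [[1, 0, 0, 1, 0, 1, 0, 1, 0, 0, 0, 1], [0, 1, 1, 0, 1, 0, 0, 1, 0, 0]]⟩,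
  ⟨[970531819526550031117983620406741024, 984534996141977609297800625156032544], [], [], 3, 584, [[1, 1, 1, 0, 0, 1, 0, 0, 1, 0, 1]]⟩,
  ⟨[970499966350631336865513127433832480], [], [], 4, 4112, []⟩]) (by decide +kernel) (gsub_le_St (by decide +kernel))
      (by rw [card_l211]; decide +kernel)
  have hp := Class.card_PSL2 (F := ZMod 11)
  rw [ZMod.card, show Nat.gcd 2 (11 - 1) = 2 by norm_num] at hp
  have hp' : Nat.card PSL(2, ZMod 11) = 660 := by omega
  refine quot_center_equiv φ (fun A hA => ?_) (h3 ▸ h2) (by rw [card_l211]; exact hp'.le)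
  have h4 := Class.psl_eq_one_iff.1 ((QuotientGroup.eq_one_iff A).2 hA)
  obtain ⟨w, hw, e⟩ : ∃ w : SL(2, ZMod 11), encM w.1 = 416 ∧ -1 = w * w :=
    ⟨⟨!![0, 10; 1, 0], by decide +kernel⟩, by decide +kernel⟩
  have h5 := h1 _ (List.mem_cons_of_mem _ List.mem_cons_self) w hw
  rcases h4 with rfl | rfl
  · exact one_mem _
  · rw [MonoidHom.mem_ker, e, map_mul, h5]
    exact elemAb_sound (gens := [_]) (by decide +kernel) _ (pm_mem_gsub List.mem_cons_self)

theorem simple_l211 : IsSimpleGroup (St 8388609 [340831]) := by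
  obtain ⟨e⟩ := l211_iso
  have : IsSimpleGroup PSL(2, ZMod 11) :=
    ProjectiveSpecialLinearGroup.rank_two_simple (by rw [Nat.card_zmod]; norm_num)
  exact e.isSimpleGroup

theorem St_anti {f f' : ℕ} {E : List ℕ} (h : toF f ⊆ toF f') : St f' E ≤ St f E :=
  fun _ hg => ⟨fun p hp => hg.1 p (h hp), hg.2⟩

theorem simple_m11 : IsSimpleGroup (St 1 [340831]) :=
  simple_St t_m11 (fun g hg => by rw [toF_D0c, smul_compl', hg.2 _ (by simp)]) rfl (by norm_num)
    (refn_sound (steps := [([12717187], []), ([13142054], []), ([4213932], []), ([2624690], []), ([8391797], []), ([36294], []), ([675712], []), ([4202192], []), ([12594948], []), ([69395], []), ([], [])]) (by decide +kernel)) (by decide +kernel)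
    (by decide +kernel) (not_pow (by decide +kernel)) simple_l211

theorem simple_m12 : IsSimpleGroup (St 0 [340831]) := by
  refine simple_of_three_trans (toF 340831) (fun g x hx => ?_) (fun g hg => ?_) (a := pt 0)
    (b := pt 1) (by decide +kernel) (by decide +kernel) (by decide +kernel)
    (c := pt 2) (fun x hx y hy z hz e1 e2 e3 => ?_) (by rw [D0_mem.2]; norm_num)
    (by rw [D0_mem.2]; exact not_pow (by norm_num)) ?_
  · rw [← g.2.2 340831 (by simp)]; exact smul_mem_smul_finset hx
  · have : (g : M24) ∈ St 31 [340831] := St_anti (f' := 340831) (by decide +kernel) ⟨hg, g.2.2⟩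
    rw [m12_sharp, Subgroup.mem_bot] at this
    exact Subtype.ext this
  · obtain ⟨g, e⟩ := dod_pts3 D0_mem (a := x) (b := y) (c := z) (by simp [*]) (by simp [*])
    exact ⟨⟨g, by simp [mem_St, e.1]⟩, e.2⟩
  · have := simple_m11
    exact (stabSt (by norm_num)).isSimpleGroup

end Cfsg.Agent.Gol
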