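/-
Maximality and orbit certificates, families of sets.
-/
import Cfsg.Agent.Gol.Hom

set_option autoImplicit false

namespace Cfsg.Agent.Gol

open scoped Pointwise symmDiff
open Finset Equiv MulAction

theorem comp_eq_of_rep {a b c d : ℕ} {g : M24} (h1 : Rep (comp a b) g) (h2 : Rep (comp c d) g) :
    comp a b = comp c d := by
  have : ∀ i < 24, ap (comp a b) i = ap (comp c d) i := fun i hi =>
    pt_inj (h1 i hi).1 (h2 i hi).1 ((h1 i hi).2.symm.trans (h2 i hi).2)
  unfold comp at *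
  refine pack_congr fun i hi => ?_
  have e := this i hi
  rwa [ap_eq, ap_eq, dig_pack (fun _ _ => ap_lt _ _) hi, dig_pack (fun _ _ => ap_lt _ _) hi] at e

theorem comp_eq_idc {a b : ℕ} (h : Rep (comp a b) 1) : comp a b = idc := by
  have e : idc = comp idc idc := by decide +kernel
  rw [e]; exact comp_eq_of_rep h (e ▸ rep_one)

theorem le_gsub_of_enum {gens hs : List ℕ} {q : ℕ → Bool} {K : Subgroup M24} (hK : K ≤ gsub gens)
    (hq : ∀ g ∈ K, ∀ c, Rep c g → q c = true)
    (h : enumG gens (fun l => enumG hs fun l' => subL (lfilt q l) l') = true) : K ≤ gsub hs := by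
  obtain ⟨l, h1, h2, _⟩ := enumG_sound h
  obtain ⟨l', h3, _, h4⟩ := enumG_sound h1
  intro g hg
  obtain ⟨c, hc, e⟩ := h2 g (hK hg)
  obtain ⟨g', hg', e'⟩ := h4 c (subL_sound h3 c (mem_lfilt.2 ⟨hc, hq g hg c e⟩))
  rwa [e.eq e']

/-- the centraliser inside a subgroup -/
def centEquiv {G : Type*} [Group G] (K : Subgroup G) (x : K) :
    Subgroup.centralizer ({x} : Set K) ≃* ↥(K ⊓ Subgroup.centralizer ({(x : G)} : Set G)) where
  toFun y := ⟨y.1, y.1.2, Subgroup.mem_centralizer_singleton_iff.2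
    (congrArg Subtype.val (Subgroup.mem_centralizer_singleton_iff.1 y.2))⟩
  invFun y := ⟨⟨y.1, y.2.1⟩, Subgroup.mem_centralizer_singleton_iff.2
    (Subtype.ext (Subgroup.mem_centralizer_singleton_iff.1 y.2.2))⟩
  left_inv _ := rfl
  right_inv _ := rfl
  map_mul' _ _ := rfl

noncomputable section

def lbeq (l : List ℕ) : List ℕ → Bool :=
  List.rec (fun m => List.rec true (fun _ _ _ => false) m)
    (fun a _ ih m => List.rec false (fun b m' _ => bif' (Nat.beq a b) (ih m') false) m) l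

theorem lbeq_eq {l m : List ℕ} (h : lbeq l m = true) : l = m := by
  induction l generalizing m with
  | nil => cases m with
    | nil => rfl
    | cons b m => exact absurd h (by simp [lbeq])
  | cons a l ih => cases m with
    | nil => exact absurd h (by simp [lbeq])
    | cons b m =>
      have e : lbeq (a :: l) (b :: m) = bif' (Nat.beq a b) (lbeq l m) false := rfl
      rw [e, bif'_eq] at h
      split_ifs at h with h1
      rw [Nat.eq_of_beq_eq_true h1, ih h]

def fixOk (act : ℕ → ℕ → ℕ) (gens : List ℕ) (x0 : ℕ) : Bool :=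
  lall (fun c => bif' (inM c) (Nat.beq (act c x0) x0) false) gens

theorem fixOk_sound {X : Type*} [MulAction M24 X] {dec : ℕ → X} {act : ℕ → ℕ → ℕ}
    (hact : ∀ c, inM c = true → ∀ n, dec (act c n) = pm c • dec n) {gens : List ℕ} {x0 : ℕ}
    (h : fixOk act gens x0 = true) : ∀ c ∈ gens, inM c = true ∧ pm c ∈ stabilizer M24 (dec x0) := by
  intro c hc
  have := lall_iff.1 h c hc
  rw [bif'_eq] at this
  split_ifs at this with h1
  exact ⟨h1, by rw [mem_stabilizer_iff, ← hact c h1, Nat.eq_of_beq_eq_true this]⟩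

theorem cov_gen {X : Type*} [MulAction M24 X] {dec : ℕ → X} {act : ℕ → ℕ → ℕ}
    (hact : ∀ c, inM c = true → ∀ n, dec (act c n) = pm c • dec n) {gens : List ℕ}
    {H : Subgroup M24} (hg : ∀ c ∈ gens, inM c = true ∧ pm c ∈ H) {x0 : ℕ} {q : ℕ → Bool}
    {L : List ℕ} (h : covers (gens.map act) x0 100000 q L = true) :
    ∀ y ∈ L, q y = true → ∃ g ∈ H, g • dec x0 = dec y := by
  refine covers_sound (P := fun y => ∃ g ∈ H, g • dec x0 = dec y) ?_ ⟨1, one_mem _, one_smul _ _⟩ h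
  intro φ hφ x ⟨g, hg', e⟩
  obtain ⟨c, hc, rfl⟩ := List.mem_map.1 hφ
  exact ⟨pm c * g, mul_mem (hg c hc).2 hg', by rw [mul_smul, e, hact c (hg c hc).1]⟩

def coatOk (act : ℕ → ℕ → ℕ) (gens : List ℕ) (x0 : ℕ) (key : ℕ → ℕ) (L : List ℕ)
    (rs : List (ℕ × List Lev)) : Bool :=
  bif' (fixOk act gens x0)
    (bif' (lall (fun n => force (key n) fun k => bif' (Nat.beq n x0) true
        (lany (fun r => Nat.beq (key (act r.1 x0)) k) rs)) L)
      (lall (fun r => bif' (inM r.1) (bif' (covers (gens.map act) (act r.1 x0) 100000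
        (fun n => Nat.beq (key (act r.1 x0)) (key n)) L) (bif' (lowOk r.2 0)
          (bif' (lbeq (headGens r.2) (r.1 :: gens))
            (Nat.beq (r.2.map fun l => pc l.n).prod 244823040) false) false) false) false) rs)
      false) false

theorem coatOk_sound {X : Type*} [MulAction M24 X] {dec : ℕ → X} {act : ℕ → ℕ → ℕ}
    (hact : ∀ c, inM c = true → ∀ n, dec (act c n) = pm c • dec n) {gens : List ℕ} {x0 : ℕ}
    {key : ℕ → ℕ} {L : List ℕ} {rs : List (ℕ × List Lev)} (h : coatOk act gens x0 key L rs = true)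
    (hL : ∀ g : M24, ∃ n ∈ L, dec n = g • dec x0) (hne : ∃ g : M24, g • dec x0 ≠ dec x0) :
    IsCoatom (stabilizer M24 (dec x0)) := by
  rw [coatOk, bif'_eq, bif'_eq] at h
  split_ifs at h with h1 h2
  have hg := fixOk_sound hact h1
  have hr : ∀ r ∈ rs, inM r.1 = true ∧ (∀ n ∈ L, key (act r.1 x0) = key n →
      ∃ g ∈ stabilizer M24 (dec x0), g • dec (act r.1 x0) = dec n) ∧ gsub (r.1 :: gens) = ⊤ := by
    intro r hr
    have := lall_iff.1 h r hr
    simp only [bif'_eq] at this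
    split_ifs at this with a1 a2 a3 a4
    refine ⟨a1, fun n hn e => cov_gen hact hg a2 n hn (Nat.beq_eq ▸ e), ?_⟩
    rw [← lbeq_eq a4]
    exact gsub_top_of_low a3 (Nat.eq_of_beq_eq_true this)
  refine isCoatom_of_reps hne (rs.map fun r => pm r.1) (fun g => ?_) fun r hr' K hK hrK => ?_
  · obtain ⟨n, hn, e⟩ := hL g
    have := lall_iff.1 h2 n hn
    rw [force_eq, bif'_eq] at this
    split_ifs at this with a1
    · left; rw [← e, Nat.eq_of_beq_eq_true a1]
    · obtain ⟨r, a2, a3⟩ := lany_iff.1 this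
      obtain ⟨k, hk, e'⟩ := (hr r a2).2.1 n hn (Nat.eq_of_beq_eq_true a3)
      exact Or.inr ⟨_, List.mem_map.2 ⟨r, a2, rfl⟩, k, hk, by rw [← hact _ (hr r a2).1, e', e]⟩
  · obtain ⟨r, a2, rfl⟩ := List.mem_map.1 hr'
    rw [eq_top_iff, ← (hr r a2).2.2]
    refine gsub_le fun c hc => ?_
    rcases List.mem_cons.1 hc with rfl | hc
    · exact hrK
    · exact hK (hg c hc).2

theorem act_img : ∀ c, inM c = true → ∀ n, toF (img c n) = pm c • toF n :=
  fun _ h n => (pm_smul h n).symm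

theorem act_fam (m : ℕ) : ∀ c, inM c = true → ∀ n, fam m (imgF m c n) = pm c • fam m n :=
  fun _ h n => fam_imgF h n

/-- an orbit described by an invariant -/
theorem orbit_key {X : Type*} [MulAction M24 X] {dec : ℕ → X} {H : Subgroup M24} {A : Set X}
    (hA : ∀ g ∈ H, ∀ x ∈ A, g • x ∈ A) {kf : X → ℕ} (hk : ∀ g ∈ H, ∀ x, kf (g • x) = kf x)
    {L : List ℕ} (hL : ∀ x ∈ A, ∃ n ∈ L, dec n = x) {key : ℕ → ℕ}
    (hkey : ∀ n ∈ L, kf (dec n) = key n) {y : ℕ} (hy : dec y ∈ A) (hy' : kf (dec y) = key y)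
    (hcov : ∀ n ∈ L, Nat.beq (key y) (key n) = true → ∃ g ∈ H, g • dec y = dec n) :
    orbit H (dec y) = {x | x ∈ A ∧ kf x = key y} :=
  orbit_eq_of (fun g hg => ⟨hA g hg _ hy, by rw [hk g hg, hy']⟩) fun x hx => by
    obtain ⟨n, hn, rfl⟩ := hL x hx.1
    exact hcov n hn (Nat.beq_eq ▸ by rw [← hx.2, hkey n hn])

theorem fam_eq_image (m n : ℕ) : fam m n = (range m).image fun j => toF (ch n j) := by
  ext s; simp [mem_fam]

theorem sum_fam {m n : ℕ} (h : wfF m n = true) (f : Finset GolayPt → ℕ) :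
    ∑ t ∈ fam m n, f t = sumTo (fun j => f (toF (ch n j))) m := by
  have hc := card_fam h
  rw [fam_eq_image] at hc ⊢
  rw [sumTo_eq, sum_image (card_image_iff.1 (by rw [hc, card_range]))]

/-- intersection pattern of two families -/
def pat (S X : Finset (Finset GolayPt)) : ℕ := ∑ t ∈ S, ∑ u ∈ X, 64 ^ (t ∩ u).card

def patK (m a n : ℕ) : ℕ :=
  sumTo (fun i => force (ch a i) fun s =>
    sumTo (fun j => Nat.shiftLeft 1 (Nat.mul 6 (pc (Nat.land s (ch n j))))) m) m

theorem pat_fam {m a n : ℕ} (ha : wfF m a = true) (hn : wfF m n = true) :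
    pat (fam m a) (fam m n) = patK m a n := by
  rw [pat, sum_fam ha, patK]
  congr 1
  funext i
  rw [sum_fam hn, force_eq]
  congr 1
  funext j
  rw [card_inter_toF]
  show _ = 1 <<< (6 * _)
  rw [Nat.one_shiftLeft, pow_mul]; rfl

theorem sum_smul_fam (g : M24) (S : Finset (Finset GolayPt)) (f : Finset GolayPt → ℕ) :
    ∑ t ∈ g • S, f t = ∑ t ∈ S, f (g • t) := by
  rw [smul_finset_def, sum_image fun _ _ _ _ h => MulAction.injective g h]

theorem pat_smul (g : M24) (S X : Finset (Finset GolayPt)) : pat (g • S) (g • X) = pat S X := by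
  simp only [pat, sum_smul_fam, ← smul_finset_inter, card_smul_finset]

def okF (m : ℕ) (L : List ℕ) : Bool := bif' (incr L 0) (lall (wfF m) L) false

theorem okF_wf {m : ℕ} {L : List ℕ} (h : okF m L = true) {n : ℕ} (hn : n ∈ L) : wfF m n = true := by
  rw [okF, bif'_eq] at h
  split_ifs at h with h1
  exact lall_iff.1 h n hn

theorem ncard_fam {m : ℕ} {L : List ℕ} (h : okF m L = true) {S : Set (Finset (Finset GolayPt))}
    {q : ℕ → Bool} (h1 : ∀ x ∈ S, ∃ n ∈ L, fam m n = x) (h2 : ∀ n ∈ L, (fam m n ∈ S ↔ q n = true)) :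
    S.ncard = lcnt q L := by
  refine ncard_eq_countP ?_ (fun a ha b hb => fam_inj (okF_wf h ha) (okF_wf h hb)) h1 h2
  rw [okF, bif'_eq] at h
  split_ifs at h with h1
  exact incr_nodup h1

/-- the orbits of a subgroup fixing the family `x0` on an invariant set of families -/
theorem orbit_pat {m : ℕ} {L : List ℕ} (hL : okF m L = true) {A : Set (Finset (Finset GolayPt))}
    (hA1 : ∀ x, x ∈ A ↔ ∃ n ∈ L, fam m n = x) {H : Subgroup M24}
    (hA : ∀ g ∈ H, ∀ x ∈ A, g • x ∈ A) {x0 : ℕ} (h0 : x0 ∈ L)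
    (hH : ∀ g ∈ H, g • fam m x0 = fam m x0) {gens : List ℕ}
    (hg : ∀ c ∈ gens, inM c = true ∧ pm c ∈ H) {y : ℕ} (hy : y ∈ L)
    (hc : covers (gens.map (imgF m)) y 100000
      (fun n => Nat.beq (patK m x0 y) (patK m x0 n)) L = true) :
    orbit H (fam m y) = {x | x ∈ A ∧ pat (fam m x0) x = patK m x0 y} ∧
    (orbit H (fam m y)).ncard = lcnt (fun n => Nat.beq (patK m x0 n) (patK m x0 y)) L := by
  have e := orbit_key (dec := fam m) hA (kf := pat (fam m x0)) (fun g hg x => by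
      conv_lhs => rw [← hH g hg, pat_smul]) (fun x hx => (hA1 x).1 hx) (key := patK m x0)
    (fun n hn => pat_fam (okF_wf hL h0) (okF_wf hL hn)) ((hA1 _).2 ⟨y, hy, rfl⟩)
    (pat_fam (okF_wf hL h0) (okF_wf hL hy)) (cov_gen (act_fam m) hg hc)
  refine ⟨e, ?_⟩
  rw [e]
  refine ncard_fam hL (fun x hx => (hA1 x).1 hx.1) fun n hn => ?_
  rw [Set.mem_ofPred_eq, pat_fam (okF_wf hL h0) (okF_wf hL hn), Nat.beq_eq]
  exact and_iff_right ((hA1 _).2 ⟨n, hn, rfl⟩)

theorem mem_of_lany {L : List ℕ} {y : ℕ} (h : lany (Nat.beq y) L = true) : y ∈ L := by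
  obtain ⟨a, ha, e⟩ := lany_iff.1 h
  rwa [Nat.eq_of_beq_eq_true e]

attribute [irreducible] lbeq fixOk coatOk patK okF

end

end Cfsg.Agent.Gol
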