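/-
Orbit lists, normal subgroups and quotients of subgroups of M24.
-/
import Cfsg.Agent.Gol.Fam

set_option autoImplicit false

namespace Cfsg.Agent.Gol

open scoped Pointwise symmDiff
open Finset MulAction

theorem bif_and' {a b : Bool} : bif' a b false = true ↔ a = true ∧ b = true := by
  cases a <;> simp

theorem gsub_ind {gens : List ℕ} {P : M24 → Prop} (h1 : P 1)
    (hm : ∀ c ∈ gens, ∀ g, P g → P (pm c * g)) : ∀ g ∈ gsub gens, P g := by
  intro g hg
  rw [gsub, ← Subgroup.mem_toSubmonoid, Subgroup.closure_toSubmonoid_of_finite] at hg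
  induction hg using Submonoid.closure_induction_left with
  | one => exact h1
  | mul_left y hy x _ ih =>
    obtain ⟨d, hd, rfl⟩ := hy
    exact hm d hd x ih

noncomputable section

def orbL (act : ℕ → ℕ → ℕ) (gens : List ℕ) (x0 : ℕ) (L : List ℕ) : Bool :=
  bif' (lall inM gens) (clos (gens.map act) x0 100000 fun t => lbeq t.toL L) false

theorem orbL_sound {X : Type*} [MulAction M24 X] {dec : ℕ → X} {act : ℕ → ℕ → ℕ}
    (hact : ∀ c, inM c = true → ∀ n, dec (act c n) = pm c • dec n) {gens : List ℕ} {x0 : ℕ}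
    {L : List ℕ} (h : orbL act gens x0 L = true) (x : X) :
    (∃ g ∈ gsub gens, g • dec x0 = x) ↔ ∃ n ∈ L, dec n = x := by
  rw [orbL, bif_and', lall_iff] at h
  obtain ⟨t, t0, t1, t2, t3⟩ := clos_sound (P := fun n => ∃ g ∈ gsub gens, g • dec x0 = dec n)
    (fun φ hφ n ⟨g, hg, e⟩ => by
      obtain ⟨d, hd, rfl⟩ := List.mem_map.1 hφ
      exact ⟨_, mul_mem (pm_mem_gsub hd) hg, by rw [mul_smul, e, hact d (h.1 d hd)]⟩)
    ⟨1, one_mem _, one_smul _ _⟩ h.2
  rw [← lbeq_eq t3]
  constructor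
  · rintro ⟨g, hg, rfl⟩
    refine gsub_ind (P := fun g => ∃ n ∈ t.toL, dec n = g • dec x0)
      ⟨x0, Tr.mem_toL.2 t0, (one_smul _ _).symm⟩ (fun c hc g ⟨n, hn, e⟩ => ?_) g hg
    exact ⟨act c n, Tr.mem_toL.2 (t2 n (Tr.mem_toL.1 hn) _ (List.mem_map.2 ⟨c, hc, rfl⟩)),
      by rw [hact c (h.1 c hc), e, mul_smul]⟩
  · rintro ⟨n, hn, rfl⟩
    exact t1 n (Tr.mem_toL.1 hn)

/-- several orbits cover the selected members of a list -/
def covM (act : ℕ → ℕ → ℕ) (gens reps : List ℕ) (q : ℕ → Bool) (L : List ℕ) : Bool :=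
  bif' (lall inM gens) (treeK (orbK (gens.map act)
    (fun t => lall (fun y => bif' (q y) (t.mem y) true) L) 100000 reps) reps .nil) false

theorem covM_sound {X : Type*} [MulAction M24 X] {dec : ℕ → X} {act : ℕ → ℕ → ℕ}
    (hact : ∀ c, inM c = true → ∀ n, dec (act c n) = pm c • dec n) {gens reps : List ℕ}
    {q : ℕ → Bool} {L : List ℕ} (h : covM act gens reps q L = true) :
    ∀ y ∈ L, q y = true → ∃ r ∈ reps, ∃ g ∈ gsub gens, g • dec r = dec y := by
  rw [covM, bif_and', lall_iff] at h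
  let P : ℕ → Prop := fun n => ∃ r ∈ reps, ∃ g ∈ gsub gens, g • dec r = dec n
  have p0 : ∀ y ∈ reps, P y := fun y hy => ⟨y, hy, 1, one_mem _, one_smul _ _⟩
  obtain ⟨t, t1, t2⟩ := treeK_sound p0 (t := .nil) trivial h.2
  obtain ⟨t', t3, t4⟩ := orbK_sound (P := P) (fun φ hφ n ⟨r, hr, g, hg, e⟩ => by
    obtain ⟨d, hd, rfl⟩ := List.mem_map.1 hφ
    exact ⟨r, hr, _, mul_mem (pm_mem_gsub hd) hg, by rw [mul_smul, e, hact d (h.1 d hd)]⟩) p0 t1 t2
  intro y hy hq
  have := lall_iff.1 t4 y hy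
  rw [hq, bif'_true] at this
  exact Tr.mem_sound t3 this

theorem card_gsub_le {gens : List ℕ} {k : List ℕ → Bool} {n : ℕ}
    (h : enumG gens (fun l => bif' (Nat.beq (lcnt (fun _ => true) l) n) (k l) false) = true) :
    Nat.card (gsub gens) ≤ n := by
  obtain ⟨l, h1, h2, -⟩ := enumG_sound h
  rw [bif_and', Nat.beq_eq, lcnt_eq, List.countP_true] at h1
  choose f hf using h2
  have := Nat.card_le_card_of_injective (fun g : gsub gens => (⟨f g g.2, List.mem_toFinset.2 (hf g g.2).1⟩ :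
    l.toFinset)) fun a b e => Subtype.ext ((hf a a.2).2.eq (by
      rw [show f a a.2 = f b b.2 from congrArg Subtype.val e]; exact (hf b b.2).2))
  rw [Nat.card_eq_fintype_card (α := l.toFinset), Fintype.card_coe] at this
  exact this.trans (h1.1 ▸ List.toFinset_card_le l)

def normK (gens ns l : List ℕ) : Bool := bif' (lall inM gens)
  (lall (fun c => lall (fun n => force (comp c n) fun a =>
    lany (fun m => Nat.beq (comp m c) a) l) ns) gens) false

theorem rep_eq_of_comp {a b c d : ℕ} {g h : M24} (h1 : Rep (comp a b) g) (h2 : Rep (comp c d) h)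
    (e : comp a b = comp c d) : g = h := h1.eq (e ▸ h2)

theorem normK_sound {gens ns : List ℕ} {n : ℕ}
    (h : enumG ns (fun l => bif' (Nat.beq (lcnt (fun _ => true) l) n) (normK gens ns l) false) = true)
    (hn : lall inM ns = true) : ∀ g ∈ gsub gens, ∀ x ∈ gsub ns, g * x * g⁻¹ ∈ gsub ns := by
  obtain ⟨l, h1, -, h3⟩ := enumG_sound h
  simp only [bif_and', normK, lall_iff, force_eq, lany_iff, Nat.beq_eq] at h1 hn
  refine gsub_ind (by simp) fun c hc g ih x hx => ?_
  rw [mul_inv_rev, show pm c * g * x * (g⁻¹ * (pm c)⁻¹) = pm c * (g * x * g⁻¹) * (pm c)⁻¹ by group]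
  refine gsub_ind (P := fun y => pm c * y * (pm c)⁻¹ ∈ gsub ns) (by simp) (fun d hd y hy => ?_) _
    (ih x hx)
  obtain ⟨m, hm, e⟩ := h1.2.2 c hc d hd
  obtain ⟨z, hz, r⟩ := h3 m hm
  have := rep_eq_of_comp (r.mul (rep_pm (h1.2.1 c hc))) ((rep_pm (h1.2.1 c hc)).mul (rep_pm (hn d hd))) e
  rw [← mul_assoc, ← this, mul_assoc, mul_assoc, ← mul_assoc (pm c)]
  exact mul_mem hz hy

/-- a normal subgroup given by generators -/
def nrmOk (gens ns : List ℕ) (n : ℕ) (ls : List Lev) : Bool :=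
  bif' (enumG ns fun l => bif' (Nat.beq (lcnt (fun _ => true) l) n) (normK gens ns l) false)
    (bif' (lall inM ns) (bif' (lowOk ls 0) (bif' (lbeq (headGens ls) ns)
      (Nat.beq (ls.map fun l => pc l.n).prod n) false) false) false) false

theorem nrmOk_sound {gens ns : List ℕ} {n : ℕ} {ls : List Lev} (h : nrmOk gens ns n ls = true)
    {K : Subgroup M24} (hK : K = gsub gens) (hle : gsub ns ≤ K) :
    ((gsub ns).subgroupOf K).Normal ∧ Nat.card ((gsub ns).subgroupOf K) = n := by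
  simp only [nrmOk, bif_and', Nat.beq_eq] at h
  refine ⟨⟨fun x hx g => normK_sound h.1 h.2.1 g (hK ▸ g.2) x hx⟩, ?_⟩
  rw [Nat.card_congr (Subgroup.subgroupOfEquivOfLe hle).toEquiv]
  have := lowOk_sound h.2.2.1
  rw [lbeq_eq h.2.2.2.1, h.2.2.2.2] at this
  exact le_antisymm (card_gsub_le h.1) this

attribute [irreducible] orbL covM normK nrmOk

end

theorem quot_of_gens {A : Type*} [Group A] [Finite A] (φ : A →* M24) {K : Subgroup M24} {ns cs : List ℕ}
    (hK : K = gsub (ns ++ cs)) (hφ : φ.range ≤ K) (h2 : gsub cs ≤ φ.range)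
    [((gsub ns).subgroupOf K).Normal]
    (hc : Nat.card A * Nat.card ((gsub ns).subgroupOf K) ≤ Nat.card K) :
    Nonempty (K ⧸ (gsub ns).subgroupOf K ≃* A) := by
  refine quot_equiv_of_compl (φ.codRestrict K fun a => hφ ⟨a, rfl⟩) _ ?_ hc
  apply Subgroup.map_injective K.subtype_injective
  rw [Subgroup.map_sup, ← MonoidHom.range_comp,
    show K.subtype.comp (φ.codRestrict K fun a => hφ ⟨a, rfl⟩) = φ from rfl,
    ← MonoidHom.range_eq_map, Subgroup.range_subtype, Subgroup.subgroupOf_map_subtype]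
  refine le_antisymm (sup_le inf_le_right hφ) (hK.le.trans (gsub_le fun c hc => ?_))
  rcases List.mem_append.1 hc with h | h
  · exact Subgroup.mem_sup_left ⟨pm_mem_gsub h, hK ▸ pm_mem_gsub hc⟩
  · exact Subgroup.mem_sup_right (h2 (pm_mem_gsub h))

theorem range_le_of_card {A : Type*} [Group A] [Finite A] (φ : A →* M24) {K : Subgroup M24}
    (h : K ≤ φ.range) (hc : Nat.card A ≤ Nat.card K) : φ.range ≤ K :=
  (Subgroup.eq_of_le_of_card_ge h ((Subgroup.card_range_dvd φ |> Nat.le_of_dvd Nat.card_pos).trans hc)).ge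

theorem nrm_tr {K K' A : Type*} [Group K] [Group K'] [Group A] (e : K ≃* K') {n : ℕ} {P : Prop}
    (h : ∃ (N : Subgroup K) (_ : N.Normal), Nat.card N = n ∧ (P → ∀ x ∈ N, x * x = 1) ∧
      Nonempty (K ⧸ N ≃* A)) : ∃ (N : Subgroup K') (_ : N.Normal), Nat.card N = n ∧
      (P → ∀ x ∈ N, x * x = 1) ∧ Nonempty (K' ⧸ N ≃* A) := by
  obtain ⟨N, hN, a, b, ⟨f⟩⟩ := h
  haveI := hN.map (e : K →* K') e.surjective
  refine ⟨N.map (e : K →* K'), inferInstance, by rw [Subgroup.card_map_of_injective e.injective, a],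
    fun p => ?_, ⟨(QuotientGroup.congr N _ e rfl).symm.trans f⟩⟩
  rintro _ ⟨x, hx, rfl⟩
  rw [← map_mul, b p x hx, map_one]

/-- the stabiliser of a family induces all its permutations -/
theorem induces_all (S : Finset (Finset GolayPt)) {K : Subgroup M24}
    (hK : ∀ g, g ∈ K ↔ ∀ t ∈ S, g • t = t)
    (hc : Nat.card (stabilizer M24 S) = S.card.factorial * Nat.card K) :
    (∀ e : Equiv.Perm S, ∃ g ∈ stabilizer M24 S, ∀ t : S,
      (g : Equiv.Perm GolayPt) • (t : Finset GolayPt) = ((e t : S) : Finset GolayPt)) ∧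
    Nat.card {g : stabilizer M24 S // ∀ t ∈ S, ((g : M24) : Equiv.Perm GolayPt) • t = t} =
      Nat.card K := by
  let φ := resHom (stabilizer M24 S) S fun g hg x hx => by
    rw [← mem_stabilizer_iff.1 hg]; exact smul_mem_smul_finset hx
  have hle : K ≤ stabilizer M24 S := fun g hg => by
    rw [mem_stabilizer_iff, smul_finset_def, image_congr (g := id) ((hK g).1 hg), image_id]
  have e : φ.ker = K.subgroupOf _ := Subgroup.ext fun g => mem_ker_resHom.trans (hK g).symm
  have c : Nat.card φ.ker = Nat.card K := e ▸ Nat.card_congr (Subgroup.subgroupOfEquivOfLe hle).toEquiv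
  refine ⟨fun e => ?_, c ▸ Nat.card_congr (Equiv.subtypeEquivRight fun g =>
    (mem_ker_resHom (H := stabilizer M24 S)).symm)⟩
  have := card_range_mul_ker φ
  rw [hc, c] at this
  have t : φ.range = ⊤ := Subgroup.eq_top_of_card_eq _ (by
    rw [Nat.eq_of_mul_eq_mul_right Nat.card_pos this, Nat.card_perm, Nat.card_eq_fintype_card,
      Fintype.card_coe])
  obtain ⟨g, rfl⟩ : e ∈ φ.range := t ▸ Subgroup.mem_top e
  exact ⟨g, g.2, fun t => rfl⟩

theorem g2_top : gsub g2 = ⊤ := gsub_top_of_low (ls := [⟨[976451655397595160721301635599063082, 187629152637781448857219759555643979], [], [], 0, 16777215, [[1, 0, 1, 1, 0, 0, 0, 0, 0, 1, 0, 0], [1, 1, 1, 0, 0, 1, 0, 0, 1, 0, 1, 1, 1]]⟩,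
  ⟨[976526269443436688572632489949448800, 541564642623178934199681152398410464], [], [], 1, 16777214, [[1, 0, 1, 1, 0, 0, 0, 0], [1, 0, 0, 1, 1, 0, 0, 0, 0]]⟩,
  ⟨[682181881459679612331289442802317344, 709370564103407821169271472456569888], [], [], 2, 16777212, [[1, 0, 1, 1, 0, 0, 0, 0, 1], [0, 1, 1, 1, 1, 1, 0, 1, 0, 1, 0, 0]]⟩,
  ⟨[461683597863322538240617086085171232, 815479200853515035216546704710240288], [], [], 3, 16777208, [[0, 1, 0, 0, 0, 0], [0, 0, 0, 1, 0, 1, 1, 0]]⟩,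
  ⟨[562565832616794955807968297767503904, 479539966697379831563923867680475168], [], [], 4, 16777200, [[1, 0, 1, 1, 0, 0, 0, 0, 1], [0, 0, 1, 0, 0], [1, 1, 0, 1]]⟩,
  ⟨[590072960059042287979885064796342304, 233256162770680474255234529480509472, 760033286391170187665230726437111840], [], [], 5, 16771936, [[2, 1, 1, 2, 0]]⟩,
  ⟨[725895487971383339971559185675552800], [], [], 6, 2162752, []⟩]) (by decide +kernel) (by decide +kernel)

theorem smul_famL (g : M24) (S : Finset (Finset GolayPt)) (t : Finset GolayPt) :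
    g • t ∈ g • S ↔ t ∈ S := smul_mem_smul_finset_iff g

end Cfsg.Agent.Gol
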