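/-
Transitive actions on families of sets: counts, suborbits, maximality.
-/
import Cfsg.Agent.Gol.Fam2
import Cfsg.Agent.Lee.Prim

set_option autoImplicit false

namespace Cfsg.Agent.Gol

open scoped Pointwise symmDiff
open Finset MulAction

noncomputable section

def orbE (act : ℕ → ℕ → ℕ) (gens : List ℕ) (x0 : ℕ) (k : List ℕ → Bool) : Bool :=
  bif' (lall inM gens) (clos (gens.map act) x0 100000 fun t => k t.toL) false

theorem orbE_sound {X : Type*} [MulAction M24 X] {dec : ℕ → X} {act : ℕ → ℕ → ℕ}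
    (hact : ∀ c, inM c = true → ∀ n, dec (act c n) = pm c • dec n) {gens : List ℕ} {x0 : ℕ}
    {k : List ℕ → Bool} (h : orbE act gens x0 k = true) : ∃ L, k L = true ∧ x0 ∈ L ∧ ∀ x,
    (∃ g ∈ gsub gens, g • dec x0 = x) ↔ ∃ n ∈ L, dec n = x := by
  rw [orbE, bif_and', lall_iff] at h
  obtain ⟨t, t0, t1, t2, t3⟩ := clos_sound (P := fun n => ∃ g ∈ gsub gens, g • dec x0 = dec n)
    (fun φ hφ n ⟨g, hg, e⟩ => by
      obtain ⟨d, hd, rfl⟩ := List.mem_map.1 hφ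
      exact ⟨_, mul_mem (pm_mem_gsub hd) hg, by rw [mul_smul, e, hact d (h.1 d hd)]⟩)
    ⟨1, one_mem _, one_smul _ _⟩ h.2
  refine ⟨_, t3, Tr.mem_toL.2 t0, fun x => ⟨?_, ?_⟩⟩
  · rintro ⟨g, hg, rfl⟩
    refine gsub_ind (P := fun g => ∃ n ∈ t.toL, dec n = g • dec x0)
      ⟨x0, Tr.mem_toL.2 t0, (one_smul _ _).symm⟩ (fun c hc g ⟨n, hn, e⟩ => ?_) g hg
    exact ⟨act c n, Tr.mem_toL.2 (t2 n (Tr.mem_toL.1 hn) _ (List.mem_map.2 ⟨c, hc, rfl⟩)),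
      by rw [hact c (h.1 c hc), e, mul_smul]⟩
  · rintro ⟨n, hn, rfl⟩
    exact t1 n (Tr.mem_toL.1 hn)

def packK (m : ℕ) (gS : List ℕ) (x0 : ℕ) (ys : List (ℕ × ℕ × ℕ)) (N : ℕ) (L : List ℕ) : Bool :=
  bif' (okF m L) (bif' (Nat.beq (lcnt (fun _ => true) L) N)
    (bif' (lall (fun y => bif' (lany (Nat.beq y.1) L) (bif' (Nat.beq (patK m x0 y.1) y.2.1)
        (bif' (covers (gS.map (imgF m)) y.1 100000
          (fun n => Nat.beq (patK m x0 y.1) (patK m x0 n)) L)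
          (Nat.beq (lcnt (fun n => Nat.beq (patK m x0 n) (patK m x0 y.1)) L) y.2.2) false) false)
        false) ys)
      (lall (fun n => force (patK m x0 n) fun k => lany (fun y => Nat.beq y.2.1 k) ys) L) false)
    false) false

def packOk (m : ℕ) (gH gS : List ℕ) (x0 : ℕ) (ys : List (ℕ × ℕ × ℕ)) (N : ℕ) : Bool :=
  bif' (fixOk (imgF m) gS x0) (orbE (imgF m) gH x0 (packK m gS x0 ys N)) false

theorem packOk_sound {m : ℕ} {A : Set (Finset (Finset GolayPt))} {H : Subgroup M24}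
    {gH gS : List ℕ} {x0 N : ℕ} {ys : List (ℕ × ℕ × ℕ)} (h : packOk m gH gS x0 ys N = true)
    (hH : H = gsub gH) (hA : ∀ g ∈ H, ∀ x ∈ A, g • x ∈ A) (h0 : fam m x0 ∈ A)
    (ht : ∀ x ∈ A, ∃ g ∈ H, g • fam m x0 = x) (hS : gsub gS ≤ H) {K : Subgroup M24}
    (hK : ∀ g, g ∈ K ↔ g ∈ H ∧ g • fam m x0 = fam m x0) :
    A.ncard = N ∧ gsub gS ≤ K ∧ (∀ y ∈ ys, fam m y.1 ∈ A ∧
      orbit K (fam m y.1) = {x | x ∈ A ∧ pat (fam m x0) x = y.2.1} ∧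
      (orbit K (fam m y.1)).ncard = y.2.2) ∧ ∀ x ∈ A, ∃ y ∈ ys, pat (fam m x0) x = y.2.1 := by
  rw [packOk, bif_and'] at h
  obtain ⟨L, h1, h2, h3⟩ := orbE_sound (act_fam m) h.2
  have hA1 : ∀ x, x ∈ A ↔ ∃ n ∈ L, fam m n = x := fun x => by
    rw [← h3, ← hH]
    exact ⟨ht x, by rintro ⟨g, hg, rfl⟩; exact hA g hg _ h0⟩
  simp only [packK, bif_and', lall_iff, Nat.beq_eq, force_eq] at h1
  obtain ⟨a1, a2, a3, a4⟩ := h1
  have hg : ∀ c ∈ gS, inM c = true ∧ pm c ∈ K := fun c hc =>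
    ⟨(fixOk_sound (act_fam m) h.1 c hc).1,
      (hK _).2 ⟨hS (pm_mem_gsub hc), (fixOk_sound (act_fam m) h.1 c hc).2⟩⟩
  refine ⟨?_, gsub_le fun c hc => (hg c hc).2, fun y hy => ?_, fun x hx => ?_⟩
  · rw [← a2]
    exact ncard_fam a1 (fun x hx => (hA1 x).1 hx) fun n hn => iff_of_true ((hA1 _).2 ⟨n, hn, rfl⟩) rfl
  · obtain ⟨b1, b2, b3, b4⟩ := a3 y hy
    have := orbit_pat a1 hA1 (H := K) (fun g hg => hA g ((hK g).1 hg).1) h2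
      (fun g hg => ((hK g).1 hg).2) hg (mem_of_lany b1) b3
    exact ⟨(hA1 _).2 ⟨_, mem_of_lany b1, rfl⟩, b2 ▸ this.1, b4 ▸ this.2⟩
  · obtain ⟨n, hn, rfl⟩ := (hA1 x).1 hx
    obtain ⟨y, hy, e⟩ := lany_iff.1 (a4 n hn)
    exact ⟨y, hy, by rw [pat_fam (okF_wf a1 h2) (okF_wf a1 hn), Nat.eq_of_beq_eq_true e]⟩

attribute [irreducible] orbE packK packOk

end

theorem orbit_stab_self {G X : Type*} [Group G] [MulAction G X] {K : Subgroup G} {x : X}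
    (h : ∀ g ∈ K, g • x = x) : orbit K x = {x} :=
  orbit_eq_of (fun g hg => h g hg) fun y hy => ⟨1, one_mem _, by rw [one_smul, hy]⟩

theorem pack_coatom {X : Type*} [MulAction M24 X] {A : Set X} {x0 : X} {kf : X → ℕ} {dec : ℕ → X}
    {N : ℕ} {ys : List (ℕ × ℕ × ℕ)}
    (hA : ∀ g : M24, g • x0 ∈ A) (ht : ∀ x ∈ A, ∃ g : M24, g • x0 = x) (hN : A.ncard = N)
    (h1 : ∀ y ∈ ys, orbit (stabilizer M24 x0) (dec y.1) = {x | x ∈ A ∧ kf x = y.2.1} ∧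
      (orbit (stabilizer M24 x0) (dec y.1)).ncard = y.2.2)
    (h2 : ∀ x ∈ A, ∃ y ∈ ys, kf x = y.2.1) {y0 : ℕ × ℕ × ℕ} (h0 : y0 ∈ ys) (e0 : dec y0.1 = x0)
    (cnt : ℕ → ℕ) (D : Finset ℕ) (hc : ∀ j ∈ D, ∃ y ∈ ys, y.2.1 = j ∧ y.2.2 = cnt j)
    (hD : ∑ j ∈ D, cnt j = N ∧ 1 < N ∧ y0.2.1 ∈ D ∧ ∀ T ∈ D.powerset, y0.2.1 ∈ T →
      ∑ j ∈ T, cnt j ∣ N → T = {y0.2.1} ∨ ∑ j ∈ T, cnt j = N) : IsCoatom (stabilizer M24 x0) := by
  refine Lee.coatom_of_blocks hA ht (fun j x => kf x = j) (fun i j y a b => a.symm.trans b)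
    (fun j y hy y' hy' a b => ?_) cnt D (fun j hj => ?_) hN (fun y hy => ?_) hD
  · obtain ⟨z, hz, e⟩ := h2 y hy
    have m1 : y ∈ orbit (stabilizer M24 x0) (dec z.1) := (h1 z hz).1 ▸ ⟨hy, e⟩
    have m2 : y' ∈ orbit (stabilizer M24 x0) (dec z.1) := (h1 z hz).1 ▸ ⟨hy', by rw [b, ← a, e]⟩
    obtain ⟨g, rfl⟩ := m1
    obtain ⟨g', rfl⟩ := m2
    exact ⟨(g' * g⁻¹ : stabilizer M24 x0), (g' * g⁻¹).2, tr2 (G := stabilizer M24 x0)⟩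
  · obtain ⟨y, hy, rfl, e⟩ := hc j hj
    rw [← (h1 y hy).1, (h1 y hy).2, e]
  · have := (h1 y0 h0).1
    rw [e0, orbit_stab_self fun g hg => hg] at this
    exact ⟨fun e => (this ▸ ⟨hy, e⟩ : y ∈ ({x0} : Set X)),
      fun e => (this ▸ e : y ∈ {x | x ∈ A ∧ kf x = y0.2.1}).2⟩

theorem smul_set_of_inv {G X : Type*} [Group G] [MulAction G X] {A B : Set X} (g : G)
    (h : ∀ x, g • x ∈ B ↔ x ∈ A) : g • A = B := by
  ext y
  obtain ⟨x, rfl⟩ := ex_smul g y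
  rw [Set.smul_mem_smul_set_iff, h]

theorem sub_fam_eq {S : Finset (Finset GolayPt)} {m x0 : ℕ} (hw : wfF m x0 = true) (hc : S.card = m)
    (h : ∀ t ∈ S, ∃ a ∈ unp x0 m, toF a = t) : S = fam m x0 :=
  eq_of_subset_of_card_le (fun t ht => mem_famL.2 (h t ht)) (by rw [card_fam hw, hc])

end Cfsg.Agent.Gol
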