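/-
Sextets, trios and quartets.
-/
import Cfsg.Agent.Gol.Pack
import Cfsg.Prelude.Def_SporadicCombinatorics

set_option autoImplicit false

namespace Cfsg.Agent.Gol

open scoped Pointwise symmDiff
open Finset MulAction

theorem smul_mem_fam {g : M24} {S : Finset (Finset GolayPt)} {P : Finset GolayPt → Prop} :
    (∀ t ∈ g • S, P t) ↔ ∀ t ∈ S, P (g • t) :=
  ⟨fun h t ht => h _ (smul_mem_smul_finset ht), fun h t ht => by
    obtain ⟨u, hu, rfl⟩ := mem_smul_finset.1 ht; exact h u hu⟩

theorem fam_all {m x0 : ℕ} {P : Finset GolayPt → Prop} :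
    (∀ t ∈ fam m x0, P t) ↔ ∀ a ∈ unp x0 m, P (toF a) :=
  ⟨fun h a ha => h _ (mem_famL.2 ⟨a, ha, rfl⟩), fun h t ht => by
    obtain ⟨u, hu, rfl⟩ := mem_famL.1 ht; exact h u hu⟩

theorem card4 {α : Type*} [DecidableEq α] {t : Finset α} (h : t.card = 4) :
    ∃ a b c d, [a, b, c, d].Nodup ∧ t = {a, b, c, d} := by
  obtain ⟨a, s, ha, rfl, hs⟩ := card_eq_succ.1 h
  obtain ⟨b, c, d, h1, h2, h3, rfl⟩ := card_eq_three.1 hs
  exact ⟨a, b, c, d, by simp_all, rfl⟩

theorem eq_symmDiff_of_union {α : Type*} [DecidableEq α] {t u o : Finset α} (e : t ∪ u = o)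
    (h : o.card = t.card + u.card) : u = o ∆ t := by
  have hd : Disjoint t u := card_union_eq_card_add_card.1 (e ▸ h)
  ext x
  have : x ∈ t → x ∉ u := fun h => disjoint_left.1 hd h
  rw [← e, mem_symmDiff, mem_union]; tauto

/-! ### sextets -/

@[simp] theorem sex_smul_iff (g : M24) {S : Finset (Finset GolayPt)} :
    g • S ∈ sextets ↔ S ∈ sextets := by
  simp only [sextets, Set.mem_ofPred_eq, smul_mem_fam, card_smul_finset, ← smul_finset_union,
    oct_smul_iff, ne_eq, smul_left_cancel_iff]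

def sx0 : ℕ := 196055833742544739577377094642935191830535

theorem sx0_mem : fam 6 sx0 ∈ sextets := by
  refine ⟨card_fam (by decide +kernel), ?_, ?_⟩
  · simp only [fam_all, card_toF]; decide +kernel
  · simp only [fam_all, ← toF_or, ne_eq, toF_eq_iff]
    have : ∀ a ∈ unp sx0 6, ∀ b ∈ unp sx0 6, ¬ pc (a ^^^ b) = 0 →
      bif' (isCW (a ||| b)) (Nat.beq (pc (a ||| b)) 8) false = true := by decide +kernel
    exact fun a ha b hb e => toF_mem_octads (this a ha b hb e)

theorem T0_mem : toF 8388615 ∈ fam 6 sx0 := mem_famL.2 ⟨_, by decide +kernel, rfl⟩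

theorem sex_uniq {S : Finset (Finset GolayPt)} (hS : S ∈ sextets) (h : toF 8388615 ∈ S) :
    S = fam 6 sx0 := by
  refine sub_fam_eq (by decide +kernel) hS.1 fun u hu => ?_
  by_cases e : toF 8388615 = u
  · exact ⟨_, by decide +kernel, e⟩
  have ho := hS.2.2 _ h _ hu e
  have e1 := eq_symmDiff_of_union rfl ((mem_octads.1 ho).2.trans (by rw [hS.2.1 _ h, hS.2.1 _ hu]))
  obtain ⟨n, hn, e2⟩ := octads_iff.1 ho
  have : lall (fun n => bif' (Nat.beq (pc (8388615 &&& n)) (pc 8388615))
    (lany (Nat.beq (n ^^^ 8388615)) (unp sx0 6)) true) octL = true := by decide +kernel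
  have := lall_iff.1 this n hn
  rw [(subset_toF _ _).1 (e2 ▸ subset_union_left), Nat.beq_refl, bif'_true] at this
  exact ⟨_, mem_of_lany this, by rw [toF_xor, e2, ← e1]⟩

theorem std_tet {t : Finset GolayPt} (h : t.card = 4) : ∃ g : M24, g • toF 8388615 = t := by
  obtain ⟨a, b, c, d, hn, rfl⟩ := card4 h
  obtain ⟨g, rfl, rfl, rfl, rfl⟩ := std4 hn
  exact ⟨g, by simp [toF_f4, smul_finset_insert]⟩

theorem std_sex {S : Finset (Finset GolayPt)} (hS : S ∈ sextets) :
    ∃ g : M24, g • fam 6 sx0 = S := by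
  obtain ⟨t, ht⟩ := card_pos.1 (hS.1 ▸ (by norm_num : 0 < 6))
  obtain ⟨g, rfl⟩ := std_tet (hS.2.1 t ht)
  obtain ⟨S, rfl⟩ := ex_smul g S
  exact ⟨g, by rw [sex_uniq ((sex_smul_iff g).1 hS) ((smul_famL _ _ _).1 ht)]⟩

def gSex : List ℕ := [895729624181210281366717597158689991, 48928946631977817068371047857225815]
def ySex : List (ℕ × ℕ × ℕ) := [(196055833742544739577377094642935191830535, 100663326, 1), (57180412548504763435716528981451882500, 49176, 90), (19938836996762530661689196356506370080, 525456, 240), (35889571992775471328706391114178365440, 17424, 1440)]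

theorem sex_chk : packOk 6 g2 gSex sx0 ySex 1771 = true := by decide +kernel

theorem sex_pack : sextets.ncard = 1771 ∧ gsub gSex ≤ stabilizer M24 (fam 6 sx0) ∧
    (∀ y ∈ ySex, fam 6 y.1 ∈ sextets ∧ orbit (stabilizer M24 (fam 6 sx0)) (fam 6 y.1) =
      {x | x ∈ sextets ∧ pat (fam 6 sx0) x = y.2.1} ∧
      (orbit (stabilizer M24 (fam 6 sx0)) (fam 6 y.1)).ncard = y.2.2) ∧
    ∀ x ∈ sextets, ∃ y ∈ ySex, pat (fam 6 sx0) x = y.2.1 :=
  packOk_sound sex_chk g2_top.symm (fun g _ _ hx => (sex_smul_iff g).2 hx) sx0_mem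
    (fun _ hx => (std_sex hx).imp fun _ h => ⟨trivial, h⟩) le_top fun _ => by simp

theorem card_stab_sex : Nat.card (stabilizer M24 (fam 6 sx0)) = 138240 := by
  have := card_stab_of_orbit (G := M24) (fun g => (sex_smul_iff g).2 sx0_mem) fun _ => std_sex
  rw [sex_pack.1, card_M24] at this
  omega

theorem stab_sex : stabilizer M24 (fam 6 sx0) = gsub gSex :=
  eq_gsub_of_low (ls := [⟨[895729624181210281366717597158689991, 48928946631977817068371047857225815], [], [], 0, 16777215, [[1, 0, 1, 1, 0, 0, 1, 1, 0, 1, 0], [1, 1, 1, 0, 0, 1, 0, 0, 1, 0, 0]]⟩,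
  ⟨[105930204993468900589786339330229984, 68936794742697984739682568721894112], [], [], 1, 8388614, [[0, 1, 0, 0, 0, 1, 1], [0, 1]]⟩,
  ⟨[106672101446226974903700982734314528, 96762509398698228362169658236951584], [], [], 2, 8388612, [[0, 1, 1, 1, 1, 1, 0, 1, 0, 0], [0, 1, 1, 0, 1, 0, 0, 1, 1, 1, 0, 1]]⟩,
  ⟨[983468021597424337782291870733830176, 971387511372141948322787240635271200], [], [], 3, 8388600, [[0, 1, 0, 0, 0, 1, 1], [0, 1, 1, 0, 0, 1, 1, 1], [0, 1, 0, 1, 0, 0, 1]]⟩,
  ⟨[963721886883755259286232606933354528, 984436632068016323118584907140532256, 980504394422866046962412236452235296], [], [], 4, 8241104, [[0, 0, 0, 1, 2, 1]]⟩,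
  ⟨[972606645568131968584696805283956768], [], [], 5, 147488, []⟩]) (by decide +kernel) sex_pack.2.1
    (by rw [card_stab_sex]; decide +kernel)

theorem coatom_sex : IsCoatom (stabilizer M24 (fam 6 sx0)) :=
  pack_coatom (dec := fam 6) (fun g => (sex_smul_iff g).2 sx0_mem) (fun _ => std_sex) sex_pack.1
    (fun y hy => (sex_pack.2.2.1 y hy).2) sex_pack.2.2.2 (y0 := (sx0, 100663326, 1))
    (by decide +kernel) rfl (fun j => ((ySex.map Prod.snd).lookup j).getD 0)
    (ySex.map fun y => y.2.1).toFinset (by decide +kernel) (by decide +kernel)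

theorem card_ker_sex : Nat.card (St 0 (unp sx0 6)) = 192 := by
  have h1 := chainC_sound (E := unp sx0 6) (fe := 8388873) (ls := [⟨[46999706481866609773835742131356386, 29354017001627649457647037848160993, 5489702734275554893132062229957345, 89147023513860308921034189289610241], [8388615], [], 23, 4, []⟩,
  ⟨[984197174491070691497831756719490050, 984209759864417955904179982171570241, 960831283963798152912375878980765728], [8388615], [], 0, 3, []⟩,
  ⟨[972560815420533050926679905878345760, 973122887587861701392823884636653600, 960884477435128931241433760505432096, 973054518210042674313238929715267616], [147496], [], 3, 4, []⟩,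
  ⟨[972512676110088067912772961567868960, 961365507626256404119956257276790816], [268544], [], 8, 4, []⟩]) (f := 0) (by decide +kernel)
  have h2 := (chainOk_sound (E := []) (steps := [([10558, 8421811], []), ([8391797, 8455014], []), ([262637], [8657159]), ([8421811], []), ([262637], []), ([525274, 9440193], []), ([8455014], []), ([525274], []), ([2687905], []), ([2101096], [9440193]), ([2101096], []), ([72588], []), ([2702848], []), ([290352], []), ([675712], []), ([], [12594948]), ([], [])]) (ls := [⟨[981832362641521709715568418723306560, 980504195135658543607937037366313600], [], [], 1, 20, [[0, 0, 0, 1, 0, 1, 1], [0, 1, 1, 0, 0, 0], [1, 1, 0, 0, 1, 0, 1, 0, 0, 0]]⟩,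
  ⟨[970494373501944952474600730876034080, 967369154863115259308696220018525216, 967736447321437801423260333072559136], [], [8398155], 2, 16, [[0, 1, 0, 1, 0, 2, 0, 1, 2, 0]]⟩,
  ⟨[981515887986994088769278604842469408], [10486557], [], 4, 3, []⟩]) (f := 8388873) (by decide +kernel)).2
  have h3 : St 8388873 (unp sx0 6) ≤ gsub [] := le_gsub_of_enum
    (q := fun c => lall (fun s => Nat.beq (pc (img c s ^^^ s)) 0) (unp sx0 6))
    (le_trans (b := St 8388873 []) (fun x hx => ⟨hx.1, by simp⟩) h2)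
    (fun x hx c hc => lall_iff.2 fun s hs => by
      rw [Nat.beq_eq, ← toF_eq_iff, ← hc.smul]; exact hx.2 s hs) (by decide +kernel)
  rw [h1, le_bot_iff.1 (h3.trans (gsub_le (by simp)))]
  simp

/-! ### trios -/

@[simp] theorem tri_smul_iff (g : M24) {S : Finset (Finset GolayPt)} :
    g • S ∈ trios ↔ S ∈ trios := by
  simp only [trios, Set.mem_ofPred_eq, smul_mem_fam, card_smul_finset, disjoint_smul',
    oct_smul_iff, ne_eq, smul_left_cancel_iff]

def tx0 : ℕ := 380392154515879641135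

theorem tx0_mem : fam 3 tx0 ∈ trios := by
  refine ⟨card_fam (by decide +kernel), ?_, ?_⟩
  · have : ∀ a ∈ unp tx0 3, bif' (isCW a) (Nat.beq (pc a) 8) false = true := by decide +kernel
    exact fam_all.2 fun a ha => toF_mem_octads (this a ha)
  · simp only [fam_all, ne_eq, toF_eq_iff, disjoint_toF]; decide +kernel

theorem c_dis : covS 0 [8536111] [28729250887528486531516592930491950, 964812936660228002610996183620976737] 1351424
    (fun n => Nat.beq (pc (8536111 &&& n)) 0) octL = true := by decide +kernel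

theorem std_dis {o o' : Finset GolayPt} (ho : o ∈ octads) (ho' : o' ∈ octads) (h : Disjoint o o') :
    ∃ g : M24, g • toF 8536111 = o ∧ g • toF 1351424 = o' := by
  obtain ⟨g, rfl⟩ := std_oct ho
  obtain ⟨o', rfl⟩ := ex_smul g o'
  obtain ⟨n, hn, rfl⟩ := octads_iff.1 ((oct_smul_iff g).1 ho')
  obtain ⟨g', -, h1, h2⟩ := cov_pull c_dis g hn
    (Nat.beq_eq ▸ (disjoint_toF _ _).1 ((disjoint_smul' _ _ _).1 h))
  exact ⟨g', h1 _ (by simp), h2⟩

theorem std_tri {S : Finset (Finset GolayPt)} (hS : S ∈ trios) : ∃ g : M24, g • fam 3 tx0 = S := by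
  obtain ⟨a, ha, b, hb, hab⟩ := one_lt_card.1 (hS.1 ▸ (by norm_num : 1 < 3))
  obtain ⟨g, rfl, rfl⟩ := std_dis (hS.2.1 a ha) (hS.2.1 b hb) (hS.2.2 a ha b hb hab)
  obtain ⟨S, rfl⟩ := ex_smul g S
  rw [tri_smul_iff] at hS
  rw [smul_famL] at ha hb
  refine ⟨g, congrArg _ (sub_fam_eq (x0 := tx0) (by decide +kernel) hS.1 fun u hu => ?_).symm⟩
  by_cases e : toF 8536111 = u
  · exact ⟨_, by decide +kernel, e⟩
  by_cases e' : toF 1351424 = u
  · exact ⟨_, by decide +kernel, e'⟩
  obtain ⟨n, hn, rfl⟩ := octads_iff.1 (hS.2.1 u hu)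
  have : ∀ n ∈ octL, pc (8536111 &&& n) = 0 → pc (1351424 &&& n) = 0 → n = 6889680 := by
    decide +kernel
  rw [this n hn ((disjoint_toF _ _).1 (hS.2.2 _ ha _ hu e)) ((disjoint_toF _ _).1 (hS.2.2 _ hb _ hu e'))]
  exact ⟨_, by decide +kernel, rfl⟩

def gTri : List ℕ := [625883533013183612430874703497081138, 477982135755947937601323956238035535]
def yTri : List (ℕ × ℕ × ℕ) := [(380392154515879641135, 844424930131974, 1), (14638221753497031690, 281475043819524, 42), (14638163564209832010, 100663299, 56), (1485974163767315040, 67125249, 1008), (1485923342496072480, 50356224, 2688)]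

theorem tri_chk : packOk 3 g2 gTri tx0 yTri 3795 = true := by decide +kernel

theorem tri_pack : trios.ncard = 3795 ∧ gsub gTri ≤ stabilizer M24 (fam 3 tx0) ∧
    (∀ y ∈ yTri, fam 3 y.1 ∈ trios ∧ orbit (stabilizer M24 (fam 3 tx0)) (fam 3 y.1) =
      {x | x ∈ trios ∧ pat (fam 3 tx0) x = y.2.1} ∧
      (orbit (stabilizer M24 (fam 3 tx0)) (fam 3 y.1)).ncard = y.2.2) ∧
    ∀ x ∈ trios, ∃ y ∈ yTri, pat (fam 3 tx0) x = y.2.1 :=
  packOk_sound tri_chk g2_top.symm (fun g _ _ hx => (tri_smul_iff g).2 hx) tx0_mem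
    (fun _ hx => (std_tri hx).imp fun _ h => ⟨trivial, h⟩) le_top fun _ => by simp

theorem card_stab_tri : Nat.card (stabilizer M24 (fam 3 tx0)) = 64512 := by
  have := card_stab_of_orbit (G := M24) (fun g => (tri_smul_iff g).2 tx0_mem) fun _ => std_tri
  rw [tri_pack.1, card_M24] at this
  omega

theorem coatom_tri : IsCoatom (stabilizer M24 (fam 3 tx0)) :=
  pack_coatom (dec := fam 3) (fun g => (tri_smul_iff g).2 tx0_mem) (fun _ => std_tri) tri_pack.1
    (fun y hy => (tri_pack.2.2.1 y hy).2) tri_pack.2.2.2 (y0 := (tx0, 844424930131974, 1))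
    (by decide +kernel) rfl (fun j => ((yTri.map Prod.snd).lookup j).getD 0)
    (yTri.map fun y => y.2.1).toFinset (by decide +kernel) (by decide +kernel)

theorem card_ker_tri : Nat.card (St 0 [1351424, 8536111]) = 10752 := by
  have := card_St_cons (f := 0) (E := [8536111]) (s := 1351424)
    (S := {o | o ∈ octads ∧ Disjoint (toF 8536111) o}) (fun g hg => ⟨(oct_smul_iff g).2
      (toF_mem_octads (by decide +kernel)), by
        rw [← hg.2 8536111 (by simp), disjoint_smul', disjoint_toF]; decide +kernel⟩)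
    (fun y hy => by
      obtain ⟨g, h1, h2⟩ := std_dis O0_mem hy.1 hy.2
      exact ⟨g, by rwa [St_single], h2⟩)
  rw [St_single, card_stab_oct O0_mem, ncard_oct (q := fun n => Nat.beq (pc (8536111 &&& n)) 0)
    fun n _ => by rw [disjoint_toF, Nat.beq_eq], show lcnt _ octL = 30 by decide +kernel] at this
  omega

/-! ### quartets -/

theorem hex_smul_iff (g : M24) {d h : Finset GolayPt} :
    g • h ∈ hexadsOn (g • d) ↔ h ∈ hexadsOn d := by
  simp only [hexadsOn, Set.mem_ofPred_eq, card_smul_finset]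
  rw [exists_oct_smul g]
  simp only [← smul_finset_inter, smul_left_cancel_iff]

theorem qua_smul_iff (g : M24) {d : Finset GolayPt} {S : Finset (Finset GolayPt)} :
    g • S ∈ quartets (g • d) ↔ S ∈ quartets d := by
  simp only [quartets, Set.mem_ofPred_eq, smul_mem_fam, card_smul_finset, ← smul_finset_union,
    hex_smul_iff, ne_eq, smul_left_cancel_iff, smul_finset_subset_smul_finset_iff]

def qx0 : ℕ := 33056659956856512585736

theorem qx0_mem : fam 4 qx0 ∈ quartets (toF 340831) := by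
  refine ⟨card_fam (by decide +kernel), ?_, ?_⟩
  · simp only [fam_all, card_toF, subset_toF]; decide +kernel
  · simp only [fam_all, ← toF_or, ne_eq, toF_eq_iff]
    have : ∀ a ∈ unp qx0 4, ∀ b ∈ unp qx0 4, ¬ pc (a ^^^ b) = 0 → pc (a ||| b) = 6 ∧
      lany (fun n => Nat.beq (n &&& 340831) (a ||| b)) octL = true := by decide +kernel
    intro a ha b hb e
    obtain ⟨n, hn, e1⟩ := lany_iff.1 (this a ha b hb e).2
    exact ⟨by rw [card_toF, (this a ha b hb e).1], _, octads_iff.2 ⟨n, hn, rfl⟩,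
      by rw [← toF_and, Nat.eq_of_beq_eq_true e1]⟩

theorem toF_7 : toF 7 = {pt 0, pt 1, pt 2} := by decide +kernel

theorem c_hex : covS 7 [340831] [796025918939784314627536738561984544, 437673696385666828435562741295908896] 343
    (fun n => bif' (Nat.beq (pc n) 6) (Nat.beq (pc (7 &&& n)) (pc 7)) false)
    (octL.map fun n => n &&& 340831) = true := by decide +kernel

theorem std_tu {d t u : Finset GolayPt} (hd : d ∈ dodecads) (ht : t.card = 3) (hu : u.card = 3)
    (hh : t ∪ u ∈ hexadsOn d) : ∃ g : M24, g • toF 340831 = d ∧ g • toF 7 = t ∧ g • toF 336 = u := by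
  have e1 := eq_symmDiff_of_union rfl (hh.1.trans (by rw [ht, hu]))
  obtain ⟨a, b, c, h1, h2, h3, rfl⟩ := card_eq_three.1 ht
  obtain ⟨h6, o, ho, e⟩ := hh
  have hs : ({a, b, c} : Finset GolayPt) ⊆ d := subset_union_left.trans (e ▸ inter_subset_right)
  obtain ⟨g, rfl, rfl, rfl, rfl⟩ := dod_pts3 hd (a := a) (b := b) (c := c) (by simp [*])
    (by simpa [insert_subset_iff] using hs)
  have e7 : ({g • pt 0, g • pt 1, g • pt 2} : Finset GolayPt) = g • toF 7 := by
    simp [toF_7, smul_finset_insert]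
  rw [e7] at e e1 h6 ⊢
  obtain ⟨o, rfl⟩ := ex_smul g o
  obtain ⟨n, hn, rfl⟩ := octads_iff.1 ((oct_smul_iff g).1 ho)
  rw [← smul_finset_inter, ← toF_and] at e
  rw [← e] at h6 e1
  obtain ⟨g', a1, a2, a3⟩ := cov_pull c_hex g (List.mem_map.2 ⟨n, hn, rfl⟩) (by
    rw [card_smul_finset, card_toF] at h6
    rw [h6, (subset_toF _ _).1 ((smul_finset_subset_smul_finset_iff (a := g)).1
      (e ▸ subset_union_left))]
    simp)
  have a4 : g' • toF 7 = g • toF 7 := image_congr a1
  refine ⟨g', a2 _ (by simp), a4, ?_⟩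
  rw [e1, ← a3, ← a4, ← smul_symmDiff', ← toF_xor]; rfl

theorem qua_uniq {S : Finset (Finset GolayPt)} (hS : S ∈ quartets (toF 340831)) (h : toF 7 ∈ S)
    (h' : toF 336 ∈ S) : S = fam 4 qx0 := by
  refine sub_fam_eq (by decide +kernel) hS.1 fun u hu => ?_
  by_cases e : toF 7 = u
  · exact ⟨_, by decide +kernel, e⟩
  by_cases e' : toF 336 = u
  · exact ⟨_, by decide +kernel, e'⟩
  have ho := hS.2.2 _ h _ hu e
  have e1 := eq_symmDiff_of_union rfl (ho.1.trans (by rw [(hS.2.1 _ h).1, (hS.2.1 _ hu).1]))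
  have hd : Disjoint (toF 336) u := card_union_eq_card_add_card.1
    ((hS.2.2 _ h' _ hu e').1.trans (by rw [(hS.2.1 _ h').1, (hS.2.1 _ hu).1]))
  obtain ⟨h6, o, ho, e2⟩ := ho
  obtain ⟨n, hn, rfl⟩ := octads_iff.1 ho
  rw [← toF_and] at e2
  rw [← e2, ← toF_xor] at e1
  rw [← e2, card_toF] at h6
  have : ∀ n ∈ octL, pc (n &&& 340831) = 6 → pc (7 &&& (n &&& 340831)) = pc 7 →
    pc (336 &&& (n &&& 340831 ^^^ 7)) = 0 → (n &&& 340831 ^^^ 7) ∈ unp qx0 4 := by decide +kernel
  exact ⟨_, this n hn h6 ((subset_toF _ _).1 (e2 ▸ subset_union_left))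
    ((disjoint_toF _ _).1 (e1 ▸ hd)), e1.symm⟩

theorem std_qua {d : Finset GolayPt} (hd : d ∈ dodecads) {S : Finset (Finset GolayPt)}
    (hS : S ∈ quartets d) : ∃ g : M24, g • toF 340831 = d ∧ g • fam 4 qx0 = S := by
  obtain ⟨a, ha, b, hb, hab⟩ := one_lt_card.1 (hS.1 ▸ (by norm_num : 1 < 4))
  obtain ⟨g, rfl, rfl, rfl⟩ := std_tu hd (hS.2.1 a ha).1 (hS.2.1 b hb).1 (hS.2.2 a ha b hb hab)
  obtain ⟨S, rfl⟩ := ex_smul g S
  exact ⟨g, rfl, by
    rw [qua_uniq ((qua_smul_iff g).1 hS) ((smul_famL _ _ _).1 ha) ((smul_famL _ _ _).1 hb)]⟩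

def g12 : List ℕ := [844655365127603651330276459615918083, 601299540541207097017406949925848205]

theorem stab_D0 : stabilizer M24 (toF 340831) = gsub g12 :=
  eq_gsub_of_low (ls := [⟨[844655365127603651330276459615918083, 601299540541207097017406949925848205], [], [], 0, 340831, [[0, 0, 0, 0, 1, 1, 0, 1, 0, 0, 1, 0], [0, 1, 0, 0, 0, 0, 1, 1, 0]]⟩,
  ⟨[887178627869733106455918357182974208, 849562454126884211412477180877803776], [], [], 1, 340830, [[0, 1, 1, 1, 1, 0, 1, 0, 0, 1, 0, 0, 1], [0, 1, 1, 0, 1, 0, 0, 1, 1, 1, 0, 1, 0, 0, 1]]⟩,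
  ⟨[648045425277649902928402440926824480, 879231737542773836283134457405508640], [], [], 2, 340828, [[0, 1, 0, 1, 0, 1, 0], [0, 1, 1, 0, 0, 0, 1, 1, 1, 1]]⟩,
  ⟨[648045425277649902928402440926824480, 425085878865583144827023905643726880], [], [], 3, 340824, [[0, 1, 0, 0, 0, 1, 1, 0], [1, 0, 1, 1, 0, 0, 1, 1, 0]]⟩,
  ⟨[608405391266436187982588441666881568, 719923664328491199848526586197411872], [], [], 4, 340816, []⟩]) (by decide +kernel)
    (St_single _ ▸ gsub_le_St (by decide +kernel)) (by rw [card_stab_dod D0_mem]; decide +kernel)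

def gQua : List ℕ := [936750342083010215425135497030411664, 927654627862014185684953552965898502]
def yQua : List (ℕ × ℕ × ℕ) := [(33056659956856512585736, 1048588, 1), (33056729762711134802176, 262726, 12), (51947400406953672056836, 16648, 27), (51946194568358259851536, 12679, 72), (51948485774466888241216, 4741, 108)]

theorem qua_chk : packOk 4 g12 gQua qx0 yQua 220 = true := by decide +kernel

/-- the stabiliser of the standard dodecad and quartet -/
abbrev KQ : Subgroup M24 := stabilizer M24 (toF 340831) ⊓ stabilizer M24 (fam 4 qx0)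

theorem qua_pack : (quartets (toF 340831)).ncard = 220 ∧ gsub gQua ≤ KQ ∧
    (∀ y ∈ yQua, fam 4 y.1 ∈ quartets (toF 340831) ∧ orbit KQ (fam 4 y.1) =
      {x | x ∈ quartets (toF 340831) ∧ pat (fam 4 qx0) x = y.2.1} ∧
      (orbit KQ (fam 4 y.1)).ncard = y.2.2) ∧
    ∀ x ∈ quartets (toF 340831), ∃ y ∈ yQua, pat (fam 4 qx0) x = y.2.1 :=
  packOk_sound qua_chk stab_D0 (fun g hg _ hx => mem_stabilizer_iff.1 hg ▸ (qua_smul_iff g).2 hx)
    qx0_mem (fun _ hx => std_qua D0_mem hx) (St_single _ ▸ gsub_le_St (by decide +kernel))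
    fun _ => Iff.rfl

theorem card_KQ : Nat.card KQ = 432 := by
  have := card_eq_orbit_mul (H := stabilizer M24 (toF 340831)) (K := KQ) (x := fam 4 qx0)
    (fun _ => Iff.rfl) (fun g hg => mem_stabilizer_iff.1 hg ▸ (qua_smul_iff g).2 qx0_mem)
    fun _ hx => std_qua D0_mem hx
  rw [qua_pack.1, card_stab_dod D0_mem] at this
  omega

end Cfsg.Agent.Gol
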