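/-
Cosets of the code and the punctured code.
-/
import Cfsg.Agent.Gol.Sex

set_option autoImplicit false

namespace Cfsg.Agent.Gol

open scoped Pointwise symmDiff
open Finset MulAction

theorem exists_small (s : Finset GolayPt) : ∃ t, CW (s ∆ t) ∧ t.card ≤ 4 := by
  classical
  obtain ⟨t, ht, hm⟩ := exists_min_image (univ.filter fun t => CW (s ∆ t)) card
    ⟨s, by simp [CW.empty]⟩
  refine ⟨t, (mem_filter.1 ht).2, not_lt.1 fun h => ?_⟩
  obtain ⟨u, hu, h5⟩ := exists_subset_card_eq (n := 5) h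
  obtain ⟨o, ⟨ho, huo⟩, -⟩ := steiner_octads.2 u h5
  have := hm (t ∆ o) (mem_filter.2 ⟨mem_univ _, by
    rw [← symmDiff_assoc]; exact (mem_filter.1 ht).2.symmDiff (oct_cw ho)⟩)
  have h1 := card_symmDiff' t o
  have h2 := card_le_card (subset_inter hu huo)
  rw [(mem_octads.1 ho).2] at h1
  omega

theorem small_eq {s t u : Finset GolayPt} (ht : CW (s ∆ t)) (hu : CW (s ∆ u))
    (h : t.card + u.card < 8) : t = u := by
  have := ht.symmDiff hu
  rw [symmDiff_symmDiff_symmDiff_comm, symmDiff_self, bot_symmDiff] at this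
  have h1 := card_symmDiff' t u
  exact symmDiff_eq_bot.1 (this.eq_empty (by omega))

theorem ncard_tet {s : Finset GolayPt} (h : s.card = 4) :
    {t : Finset GolayPt | t.card ≤ 4 ∧ CW (s ∆ t)}.ncard = 6 := by
  obtain ⟨g, rfl⟩ := std_tet h
  rw [ncard_smul_eq g]
  simp only [Set.mem_ofPred_eq, card_smul_finset, ← smul_symmDiff', cw_smul_iff]
  rw [← card_fam (m := 6) (a := sx0) (by decide +kernel), ← Set.ncard_coe_finset]
  congr 1
  ext t
  constructor
  · rintro ⟨h1, h2⟩
    obtain ⟨k, hk, e⟩ := h2.exists_cw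
    have e1 : t = toF (8388615 ^^^ cw k) := by rw [toF_xor, e, symmDiff_symmDiff_cancel_left]
    have : nall (fun k => bif' (Nat.ble (pc (8388615 ^^^ cw k)) 4)
      (lany (Nat.beq (8388615 ^^^ cw k)) (unp sx0 6)) true) 4096 = true := by decide +kernel
    have := nall_iff.1 this k hk
    rw [e1, card_toF] at h1
    rw [Nat.ble_eq_true_of_le h1, bif'_true] at this
    exact mem_famL.2 ⟨_, mem_of_lany this, e1.symm⟩
  · intro ht
    obtain ⟨a, ha, rfl⟩ := mem_famL.1 ht
    have : ∀ a ∈ unp sx0 6, pc a ≤ 4 ∧ isCW (8388615 ^^^ a) = true := by decide +kernel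
    exact ⟨card_toF a ▸ (this a ha).1, toF_xor _ _ ▸ isCW_cw (this a ha).2⟩

theorem sub_mem_iff {w v : GolayPt → ZMod 2} :
    w - v ∈ golayCode ↔ CW (support₂ w ∆ support₂ v) := by
  rw [mem_code_iff, ← support_add, sub_eq_add_neg, show -v = v from funext fun i => ZMod.neg_eq_self_mod_two _]

/-- the punctured word -/
def punc (s : Finset GolayPt) : ZMod 23 → ZMod 2 := fun x => wd s (some x)

theorem punc_symmDiff (s t : Finset GolayPt) : punc (s ∆ t) = punc s + punc t :=
  funext fun x => congrFun (wd_symmDiff s t) _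

theorem norm_punc (s : Finset GolayPt) : hammingNorm (punc s) = (s.erase none).card := by
  rw [hammingNorm, ← card_map ⟨some, Option.some_injective _⟩]
  congr 1
  ext p
  cases p <;> simp [punc, wd]

theorem dist_punc (s t : Finset GolayPt) :
    hammingDist (punc s) (punc t) = ((s ∆ t).erase none).card := by
  rw [← norm_punc, punc_symmDiff, hammingDist_eq_hammingNorm,
    show -punc s = punc s from funext fun i => ZMod.neg_eq_self_mod_two _]

theorem mem_punc {u : ZMod 23 → ZMod 2} :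
    (∃ w ∈ golayCode, ∀ x : ZMod 23, u x = w (some x)) ↔ ∃ s, CW s ∧ punc s = u :=
  ⟨fun ⟨w, hw, h⟩ => ⟨_, mem_code_iff.1 hw, funext fun x => by rw [punc, wd_support, h]⟩,
    fun ⟨s, hs, h⟩ => ⟨_, cw_iff.1 hs, fun x => h ▸ rfl⟩⟩

theorem cw_eq_of_erase {s t : Finset GolayPt} (hs : CW s) (ht : CW t)
    (h : ((s ∆ t).erase none).card < 7) : s = t := by
  have := pred_card_le_card_erase (s := s ∆ t) (a := none)
  exact symmDiff_eq_bot.1 ((hs.symmDiff ht).eq_empty (by omega))

theorem ncard_punc {P : ℕ → Prop} [DecidablePred P] :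
    {u : ZMod 23 → ZMod 2 | u ∈ {u : ZMod 23 → ZMod 2 | ∃ w ∈ golayCode, ∀ x : ZMod 23,
      u x = w (some x)} ∧ P (hammingNorm u)}.ncard =
      lcnt (fun k => decide (P (pc (cw k &&& 8388607)))) (List.range 4096) := by
  refine ncard_eq_countP (f := fun k => punc (toF (cw k))) List.nodup_range (fun a ha b hb e => ?_)
    (fun u hu => ?_) fun k hk => ?_
  · rw [List.mem_range] at ha hb
    refine cw_inj ha hb (cw_eq_of_erase (cw_cw ha) (cw_cw hb) ?_)
    rw [← dist_punc, e, hammingDist_self]; norm_num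
  · obtain ⟨s, hs, rfl⟩ := mem_punc.1 hu.1
    obtain ⟨k, hk, rfl⟩ := hs.exists_cw
    exact ⟨k, List.mem_range.2 hk, rfl⟩
  · rw [Set.mem_ofPred_eq, norm_punc, decide_eq_true_iff, ← card_toF, toF_and,
      show toF 8388607 = univ.erase none by decide +kernel, inter_erase, inter_univ]
    exact and_iff_right (mem_punc.2 ⟨_, cw_cw (List.mem_range.1 hk), rfl⟩)

end Cfsg.Agent.Gol
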