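/-
Exhaustive searches with soundness proofs; packing bound; permutations matching two sets.
-/
import Cfsg.Agent.Gol.Sub

set_option autoImplicit false

namespace Cfsg.Agent.Gol

open Finset
open scoped Pointwise

noncomputable section

/-- strict filter in continuation style, with the length -/
def filtK (p : ℕ → Bool) (k : List ℕ → ℕ → Bool) (l : List ℕ) : List ℕ → ℕ → Bool :=
  List.rec k (fun a _ ih acc n => bif' (p a) (force (Nat.succ n) (ih (a :: acc))) (ih acc n)) l

theorem filtK_sound {p : ℕ → Bool} {k : List ℕ → ℕ → Bool} {l acc : List ℕ} {n : ℕ}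
    (h : filtK p k l acc n = true) (hn : acc.length ≤ n) :
    ∃ l' n', l'.length ≤ n' ∧ (∀ x, (x ∈ l ∧ p x = true) ∨ x ∈ acc → x ∈ l') ∧ k l' n' = true := by
  induction l generalizing acc n with
  | nil => exact ⟨acc, n, hn, by simp, h⟩
  | cons a l ih =>
    have e : filtK p k (a :: l) acc n =
      bif' (p a) (force (Nat.succ n) (filtK p k l (a :: acc))) (filtK p k l acc n) := rfl
    rw [e, force_eq] at h
    cases hp : p a
    · rw [hp] at h
      obtain ⟨l', n', h1, h2, h3⟩ := ih h hn
      refine ⟨l', n', h1, fun x hx => h2 x ?_, h3⟩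
      rcases hx with ⟨hx, hq⟩ | hx
      · rcases List.mem_cons.1 hx with rfl | hx
        · rw [hp] at hq; cases hq
        · exact Or.inl ⟨hx, hq⟩
      · exact Or.inr hx
    · rw [hp] at h
      obtain ⟨l', n', h1, h2, h3⟩ := ih h (by simpa using hn)
      refine ⟨l', n', h1, fun x hx => h2 x ?_, h3⟩
      rcases hx with ⟨hx, hq⟩ | hx
      · rcases List.mem_cons.1 hx with rfl | hx
        · exact Or.inr List.mem_cons_self
        · exact Or.inl ⟨hx, hq⟩
      · exact Or.inr (List.mem_cons_of_mem _ hx)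

def srchL (adj : ℕ → ℕ → Bool) (k : ℕ) (nx : ℕ → List ℕ → ℕ → Bool) (cand : List ℕ) : ℕ → Bool :=
  List.rec (fun _ => true) (fun x rest r n => bif' (Nat.ble n k) true
    (bif' (filtK (adj x) (nx x) rest [] 0) (force (Nat.pred n) r) false)) cand

/-- all `k`-cliques among the candidates pass the test `ok` -/
def srch (adj : ℕ → ℕ → Bool) (ok : List ℕ → Bool) (k : ℕ) : List ℕ → List ℕ → ℕ → Bool :=
  Nat.rec (fun acc _ _ => ok acc)
    (fun k ih acc cand n => srchL adj k (fun x => ih (x :: acc)) cand n) k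

theorem card_le_length {S : Finset ℕ} {l : List ℕ} (h : ∀ x ∈ S, x ∈ l) : S.card ≤ l.length :=
  (card_le_card fun x hx => List.mem_toFinset.2 (h x hx)).trans (List.toFinset_card_le l)

theorem srch_sound {adj : ℕ → ℕ → Bool} {ok : List ℕ → Bool} {k : ℕ} {acc cand : List ℕ} {n : ℕ}
    (h : srch adj ok k acc cand n = true) (hn : cand.length ≤ n) {S : Finset ℕ} (hS : S.card = k)
    (hc : ∀ x ∈ S, x ∈ cand) (ha : ∀ x ∈ S, ∀ y ∈ S, x ≠ y → adj x y = true) :
    ∃ l, (∀ x, x ∈ l ↔ x ∈ S ∨ x ∈ acc) ∧ ok l = true := by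
  induction k generalizing acc cand n S with
  | zero =>
    rw [card_eq_zero] at hS
    exact ⟨acc, by simp [hS], h⟩
  | succ k ih =>
    replace h : srchL adj k (fun x => srch adj ok k (x :: acc)) cand n = true := h
    induction cand generalizing n with
    | nil =>
      have := card_le_length hc
      simp [hS] at this
    | cons x rest ih2 =>
      have e : srchL adj k (fun x => srch adj ok k (x :: acc)) (x :: rest) n =
        bif' (Nat.ble n k) true (bif' (filtK (adj x) (srch adj ok k (x :: acc)) rest [] 0)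
          (force (Nat.pred n) (srchL adj k (fun x => srch adj ok k (x :: acc)) rest)) false) := rfl
      rw [e, force_eq] at h
      have hl := card_le_length hc
      have h1 : Nat.ble n k = false := by
        cases h' : Nat.ble n k
        · rfl
        · have := Nat.le_of_ble_eq_true h'
          omega
      rw [h1, bif'_false] at h
      cases h2 : filtK (adj x) (srch adj ok k (x :: acc)) rest [] 0
      · rw [h2] at h; cases h
      rw [h2, bif'_true] at h
      by_cases hx : x ∈ S
      · obtain ⟨l', n', h3, h4, h5⟩ := filtK_sound h2 (le_refl _)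
        obtain ⟨l, h6, h7⟩ := ih h5 h3 (S := S.erase x) (by rw [card_erase_of_mem hx, hS]; rfl)
          (fun y hy => h4 y (Or.inl ⟨(List.mem_cons.1 (hc y (mem_of_mem_erase hy))).resolve_left
            (ne_of_mem_erase hy), ha x hx y (mem_of_mem_erase hy) (ne_of_mem_erase hy).symm⟩))
          fun a ha' b hb' => ha a (mem_of_mem_erase ha') b (mem_of_mem_erase hb')
        refine ⟨l, fun y => ?_, h7⟩
        rw [h6, mem_erase, List.mem_cons]
        by_cases hy : y = x
        · simp [hy, hx]
        · simp [hy]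
      · have a1 : ∀ y ∈ S, y ∈ rest := fun y hy => (List.mem_cons.1 (hc y hy)).resolve_left (by
          rintro rfl; exact hx hy)
        have a2 : rest.length ≤ Nat.pred n := by
          simp only [List.length_cons] at hn
          exact Nat.le_pred_of_lt hn
        apply ih2 <;> assumption

/-- covering search: every requirement has to lie in a chosen block -/
def csrch (adj : ℕ → ℕ → Bool) (ok : List ℕ → Bool) (reqs : List ℕ) : List ℕ → List ℕ → Bool :=
  List.rec (fun acc _ => ok acc)
    (fun r _ ih acc cand => bif' (lany (fun b => Nat.beq (Nat.land r b) r) acc) (ih acc cand)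
      (lall (fun x => bif' (Nat.beq (Nat.land r x) r)
        (filtK (adj x) (fun c _ => ih (x :: acc) c) cand [] 0) true) cand)) reqs

theorem csrch_sound {adj : ℕ → ℕ → Bool} {ok : List ℕ → Bool} {reqs acc cand : List ℕ}
    (h : csrch adj ok reqs acc cand = true) {S : Set ℕ} (h1 : ∀ x ∈ acc, x ∈ S)
    (hc : ∀ x ∈ S, x ∈ cand ∨ x ∈ acc) (ha : ∀ x ∈ S, ∀ y ∈ S, x ≠ y → adj x y = true)
    (hr : ∀ r ∈ reqs, ∃ b ∈ S, r &&& b = r) : ∃ l, (∀ x ∈ l, x ∈ S) ∧ ok l = true := by
  induction reqs generalizing acc cand with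
  | nil => exact ⟨acc, h1, h⟩
  | cons r reqs ih =>
    have e : csrch adj ok (r :: reqs) acc cand =
      bif' (lany (fun b => Nat.beq (Nat.land r b) r) acc) (csrch adj ok reqs acc cand)
      (lall (fun x => bif' (Nat.beq (Nat.land r x) r)
        (filtK (adj x) (fun c _ => csrch adj ok reqs (x :: acc) c) cand [] 0) true) cand) := rfl
    rw [e] at h
    have hr' : ∀ r ∈ reqs, ∃ b ∈ S, r &&& b = r := fun r h => hr r (List.mem_cons_of_mem _ h)
    cases h2 : lany (fun b => Nat.beq (Nat.land r b) r) acc
    · rw [h2, bif'_false] at h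
      obtain ⟨b, hb, hb'⟩ := hr r List.mem_cons_self
      have hb2 : Nat.beq (Nat.land r b) r = true := Nat.beq_eq ▸ hb'
      have hbc : b ∈ cand := (hc b hb).resolve_right fun h' => by
        have := (lany_iff (p := fun b => Nat.beq (Nat.land r b) r)).2 ⟨b, h', hb2⟩
        rw [h2] at this
        cases this
      have := lall_iff.1 h b hbc
      rw [hb2, bif'_true] at this
      obtain ⟨l', n', -, h4, h5⟩ := filtK_sound this (le_refl _)
      refine ih h5 (List.forall_mem_cons.2 ⟨hb, h1⟩) (fun y hy => ?_) hr'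
      by_cases hy' : y = b
      · exact Or.inr (hy' ▸ List.mem_cons_self)
      · rcases hc y hy with h | h
        · exact Or.inl (h4 y (Or.inl ⟨h, ha b hb y hy (Ne.symm hy')⟩))
        · exact Or.inr (List.mem_cons_of_mem _ h)
    · rw [h2, bif'_true] at h
      exact ih h h1 hc hr'

attribute [irreducible] filtK srchL srch csrch

end

theorem packing {α : Type*} [DecidableEq α] (u : Finset α) (F : Finset (Finset α)) (k t : ℕ)
    (h1 : ∀ s ∈ F, s.card = k ∧ s ⊆ u) (h2 : ∀ s ∈ F, ∀ s' ∈ F, s ≠ s' → (s ∩ s').card < t) :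
    F.card * k.choose t ≤ u.card.choose t := by
  rw [← card_powersetCard t u]
  have e : (F.biUnion fun s => powersetCard t s).card = F.card * k.choose t := by
    rw [card_biUnion, sum_congr rfl (g := fun _ => k.choose t) fun s hs => by
      rw [card_powersetCard, (h1 s hs).1], sum_const, smul_eq_mul]
    intro s hs s' hs' hne
    rw [Function.onFun, disjoint_left]
    intro x hx hx'
    rw [mem_powersetCard] at hx hx'
    have := card_le_card (subset_inter hx.1 hx'.1)
    have := h2 s hs s' hs' hne
    omega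
  rw [← e]
  refine card_le_card fun x hx => ?_
  obtain ⟨s, hs, hx⟩ := mem_biUnion.1 hx
  rw [mem_powersetCard] at hx ⊢
  exact ⟨hx.1.trans (h1 s hs).2, hx.2⟩

theorem map_perm {α : Type*} [DecidableEq α] (π : Equiv.Perm α) (s : Finset α) :
    s.map π.toEmbedding = π • s := by
  ext x
  simp only [mem_smul_finset, mem_map]
  rfl

theorem exists_equiv_fiber {α β ι : Type*} [Fintype α] [Fintype β] [DecidableEq ι] (f : α → ι)
    (g : β → ι) (h : ∀ i, (univ.filter fun a => f a = i).card = (univ.filter fun b => g b = i).card) :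
    ∃ e : α ≃ β, ∀ a, g (e a) = f a := by
  refine ⟨Equiv.ofFiberEquiv fun i => Fintype.equivOfCardEq ?_, fun a => Equiv.ofFiberEquiv_map _ a⟩
  rw [Fintype.card_subtype, Fintype.card_subtype, h]

theorem exists_perm_two {α : Type*} [Fintype α] [DecidableEq α] {u s1 s2 t1 t2 : Finset α}
    (a1 : s1 ⊆ u) (a2 : s2 ⊆ u) (b1 : t1 ⊆ u) (b2 : t2 ⊆ u) (c1 : s1.card = t1.card)
    (c2 : s2.card = t2.card) (c3 : (s1 ∩ s2).card = (t1 ∩ t2).card) :
    ∃ π : Equiv.Perm α, (∀ x ∉ u, π x = x) ∧ π • s1 = t1 ∧ π • s2 = t2 := by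
  let lab : Finset α → Finset α → α → (Bool × Bool) ⊕ α := fun s t x =>
    if x ∈ u then .inl (decide (x ∈ s), decide (x ∈ t)) else .inr x
  have k : ∀ s t : Finset α, s ⊆ u → t ⊆ u →
      (univ.filter fun a => lab s t a = .inl (true, true)) = s ∩ t ∧
      (univ.filter fun a => lab s t a = .inl (true, false)) = s \ t ∧
      (univ.filter fun a => lab s t a = .inl (false, true)) = t \ s ∧
      (univ.filter fun a => lab s t a = .inl (false, false)) = u \ (s ∪ t) := by
    intro s t hs ht
    refine ⟨?_, ?_, ?_, ?_⟩ <;> ext x <;> have := @hs x <;> have := @ht x <;>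
      by_cases h : x ∈ u <;> simp [lab, h] <;> tauto
  obtain ⟨e, he⟩ := exists_equiv_fiber (lab s1 s2) (lab t1 t2) fun i => by
    obtain ⟨k1, k2, k3, k4⟩ := k s1 s2 a1 a2
    obtain ⟨l1, l2, l3, l4⟩ := k t1 t2 b1 b2
    have := card_sdiff_add_card_inter s1 s2
    have := card_sdiff_add_card_inter s2 s1
    have := card_sdiff_add_card_inter t1 t2
    have := card_sdiff_add_card_inter t2 t1
    have := card_union_add_card_inter s1 s2
    have := card_union_add_card_inter t1 t2
    rw [inter_comm s2, inter_comm t2] at *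
    rcases i with ⟨_ | _, _ | _⟩ | x
    · rw [k4, l4, card_sdiff_of_subset (union_subset a1 a2), card_sdiff_of_subset (union_subset b1 b2)]
      omega
    · rw [k3, l3]; omega
    · rw [k2, l2]; omega
    · rw [k1, l1]; omega
    · congr 1
      ext y
      by_cases h : y ∈ u <;> simp [lab, h]
  have h0 : ∀ x ∉ u, e x = x := fun x hx => by
    have := he x
    by_cases h : e x ∈ u <;> simp [lab, h, hx] at this
    exact this
  have h1 : ∀ x, (e x ∈ t1 ↔ x ∈ s1) ∧ (e x ∈ t2 ↔ x ∈ s2) := fun x => by
    have := he x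
    by_cases hx : x ∈ u
    · by_cases h : e x ∈ u <;> simp [lab, h, hx] at this
      exact this
    · rw [h0 x hx]
      exact ⟨iff_of_false (fun h => hx (b1 h)) fun h => hx (a1 h),
        iff_of_false (fun h => hx (b2 h)) fun h => hx (a2 h)⟩
  refine ⟨e, h0, ?_, ?_⟩
  · ext y
    obtain ⟨x, rfl⟩ := e.surjective y
    rw [(h1 x).1]
    exact smul_mem_smul_finset_iff (e : Equiv.Perm α)
  · ext y
    obtain ⟨x, rfl⟩ := e.surjective y
    rw [(h1 x).2]
    exact smul_mem_smul_finset_iff (e : Equiv.Perm α)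

end Cfsg.Agent.Gol
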