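/-
Uniqueness of the length-24 code.
-/
import Cfsg.Agent.Gol.Srch
import Cfsg.Agent.Gol.Flag

set_option autoImplicit false

namespace Cfsg.Agent.Gol

open Finset
open scoped Pointwise symmDiff

/-- a doubly even binary code without words of weight 4 and with more than 2048 words -/
structure GC {α : Type*} [DecidableEq α] (K : Finset (Finset α)) : Prop where
  empty : ∅ ∈ K
  sd : ∀ s ∈ K, ∀ t ∈ K, s ∆ t ∈ K
  four : ∀ s ∈ K, s.card % 4 = 0
  no4 : ∀ s ∈ K, s.card ≠ 4
  big : 2048 < K.card

section
variable {α : Type*} [DecidableEq α] {K : Finset (Finset α)}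

theorem GC.even (h : GC K) {s t : Finset α} (hs : s ∈ K) (ht : t ∈ K) : (s ∩ t).card % 2 = 0 := by
  have := card_symmDiff' s t
  have := h.four s hs
  have := h.four t ht
  have := h.four _ (h.sd s hs t ht)
  omega

theorem GC.dist (h : GC K) {s t : Finset α} (hs : s ∈ K) (ht : t ∈ K) (hne : s ≠ t) :
    8 ≤ (s ∆ t).card := by
  have := h.four _ (h.sd s hs t ht)
  have := h.no4 _ (h.sd s hs t ht)
  have : (s ∆ t).card ≠ 0 := fun e => hne (symmDiff_eq_bot.1 (card_eq_zero.1 e))
  omega

theorem compl_symmDiff_compl' [Fintype α] (s t : Finset α) : sᶜ ∆ tᶜ = s ∆ t := by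
  ext x
  simp only [mem_symmDiff, mem_compl]
  tauto

theorem symmDiff_inter_distrib_right' (s t u : Finset α) : (s ∆ t) ∩ u = (s ∩ u) ∆ (t ∩ u) := by
  ext x
  simp only [mem_symmDiff, mem_inter]
  tauto

theorem GC.card8 [Fintype α] (hα : Fintype.card α = 24) (F : Finset (Finset α))
    (h1 : ∀ s ∈ F, s.card = 8) (h2 : ∀ s ∈ F, ∀ t ∈ F, s ≠ t → 8 ≤ (s ∆ t).card) : F.card ≤ 759 := by
  have := packing univ F 8 5 (fun s hs => ⟨h1 s hs, subset_univ _⟩) fun s hs t ht hne => by
    have := card_symmDiff' s t
    have := h1 s hs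
    have := h1 t ht
    have := h2 s hs t ht hne
    omega
  rw [card_univ, hα] at this
  have e1 : Nat.choose 8 5 = 56 := by decide
  have e2 : Nat.choose 24 5 = 42504 := by decide +kernel
  rw [e1, e2] at this
  omega

theorem GC.exists_dod [Fintype α] (hα : Fintype.card α = 24) (h : GC K) : ∃ d ∈ K, d.card = 12 := by
  by_contra hd
  push Not at hd
  have c0 : (K.filter fun s => s.card = 0).card ≤ 1 :=
    card_le_one.2 fun a ha b hb => by
      rw [card_eq_zero.1 (mem_filter.1 ha).2, card_eq_zero.1 (mem_filter.1 hb).2]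
  have c24 : (K.filter fun s => s.card = 24).card ≤ 1 :=
    card_le_one.2 fun a ha b hb => by
      rw [eq_univ_of_card a ((mem_filter.1 ha).2.trans hα.symm),
        eq_univ_of_card b ((mem_filter.1 hb).2.trans hα.symm)]
  have c8 : (K.filter fun s => s.card = 8).card ≤ 759 :=
    GC.card8 hα _ (fun s hs => (mem_filter.1 hs).2) fun s hs t ht =>
      h.dist (mem_filter.1 hs).1 (mem_filter.1 ht).1
  have k : ∀ w, ∀ s ∈ (K.filter fun s => s.card = w).image compl, s.card = 24 - w ∧
      ∀ t ∈ (K.filter fun s => s.card = w).image compl, s ≠ t → 8 ≤ (s ∆ t).card := by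
    intro w s hs
    obtain ⟨s', hs', rfl⟩ := mem_image.1 hs
    refine ⟨by rw [card_compl, hα, (mem_filter.1 hs').2], fun t ht hne => ?_⟩
    obtain ⟨t', ht', rfl⟩ := mem_image.1 ht
    rw [compl_symmDiff_compl']
    exact h.dist (mem_filter.1 hs').1 (mem_filter.1 ht').1 fun e => hne (by rw [e])
  have c16 : (K.filter fun s => s.card = 16).card ≤ 759 := by
    rw [← card_image_of_injective _ compl_injective]
    exact GC.card8 hα _ (fun s hs => (k 16 s hs).1) fun s hs => (k 16 s hs).2
  have c20 : (K.filter fun s => s.card = 20).card ≤ 6 := by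
    rw [← card_image_of_injective _ compl_injective]
    have := packing univ _ 4 1 (fun s hs => ⟨(k 20 s hs).1, subset_univ _⟩) fun s hs t ht hne => by
      have := card_symmDiff' s t
      have := (k 20 s hs).1
      have := (k 20 t ht).1
      have := (k 20 s hs).2 t ht hne
      omega
    rw [card_univ, hα] at this
    simp only [Nat.choose_one_right] at this
    omega
  have := card_eq_sum_card_fiberwise (s := K) (t := {0, 8, 16, 20, 24}) (f := card) fun s hs => by
    have := h.four s hs
    have := h.no4 s hs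
    have := hd s hs
    have := card_le_univ s
    simp only [coe_insert, coe_singleton, Set.mem_insert_iff, Set.mem_singleton_iff]
    omega
  rw [sum_insert (by decide), sum_insert (by decide), sum_insert (by decide), sum_insert (by decide),
    sum_singleton] at this
  have := h.big
  omega

theorem GC.sub_dod (h : GC K) {d s : Finset α} (hd : d ∈ K) (hd' : d.card = 12) (hs : s ∈ K)
    (hsub : s ⊆ d) : s = ∅ ∨ s = d := by
  have h1 := card_symmDiff' s d
  rw [inter_eq_left.2 hsub] at h1
  have := h.four s hs
  have := h.no4 s hs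
  have := h.no4 _ (h.sd s hs d hd)
  have := card_le_card hsub
  by_cases h0 : s.card = 0
  · exact Or.inl (card_eq_zero.1 h0)
  · exact Or.inr (eq_of_subset_of_card_le hsub (by omega))

theorem GC.proj [Fintype α] (hα : Fintype.card α = 24) (h : GC K) {d : Finset α} (hd : d ∈ K)
    (hd' : d.card = 12) : K.card ≤ 4096 ∧ ∀ x ⊆ dᶜ, x.card % 2 = 0 → ∃ s ∈ K, s \ d = x := by
  let E := dᶜ.powerset.filter fun x => x.card % 2 = 0
  have h1 : K.card ≤ 2 * (K.image (· \ d)).card := by
    refine card_le_mul_card_image _ _ fun x hx => ?_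
    obtain ⟨s, hs, rfl⟩ := mem_image.1 hx
    refine (card_le_card (t := {s, s ∆ d}) fun t ht => ?_).trans card_le_two
    obtain ⟨ht, e⟩ := mem_filter.1 ht
    have : s ∆ t ⊆ d := fun y hy => by
      have := Finset.ext_iff.1 e y
      simp only [mem_symmDiff, mem_sdiff] at hy this
      tauto
    rcases h.sub_dod hd hd' (h.sd s hs t ht) this with h' | h'
    · rw [symmDiff_eq_bot.1 h']; simp
    · rw [← h']; simp
  have h2 : K.image (· \ d) ⊆ E := fun x hx => by
    obtain ⟨s, hs, rfl⟩ := mem_image.1 hx
    refine mem_filter.2 ⟨mem_powerset.2 fun y hy => mem_compl.2 (mem_sdiff.1 hy).2, ?_⟩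
    have := card_sdiff_add_card_inter s d
    have := h.even hs hd
    have := h.four s hs
    omega
  have hc : dᶜ.card = 12 := by rw [card_compl, hα, hd']
  obtain ⟨p, hp⟩ : dᶜ.Nonempty := card_pos.1 (by omega)
  have h3 : E.card ≤ 2048 := by
    have : (dᶜ.erase p).powerset.card = 2048 := by rw [card_powerset, card_erase_of_mem hp, hc]; rfl
    rw [← this]
    refine card_le_card_of_injOn (·.erase p) (fun x hx => ?_) fun x hx y hy e => ?_
    · exact mem_coe.2 (mem_powerset.2 (erase_subset_erase p (mem_powerset.1 (mem_filter.1 hx).1)))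
    · have hx := (mem_filter.1 hx).2
      have hy := (mem_filter.1 hy).2
      have e' := congrArg card e
      simp only [card_erase_eq_ite] at e'
      by_cases a : p ∈ x <;> by_cases b : p ∈ y
      · rw [← insert_erase a, ← insert_erase b]; exact congrArg _ e
      · have := card_pos.2 ⟨p, a⟩
        simp only [a, b, if_true, if_false] at e'
        omega
      · have := card_pos.2 ⟨p, b⟩
        simp only [a, b, if_true, if_false] at e'
        omega
      · rw [← erase_eq_of_notMem a, ← erase_eq_of_notMem b]; exact e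
  have := h.big
  have h4 := card_le_card h2
  refine ⟨by omega, fun x hx hx' => ?_⟩
  have h5 : (K.image (· \ d)).image (x ∆ ·) ⊆ E := fun y hy => by
    obtain ⟨z, hz, rfl⟩ := mem_image.1 hy
    obtain ⟨z1, z2⟩ := mem_filter.1 (h2 hz)
    refine mem_filter.2 ⟨mem_powerset.2 (symmDiff_subset_union.trans
      (union_subset hx (mem_powerset.1 z1))), ?_⟩
    have := card_symmDiff' x z
    omega
  have h6 := card_union_add_card_inter (K.image (· \ d)) ((K.image (· \ d)).image (x ∆ ·))
  have h7 := card_le_card (union_subset h2 h5)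
  rw [card_image_of_injective _ (symmDiff_right_injective x)] at h6
  obtain ⟨y, hy⟩ : (K.image (· \ d) ∩ (K.image (· \ d)).image (x ∆ ·)).Nonempty :=
    card_pos.1 (by omega)
  obtain ⟨s, hs, e1⟩ := mem_image.1 (mem_inter.1 hy).1
  obtain ⟨z, hz, e2⟩ := mem_image.1 (mem_inter.1 hy).2
  obtain ⟨t, ht, rfl⟩ := mem_image.1 hz
  refine ⟨_, h.sd s hs t ht, ?_⟩
  ext a
  have := Finset.ext_iff.1 (e1.trans e2.symm) a
  have := @hx a
  simp only [mem_sdiff, mem_symmDiff, mem_compl] at *
  tauto

theorem GC.comap [Fintype α] {β : Type*} [Fintype β] [DecidableEq β] (h : GC K) (e : β ≃ α) :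
    GC (univ.filter fun s : Finset β => s.map e.toEmbedding ∈ K) where
  empty := by simpa using h.empty
  sd := fun s hs t ht => by
    simp only [mem_filter, mem_univ, true_and] at *
    convert h.sd _ hs _ ht using 1
    ext x
    simp [mem_symmDiff]
  four := fun s hs => by simpa using h.four _ (mem_filter.1 hs).2
  no4 := fun s hs => by simpa using h.no4 _ (mem_filter.1 hs).2
  big := h.big.trans_le (card_le_card_of_injOn (·.map e.symm.toEmbedding)
    (fun s hs => by simpa [map_map] using hs) fun s _ t _ e => map_injective _ e)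

end

def bipT : List ℕ := [332308, 74328, 69914, 262238, 336140, 12814, 271122, 340034, 267080]

def bipP : List ℕ := [
  984818244535754528103549039458486304, 984818244535754492362982396646230048,
  984818244527292047366492925840164896, 984818244527292011625926283027908640,
  984818225966653903082278273159858208, 984818225966653938822844915972114464,
  984818225958191422345222159541536800, 984818225958191458085788802353793056,
  984818225948519719487232151589030400, 984818225948519720640153656194828800,
  984818225948519719487478442193652000, 984818225948519720640399946799450400,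
  984818244517620309920857779681200640, 984818244517620308767936275075402240,
  984818244517620309921104070285822240, 984818244517620308768182565680023840,
  984818244535754481986688855194044448, 984818244535754196062155712695994400,
  984818225948520042305253441505135104, 984818225948520051528625478351522304,
  984818244535754481986407380217334048, 984818225958191448861888999926073856,
  984818244535754196061874237719284000, 984818225958191458085261036772461056,
  984818244535754518880177002612099104, 984818244535754197215077217301792800,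
  984818225948520005411765294087080448, 984818225948520015788058835539266048,
  984818244535754518879895527635388704, 984818225958191411968400852508019200,
  984818244535754197214795742325082400, 984818225958191422344694393960204800,
  984818244527292001249632741575723040, 984818244527291715325099599077672992,
  984818225948520042305499732109756704, 984818225948520051528871768956143904,
  984818244527292001249104975994391040, 984818225966653929599191404149016864,
  984818244527291715324571833496340992, 984818225966653938822563440995404064,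
  984818244527292038143120888993777696, 984818244527291716478021103683471392,
  984818225948520005412011584691702048, 984818225948520015788305126143887648,
  984818244527292038142593123412445696, 984818225966653892705703256730962208,
  984818244527291716477493338102139392, 984818225966653903081996798183147808,
  984818225966653607934373093815420960, 984818225966653929599472879125727264,
  984818225958191127197316980197099552, 984818225958191448862416765507405856,
  984818225966653606781451589209622560, 984818225966653892705984731707672608,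
  984818225958191126044395475591301152, 984818225958191411968928618089351200,
  984818244517620605068762959025637888, 984818244517620594692469417573452288,
  984818244517620605069009249630259488, 984818244517620594692715708178073888,
  984818244517620640809329601837894144, 984818244517620631585957564991506944,
  984818244517620640809575892442515744, 984818244517620631586203855596128544,
  984818244535754528103267564481775904, 984818225958191126043867710009969152,
  984818244535754492362700921669519648, 984818225958191127196789214615767552,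
  984818244527292047365965160258832896, 984818225966653606781170114232912160,
  984818244527292011625398517446576640, 984818225966653607934091618838710560]

theorem bip_chk : filtK (fun c => bif' (Nat.beq (pc (Nat.land c 66374)) 3)
      (Nat.beq (pc (Nat.land c 12628)) 3) false)
    (srch (fun a b => Nat.beq (pc (Nat.land a b)) 3)
      (fun l => lany (fun c => lall (fun T => lany (Nat.beq (img c T)) l) bipT) bipP) 9 [])
    (subsL [1, 2, 3, 4, 6, 8, 9, 12, 13, 16, 18] 6) [] 0 = true := by decide +kernel

theorem bip_chk2 : lall (fun c => okP c && Nat.beq (img c 66374) 66374 &&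
    Nat.beq (img c 12628) 12628 && nall (fun i => bit 340830 i || Nat.beq (ap c i) i) 24) bipP = true := by
  decide +kernel

theorem sub_len : ∀ p, p ∈ toF 340830 → idx p ∈ [1, 2, 3, 4, 6, 8, 9, 12, 13, 16, 18] := by
  intro p hp
  rw [mem_toF] at hp
  revert p
  decide +kernel

theorem biplane0 {F : Finset (Finset GolayPt)} (h1 : F.card = 11)
    (h2 : ∀ s ∈ F, s ⊆ toF 340830 ∧ s.card = 6) (h3 : ∀ s ∈ F, ∀ t ∈ F, s ≠ t → (s ∩ t).card = 3)
    (a1 : toF 66374 ∈ F) (a2 : toF 12628 ∈ F) : ∃ π : Equiv.Perm GolayPt,
      (∀ x ∉ toF 340830, π x = x) ∧ ∀ T ∈ 66374 :: 12628 :: bipT, π • toF T ∈ F := by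
  have ne : toF 12628 ≠ toF 66374 := by rw [Ne, toF_eq_iff]; decide +kernel
  let F' := (F.erase (toF 66374)).erase (toF 12628)
  have c' : F'.card = 9 := by
    rw [card_erase_of_mem (mem_erase.2 ⟨ne, a2⟩), card_erase_of_mem a1, h1]
  have m' : ∀ s ∈ F', s ∈ F := fun s hs => mem_of_mem_erase (mem_of_mem_erase hs)
  choose! cd hcd1 hcd2 using fun s (hs : s ∈ F') =>
    subsL_complete (fun p hp => sub_len p ((h2 s (m' s hs)).1 hp)) (h2 s (m' s hs)).2
  obtain ⟨l, n, b1, b2, b3⟩ := filtK_sound bip_chk (le_refl _)
  obtain ⟨l', b4, b5⟩ := srch_sound b3 b1 (S := F'.image cd)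
    (by rw [card_image_of_injOn fun s hs t ht e => by rw [← hcd2 s hs, e, hcd2 t ht], c'])
    (fun x hx => by
      obtain ⟨s, hs, rfl⟩ := mem_image.1 hx
      refine b2 _ (Or.inl ⟨hcd1 s hs, ?_⟩)
      have e1 := h3 s (m' s hs) _ a1 (ne_of_mem_erase (mem_of_mem_erase hs))
      have e2 := h3 s (m' s hs) _ a2 (ne_of_mem_erase hs)
      rw [← hcd2 s hs, card_inter_toF] at e1 e2
      show bif' (Nat.beq (pc (cd s &&& _)) 3) (Nat.beq (pc (cd s &&& _)) 3) false = true
      rw [e1, e2]; rfl)
    (fun x hx y hy hne => by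
      obtain ⟨s, hs, rfl⟩ := mem_image.1 hx
      obtain ⟨t, ht, rfl⟩ := mem_image.1 hy
      have e1 := h3 s (m' s hs) t (m' t ht) fun e => hne (by rw [e])
      rw [← hcd2 s hs, ← hcd2 t ht, card_inter_toF] at e1
      show Nat.beq (pc (cd s &&& _)) 3 = true
      rw [e1]; rfl)
  obtain ⟨c, hc, b6⟩ := lany_iff.1 b5
  have b7 := lall_iff.1 bip_chk2 c hc
  simp only [Bool.and_eq_true, Nat.beq_eq, nall_iff, Bool.or_eq_true] at b7
  obtain ⟨⟨⟨o1, o2⟩, o3⟩, o4⟩ := b7
  refine ⟨permOf c, fun x hx => ?_, fun T hT => ?_⟩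
  · obtain ⟨i, hi, rfl⟩ := exists_pt x
    rw [permOf_apply o1, idx_pt hi, (o4 i hi).resolve_left fun h => hx ((pt_mem_iff hi _).2 h)]
  · rw [permOf_smul o1]
    rcases List.mem_cons.1 hT with rfl | hT
    · rwa [o2]
    rcases List.mem_cons.1 hT with rfl | hT
    · rwa [o3]
    obtain ⟨y, hy, e⟩ := lany_iff.1 (lall_iff.1 b6 T hT)
    rw [Nat.eq_of_beq_eq_true e]
    obtain ⟨s, hs, rfl⟩ := mem_image.1 (((b4 y).1 hy).resolve_right (by simp))
    rw [hcd2 s hs]
    exact m' s hs

theorem biplane {F : Finset (Finset GolayPt)} (h1 : F.card = 11)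
    (h2 : ∀ s ∈ F, s ⊆ toF 340830 ∧ s.card = 6) (h3 : ∀ s ∈ F, ∀ t ∈ F, s ≠ t → (s ∩ t).card = 3) :
    ∃ π : Equiv.Perm GolayPt,
      (∀ x ∉ toF 340830, π x = x) ∧ ∀ T ∈ 66374 :: 12628 :: bipT, π • toF T ∈ F := by
  obtain ⟨s, hs, t, ht, hne⟩ := one_lt_card.1 (show 1 < F.card by omega)
  obtain ⟨π, p1, p2, p3⟩ := exists_perm_two (h2 s hs).1 (h2 t ht).1
    (t1 := toF 66374) (t2 := toF 12628) (by rw [subset_toF]; decide +kernel)
    (by rw [subset_toF]; decide +kernel) (by rw [(h2 s hs).2, card_toF]; decide +kernel)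
    (by rw [(h2 t ht).2, card_toF]; decide +kernel)
    (by rw [h3 s hs t ht hne, card_inter_toF]; decide +kernel)
  obtain ⟨ρ, q1, q2⟩ := biplane0 (F := π • F) (by rw [card_smul_finset, h1])
    (fun x hx => by
      obtain ⟨y, hy, rfl⟩ := mem_smul_finset.1 hx
      refine ⟨fun z hz => ?_, by rw [card_smul_finset, (h2 y hy).2]⟩
      obtain ⟨w, hw, rfl⟩ := mem_smul_finset.1 hz
      by_contra h
      have : π w = w := π.injective (p1 _ h)
      exact h (by rw [Equiv.Perm.smul_def, this]; exact (h2 y hy).1 hw))
    (fun x hx y hy hne => by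
      obtain ⟨x', hx', rfl⟩ := mem_smul_finset.1 hx
      obtain ⟨y', hy', rfl⟩ := mem_smul_finset.1 hy
      rw [← smul_finset_inter, card_smul_finset]
      exact h3 x' hx' y' hy' fun e => hne (by rw [e]))
    (p2 ▸ smul_mem_smul_finset hs) (p3 ▸ smul_mem_smul_finset ht)
  refine ⟨π⁻¹ * ρ, fun x hx => ?_, fun T hT => ?_⟩
  · rw [Equiv.Perm.mul_apply, q1 x hx, Equiv.Perm.inv_eq_iff_eq, p1 x hx]
  · rw [mul_smul, inv_smul_mem_iff]
    exact q2 T hT

/-- the dodecad part of the standard word through the extra point and `b` -/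
def bipF (b : ℕ) : ℕ := ([0, 0, 0, 0, 0, 66374, 0, 12628, 0, 0, 332308, 74328, 0, 0, 69914, 262238,
  0, 336140, 0, 12814, 271122, 340034, 267080, 0] : List ℕ).getD b 0

theorem GC.core {K : Finset (Finset GolayPt)} (h : GC K) (hd : toF 340831 ∈ K) :
    ∃ σ : Equiv.Perm GolayPt, ∀ s, CW s → σ • s ∈ K := by
  have hd' : (toF 340831).card = 12 := (mem_dodecads.1 D0_mem).2
  have e0 : toF 340830 = (toF 340831).erase (pt 0) := by
    ext p; rw [mem_erase, mem_toF, mem_toF]; revert p; decide +kernel
  have e1 : ∀ p, p ∈ toF 8047776 ↔ p ∉ toF 340831 ∧ p ≠ pt 23 := by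
    intro p; rw [mem_toF, mem_toF]; revert p; decide +kernel
  have i23 : pt 23 ∉ toF 340831 := by rw [pt23_mem]; decide +kernel
  have ex : ∀ a ∈ toF 8047776, ∃ S, S ⊆ toF 340830 ∧ S ∪ {pt 23, a} ∈ K := by
    intro a ha
    obtain ⟨a1, a2⟩ := (e1 a).1 ha
    obtain ⟨s, hs, e⟩ := (h.proj card_pt hd hd').2 {pt 23, a}
      (by simp [insert_subset_iff, i23, a1]) (by rw [card_pair a2.symm])
    have k : ∀ s ∈ K, s \ toF 340831 = {pt 23, a} → pt 0 ∉ s →
        ∃ S, S ⊆ toF 340830 ∧ S ∪ {pt 23, a} ∈ K := fun s hs e h0 =>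
      ⟨s ∩ toF 340831, fun x hx => by
        rw [e0, mem_erase]
        exact ⟨fun h' => h0 (h' ▸ (mem_inter.1 hx).1), (mem_inter.1 hx).2⟩, by
        rw [← e, union_comm, sdiff_union_inter]; exact hs⟩
    by_cases h0 : pt 0 ∈ s
    · refine k _ (h.sd s hs _ hd) ?_ ?_
      · rw [← e]; ext x; simp only [mem_sdiff, mem_symmDiff]; tauto
      · have : pt 0 ∈ toF 340831 := by rw [pt0_mem]; decide +kernel
        simp [mem_symmDiff, h0, this]
    · exact k s hs e h0
  choose! S hS1 hS2 using ex
  have sub : ∀ a ∈ toF 8047776, S a ⊆ toF 340831 := fun a ha =>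
    (hS1 a ha).trans (e0 ▸ erase_subset _ _)
  have six : ∀ T : Finset GolayPt, ∀ a b, a ∉ toF 340831 → b ∉ toF 340831 → a ≠ b →
      T ⊆ toF 340831 → T ∪ {a, b} ∈ K → T.card = 6 := by
    intro T a b ha hb hab hT hK
    have dj : Disjoint T {a, b} := by
      simp only [disjoint_insert_right, disjoint_singleton_right]
      exact ⟨fun h => ha (hT h), fun h => hb (hT h)⟩
    have c1 : (T ∪ {a, b}).card = T.card + 2 := by rw [card_union_of_disjoint dj, card_pair hab]
    have c2 : (T ∪ {a, b}) ∩ toF 340831 = T := by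
      ext x
      simp only [mem_inter, mem_union, mem_insert, mem_singleton]
      constructor
      · rintro ⟨h | rfl | rfl, h'⟩
        · exact h
        · exact absurd h' ha
        · exact absurd h' hb
      · exact fun h => ⟨Or.inl h, hT h⟩
    have c3 := card_symmDiff' (T ∪ {a, b}) (toF 340831)
    rw [c2] at c3
    have := h.four _ hK
    have := h.no4 _ hK
    have := h.no4 _ (h.sd _ hK _ hd)
    have := card_le_card hT
    omega
  have c6 : ∀ a ∈ toF 8047776, (S a).card = 6 := fun a ha =>
    six _ _ _ i23 ((e1 a).1 ha).1 ((e1 a).1 ha).2.symm (sub a ha) (hS2 a ha)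
  have c3 : ∀ a ∈ toF 8047776, ∀ b ∈ toF 8047776, a ≠ b → (S a ∩ S b).card = 3 := by
    intro a ha b hb hab
    obtain ⟨a1, a2⟩ := (e1 a).1 ha
    obtain ⟨b1, b2⟩ := (e1 b).1 hb
    have := six (S a ∆ S b) a b a1 b1 hab
      (symmDiff_subset_union.trans (union_subset (sub a ha) (sub b hb))) (by
        convert h.sd _ (hS2 a ha) _ (hS2 b hb) using 1
        ext x
        have := @sub a ha x
        have := @sub b hb x
        simp only [mem_union, mem_symmDiff, mem_insert, mem_singleton]
        by_cases x1 : x = a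
        · subst x1; tauto
        by_cases x2 : x = b
        · subst x2; tauto
        by_cases x3 : x = pt 23
        · subst x3; tauto
        tauto)
    have := card_symmDiff' (S a) (S b)
    have := c6 a ha
    have := c6 b hb
    omega
  have inj : Set.InjOn S (toF 8047776) := fun a ha b hb e => by
    by_contra hab
    have := c3 a ha b hb hab
    rw [e, inter_self, c6 b hb] at this
    omega
  obtain ⟨π, p1, p2⟩ := biplane (F := (toF 8047776).image S)
    (by rw [card_image_of_injOn inj, card_toF]; decide +kernel)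
    (fun s hs => by
      obtain ⟨a, ha, rfl⟩ := mem_image.1 hs
      exact ⟨hS1 a ha, c6 a ha⟩)
    fun s hs t ht hne => by
      obtain ⟨a, ha, rfl⟩ := mem_image.1 hs
      obtain ⟨b, hb, rfl⟩ := mem_image.1 ht
      exact c3 a ha b hb fun e => hne (by rw [e])
  have ex2 : ∀ b ∈ toF 8047776, ∃ a ∈ toF 8047776, S a = π • toF (bipF (idx b)) := by
    intro b hb
    refine mem_image.1 (p2 _ ?_)
    rw [mem_toF] at hb
    revert b
    decide +kernel
  choose! A hA1 hA2 using ex2
  have pn : ∀ x ∈ toF 8047776, π x = x := fun x hx =>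
    p1 x fun h => ((e1 x).1 hx).1 (mem_of_mem_erase (e0 ▸ h))
  have pn' : ∀ x, π x ∈ toF 8047776 → x ∈ toF 8047776 := fun x hx => by
    rwa [π.injective (pn _ hx)] at hx
  let ρ : GolayPt → GolayPt := fun x => if x ∈ toF 8047776 then A x else π x
  have ρi : Function.Injective ρ := by
    intro x y e
    by_cases hx : x ∈ toF 8047776 <;> by_cases hy : y ∈ toF 8047776 <;> simp only [ρ, hx, hy, if_true, if_false] at e
    · have := (hA2 x hx).symm.trans (e ▸ hA2 y hy)
      rw [smul_left_cancel_iff, toF_eq_iff] at this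
      rw [mem_toF] at hx hy
      revert x y
      suffices ∀ x y : GolayPt, Nat.testBit 8047776 (idx x) = true → Nat.testBit 8047776 (idx y) = true →
        pc (bipF (idx x) ^^^ bipF (idx y)) = 0 → x = y from fun x y hx hy _ h => this x y hx hy h
      decide +kernel
    · exact absurd (pn' y (e ▸ hA1 x hx)) hy
    · exact absurd (pn' x (e ▸ hA1 y hy)) hx
    · exact π.injective e
  let σ : Equiv.Perm GolayPt := Equiv.ofBijective ρ (Finite.injective_iff_bijective.1 ρi)
  have s1 : ∀ T ⊆ toF 340831, σ • T = π • T := fun T hT => by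
    rw [smul_finset_def, smul_finset_def]
    exact image_congr fun x hx => if_neg fun h => ((e1 x).1 h).1 (hT hx)
  have s2 : π • toF 340831 = toF 340831 := by
    refine eq_of_subset_of_card_le (fun z hz => ?_) (by rw [card_smul_finset])
    obtain ⟨w, hw, rfl⟩ := mem_smul_finset.1 hz
    by_contra h
    have : π w = w := π.injective (p1 _ fun h' => h (mem_of_mem_erase (e0 ▸ h')))
    exact h (by rw [Equiv.Perm.smul_def, this]; exact hw)
  have s3 : σ (pt 23) = pt 23 :=
    (if_neg fun h => ((e1 _).1 h).2 rfl).trans (p1 _ fun h' => i23 (mem_of_mem_erase (e0 ▸ h')))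
  have g : ∀ b ∈ [340831, 8455014, 8401364, 8721940, 8464984, 8474906, 8683614, 8855820, 8925710,
      9708306, 10825794, 12849992], σ • toF b ∈ K := by
    intro b hb
    rcases List.mem_cons.1 hb with rfl | hb
    · rwa [s1 _ subset_rfl, s2]
    · obtain ⟨i, hi, i1, i2, i3⟩ : ∃ i < 24, bit 8047776 i = true ∧
          pc (bipF i &&& 340831) = pc (bipF i) ∧ b = bipF i ||| (2 ^ 23 ||| 2 ^ i) := by
        revert b; decide +kernel
      have hi' := (pt_mem_iff hi _).2 i1
      rw [i3, toF_or, toF_or, toF_two_pow hi, toF_two_pow (by decide), smul_finset_union,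
        s1 _ ((subset_toF _ _).2 i2), ← insert_eq, smul_finset_insert, smul_finset_singleton]
      have := hA2 _ hi'
      rw [idx_pt hi] at this
      rw [← this, Equiv.Perm.smul_def, s3, Equiv.Perm.smul_def,
        show σ (pt i) = A (pt i) from if_pos hi']
      exact hS2 _ (hA1 _ hi')
  have g' : ∀ (l : List ℕ), (∀ b ∈ l, σ • toF b ∈ K) → ∀ m, σ • toF (lin l m) ∈ K := fun l hl m =>
    lin_ind (P := fun n => σ • toF n ∈ K) (by simpa using h.empty)
      (fun a b ha hb => by rw [toF_xor, smul_symmDiff']; exact h.sd _ ha _ hb) hl m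
  refine ⟨σ, fun s hs => ?_⟩
  obtain ⟨k, hk, rfl⟩ := hs.exists_cw
  rw [cw_eq_lin hk]
  refine g' _ (fun b hb => ?_) k
  obtain ⟨m, -, e⟩ := lany_iff.1 (lall_iff.1 (show lall (fun b => lany (fun m => Nat.beq
    (lin [340831, 8455014, 8401364, 8721940, 8464984, 8474906, 8683614, 8855820, 8925710,
      9708306, 10825794, 12849992] m) b) [2209, 2400, 2624, 3456, 896, 1698, 3424, 996, 1856, 4000,
      1640, 3280]) basL = true by decide +kernel) b hb)
  rw [← Nat.eq_of_beq_eq_true e]
  exact g' _ g m

open Classical in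
theorem card_cw : (univ.filter CW).card = 4096 := by
  rw [← card_range 4096]
  symm
  refine card_bij (fun k _ => toF (cw k)) (fun k hk => ?_) (fun a ha b hb e => ?_) fun c hc => ?_
  · exact mem_filter.2 ⟨mem_univ _, cw_cw (mem_range.1 hk)⟩
  · exact cw_inj (mem_range.1 ha) (mem_range.1 hb) e
  · obtain ⟨k, hk, e⟩ := (mem_filter.1 hc).2.exists_cw
    exact ⟨k, mem_range.2 hk, e⟩

theorem GC.uniq {α : Type*} [Fintype α] [DecidableEq α] (hα : Fintype.card α = 24)
    {K : Finset (Finset α)} (h : GC K) : ∃ e : GolayPt ≃ α, ∀ s, CW s ↔ s.map e.toEmbedding ∈ K := by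
  classical
  obtain ⟨d, hd, hd'⟩ := h.exists_dod hα
  let e0 : GolayPt ≃ α := Fintype.equivOfCardEq (card_pt.trans hα.symm)
  obtain ⟨π, -, p, -⟩ := exists_perm_two (u := univ) (s1 := toF 340831) (s2 := ∅) (t2 := ∅)
    (t1 := d.map e0.symm.toEmbedding) (subset_univ _) (subset_univ _) (subset_univ _) (subset_univ _)
    (by rw [card_map, hd', (mem_dodecads.1 D0_mem).2]) rfl (by simp)
  obtain ⟨σ, hσ⟩ := (h.comap (π.trans e0)).core (by
    rw [mem_filter, Equiv.trans_toEmbedding, ← map_map, map_perm, p, map_map]
    simpa using hd)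
  let e : GolayPt ≃ α := σ.trans (π.trans e0)
  have k : ∀ s, CW s → s.map e.toEmbedding ∈ K := fun s hs => by
    rw [Equiv.trans_toEmbedding, ← map_map, map_perm]
    exact (mem_filter.1 (hσ s hs)).2
  have e1 : (univ.filter CW).image (·.map e.toEmbedding) = K := by
    refine eq_of_subset_of_card_le (fun x hx => ?_) ?_
    · obtain ⟨s, hs, rfl⟩ := mem_image.1 hx
      exact k s (mem_filter.1 hs).2
    · rw [card_image_of_injective _ (map_injective _), card_cw]
      exact (h.proj hα hd hd').1
  refine ⟨e, fun s => ⟨k s, fun hs => ?_⟩⟩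
  rw [← e1] at hs
  obtain ⟨t, ht, e'⟩ := mem_image.1 hs
  rw [← map_injective _ e']
  exact (mem_filter.1 ht).2

open Classical in
theorem gc_cw : GC (univ.filter CW) where
  empty := by simpa using CW.empty
  sd := fun s hs t ht => mem_filter.2 ⟨mem_univ _, (mem_filter.1 hs).2.symmDiff (mem_filter.1 ht).2⟩
  four := fun s hs => by rcases (mem_filter.1 hs).2.card with h | h | h | h | h <;> rw [h]
  no4 := fun s hs => by rcases (mem_filter.1 hs).2.card with h | h | h | h | h <;> omega
  big := by rw [card_cw]; norm_num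

/-- every even subset of a dodecad is cut out by a code word -/
theorem dod_cut {d : Finset GolayPt} (hd : d ∈ dodecads) {x : Finset GolayPt} (hx : x ⊆ d)
    (hx' : x.card % 2 = 0) : ∃ s, CW s ∧ s ∩ d = x := by
  classical
  obtain ⟨s, hs, e⟩ := (gc_cw.proj card_pt (d := dᶜ) (mem_filter.2 ⟨mem_univ _, (dod_cw hd).compl⟩)
    (by rw [card_compl, card_pt, (mem_dodecads.1 hd).2])).2 x (by simpa using hx) hx'
  exact ⟨s, (mem_filter.1 hs).2, by rw [← e]; ext a; simp⟩

/-- the code is its own dual -/
theorem cw_of_even {s : Finset GolayPt} (h : ∀ c, CW c → (s ∩ c).card % 2 = 0) : CW s := by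
  have hd : (toF 340831)ᶜ ∈ dodecads := mem_dodecads.2 ⟨(dod_cw D0_mem).compl, by
    rw [card_compl, card_pt, (mem_dodecads.1 D0_mem).2]⟩
  obtain ⟨c, hc, e⟩ := dod_cut hd inter_subset_right (h _ (dod_cw hd))
  have sub : s ∆ c ⊆ toF 340831 := fun a ha => by
    have := Finset.ext_iff.1 e a
    simp only [mem_symmDiff, mem_inter, mem_compl] at ha this
    tauto
  have ev : ∀ t, CW t → ((s ∆ c) ∩ t).card % 2 = 0 := fun t ht => by
    rw [symmDiff_inter_distrib_right']
    have := card_symmDiff' (s ∩ t) (c ∩ t)
    have := h t ht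
    have := hc.even_inter ht
    omega
  have : CW (s ∆ c) := by
    by_cases h0 : s ∆ c = ∅
    · rw [h0]; exact CW.empty
    by_cases h1 : s ∆ c = toF 340831
    · rw [h1]; exact dod_cw D0_mem
    obtain ⟨a, ha⟩ := nonempty_iff_ne_empty.2 h0
    obtain ⟨b, hb, hb'⟩ := exists_of_ssubset (ssubset_of_subset_of_ne sub h1)
    have hab : a ≠ b := fun e => hb' (e ▸ ha)
    obtain ⟨t, ht, e⟩ := dod_cut D0_mem (x := {a, b}) (by simp [insert_subset_iff, sub ha, hb])
      (by rw [card_pair hab])
    have := ev t ht
    have e2 : (s ∆ c) ∩ t = {a} := by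
      ext x
      have q1 := Finset.ext_iff.1 e x
      simp only [mem_inter, mem_insert, mem_singleton] at q1 ⊢
      constructor
      · rintro ⟨h1, h2⟩
        rcases q1.1 ⟨h2, sub h1⟩ with h | h
        · exact h
        · exact absurd (h ▸ h1) hb'
      · rintro rfl
        exact ⟨ha, (q1.2 (Or.inl rfl)).1⟩
    rw [e2] at this
    simp at this
  simpa using this.symmDiff hc

end Cfsg.Agent.Gol
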